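import Cfsg.Agent.Lib.S3Simple.Eight.Strong
import Cfsg.Agent.Lib.SolvSF.CoreBalance

/-!
5.1: the core of `C(t)` meets `C(A)` trivially.

Blueprint: `blueprint/S3Free.md`, 5.1.
-/

set_option autoImplicit false
set_option linter.unusedSectionVars false
set_option linter.style.haveILetI false

namespace CfsgLib.S3Simple

open Cfsg CfsgLib.Comp CfsgLib.AfterFT.CoreSep

universe u

section Reduced

variable {M : Type u} [Group M] [Finite M] {T : Sylow 2 M}

/-- A non-trivial perfect subgroup lies in a component. -/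
theorem Red.perfect_le_comp (R : Red T) {X : Subgroup M} (hX : ⁅X, X⁆ = X) (hne : X ≠ ⊥) :
    ∃ E, IsComponent E ∧ X ≤ E := by
  haveI : Fact (Nat.Prime 2) := ⟨Nat.prime_two⟩
  by_cases hex : ∃ E : Subgroup M, IsComponent E
  swap
  · exfalso
    push Not at hex
    have hlayer : layer M = ⊥ := eq_bot_iff.mpr (sSup_le fun E hE => absurd hE (hex E))
    haveI hQ : (pCore 2 M).Normal := Subgroup.sSup_normal _ (fun _ h => h.1)
    have hTeq : (T : Subgroup M) = pCore 2 M := by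
      refine le_antisymm ((R.ctx.closed_le_gfit R.closed).trans ?_) (CfsgLib.AfterFT.CoreSep.pCore_two_le_sylow T)
      refine sup_le (hlayer.trans_le bot_le) ?_
      rw [fitting_eq_pCore Nat.prime_two R.ctx.core]
    haveI hTn : (T : Subgroup M).Normal := hTeq ▸ hQ
    haveI : Group.IsSolvable (T : Subgroup M) := by
      haveI := T.2.isNilpotent
      infer_instance
    haveI : Group.IsSolvable (M ⧸ (T : Subgroup M)) := oddSolv _ (by
      rw [← Subgroup.index_eq_card]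
      exact Nat.not_even_iff_odd.mp fun h => T.not_dvd_index (even_iff_two_dvd.mp h))
    haveI : Group.IsSolvable M := Group.isSolvable_of_ker_le_range (T : Subgroup M).subtype
      (QuotientGroup.mk' (T : Subgroup M)) (by rw [QuotientGroup.ker_mk', Subgroup.range_subtype])
    haveI : Group.IsSolvable (⊤ : Subgroup M) := inferInstance
    exact hne (eq_bot_iff.mpr (perfect_le_of_sup (X := ⊥) (N := ⊤) hX (le_sup_of_le_right le_top)
      (by rw [Subgroup.normalizer_eq_top_iff.mpr (inferInstance : (⊥ : Subgroup M).Normal)])))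
  obtain ⟨E, hE⟩ := hex
  have D := R.redComp hE
  refine ⟨E, hE, ?_⟩
  haveI := D.normal
  haveI := component_isSimple hE
  haveI := solvable_out (R.ctx.comp_listed hE)
  set C := Subgroup.centralizer (E : Set M) with hC
  have hN : ∀ x : M, x ∈ Subgroup.normalizer (E : Set M) := fun x => by
    rw [Subgroup.normalizer_eq_top_iff.mpr D.normal]
    exact Subgroup.mem_top x
  haveI : Group.IsSolvable C := by
    haveI : Group.IsNilpotent C := (IsPGroup.of_card (p := 2) (n := 1)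
      (show Nat.card C = 2 ^ 1 by rw [pow_one]; exact D.cent)).isNilpotent
    infer_instance
  refine perfect_le_of_sup (N := C) hX (fun x hx => ?_)
    (fun c _ => hN c)
  -- the image in the outer automorphism group is trivial
  let g : X →* MulAut (↥E ⧸ Subgroup.center ↥E) ⧸ (MulAut.conj (G := ↥E ⧸ Subgroup.center ↥E)).range :=
    (QuotientGroup.mk' _).comp ((actQ E).comp (Subgroup.inclusion fun y _ => hN y))
  have hperf : commutator X = ⊤ := by
    refine Subgroup.map_injective X.subtype_injective ?_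
    rw [commutator_def, Subgroup.map_commutator, ← MonoidHom.range_eq_map, Subgroup.range_subtype, hX]
  have hr : ∀ n, derivedSeries X n = ⊤ := fun n => by
    induction n with
    | zero => rfl
    | succ n ih => rw [derivedSeries_succ, ih, ← commutator_def, hperf]
  obtain ⟨n, hn⟩ := (inferInstance : Group.IsSolvable
    (MulAut (↥E ⧸ Subgroup.center ↥E) ⧸ (MulAut.conj (G := ↥E ⧸ Subgroup.center ↥E)).range)).solvable
  have h := map_derivedSeries_le_derivedSeries g n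
    (Subgroup.mem_map_of_mem g (hr n ▸ Subgroup.mem_top (⟨x, hx⟩ : X)))
  rw [hn, Subgroup.mem_bot] at h
  obtain ⟨q, hq⟩ : actQ E ⟨x, hN x⟩ ∈ (MulAut.conj (G := ↥E ⧸ Subgroup.center ↥E)).range :=
    (QuotientGroup.eq_one_iff _).mp h
  obtain ⟨e, rfl⟩ := QuotientGroup.mk'_surjective (Subgroup.center ↥E) q
  have he : actQ E ⟨(e : M), hN e⟩ = MulAut.conj (QuotientGroup.mk' (Subgroup.center ↥E) e) := by
    refine MulEquiv.ext fun r => ?_
    obtain ⟨d, rfl⟩ := QuotientGroup.mk'_surjective _ r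
    rw [actQ_apply, MulAut.conj_apply, ← map_inv, ← map_mul, ← map_mul]
    rfl
  have hc : (e : M)⁻¹ * x ∈ C := centralizes_of_actQ hE (hN _) (by
    rw [show (⟨(e : M)⁻¹ * x, hN _⟩ : Subgroup.normalizer (E : Set M)) = ⟨e, hN e⟩⁻¹ * ⟨x, hN x⟩ from rfl,
      map_mul, map_inv, he, hq, inv_mul_cancel])
  rw [show x = (e : M) * ((e : M)⁻¹ * x) by group]
  exact Subgroup.mul_mem_sup e.2 hc

end Reduced

variable {L : Type u} [Group L] [Finite L] {S : Sylow 2 L} {A : Subgroup L}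

theorem three_cycle {M : Type*} [Group M] [Finite M] {B : Subgroup M} (h4 : Nat.card B = 4) {β w : M}
    (hβ : ∀ j : ℕ, β ^ j * w * (β ^ j)⁻¹ ∈ B) (_hw : w ∈ B) (hw1 : w ≠ 1)
    (htr : ∀ x ∈ B, x ≠ 1 → ∃ i : ℕ, β ^ i * w * (β ^ i)⁻¹ = x) :
    β ^ 3 * w * (β ^ 3)⁻¹ = w ∧ ∀ q : ℕ, ¬ 3 ∣ q → β ^ q * w * (β ^ q)⁻¹ ≠ w := by
  classical
  set f : ℕ → M := fun j => β ^ j * w * (β ^ j)⁻¹ with hf
  have hstep : ∀ i j, f i = f j → f (i + 1) = f (j + 1) := fun i j e => by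
    simp only [hf] at e ⊢
    rw [pow_succ', pow_succ', show β * β ^ i * w * (β * β ^ i)⁻¹ = β * (β ^ i * w * (β ^ i)⁻¹) * β⁻¹ by group, e]
    group
  have hcancel : ∀ i j, f (i + 1) = f (j + 1) → f i = f j := fun i j e => by
    simp only [hf] at e ⊢
    rw [pow_succ', pow_succ', show β * β ^ i * w * (β * β ^ i)⁻¹ = β * (β ^ i * w * (β ^ i)⁻¹) * β⁻¹ by group,
      show β * β ^ j * w * (β * β ^ j)⁻¹ = β * (β ^ j * w * (β ^ j)⁻¹) * β⁻¹ by group] at e
    exact mul_left_cancel (mul_right_cancel e)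
  have hf0 : f 0 = w := by simp [hf]
  have hne1 : ∀ i, f i ≠ 1 := fun i e => hw1 (conj_eq_one_iff.mp e)
  have hcard : ∀ F : Finset M, (∀ x ∈ B, x ≠ 1 → x ∈ F) → 3 ≤ F.card := by
    intro F hF
    have h : Nat.card {x : B // x ≠ 1} ≤ Nat.card F :=
      Nat.card_le_card_of_injective (fun x => ⟨((x : B) : M), hF _ (x : B).2 fun e => x.2 (Subtype.ext e)⟩)
        fun x y e => Subtype.ext (Subtype.ext (congrArg (fun z : F => (z : M)) e :))
    haveI : Fintype B := Fintype.ofFinite _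
    rw [Nat.card_eq_fintype_card, Fintype.card_subtype_compl, Fintype.card_subtype_eq, ← Nat.card_eq_fintype_card,
      h4, Nat.card_eq_fintype_card, Fintype.card_coe] at h
    omega
  have h01 : f 1 ≠ f 0 := fun e => by
    have hall : ∀ i, f i = f 0 := fun i => by
      induction i with
      | zero => rfl
      | succ i ih => exact (hstep _ _ ih).trans e
    have := hcard {w} fun x hx hx1 => by
      obtain ⟨i, rfl⟩ := htr x hx hx1
      exact Finset.mem_singleton.mpr ((hall i).trans hf0)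
    rw [Finset.card_singleton] at this
    omega
  have h02 : f 2 ≠ f 0 := fun e => by
    have hall : ∀ i, f i = f 0 ∨ f i = f 1 := fun i => by
      induction i with
      | zero => exact Or.inl rfl
      | succ i ih => exact ih.elim (fun h => Or.inr (hstep _ _ h)) fun h => Or.inl ((hstep _ _ h).trans e)
    have h' := hcard {f 0, f 1} fun x hx hx1 => by
      obtain ⟨i, rfl⟩ := htr x hx hx1
      rcases hall i with h | h
      · exact Finset.mem_insert.mpr (Or.inl h)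
      · exact Finset.mem_insert_of_mem (Finset.mem_singleton.mpr h)
    have := Finset.card_le_two (a := f 0) (b := f 1)
    omega
  have h3 : f 3 = f 0 := by
    by_contra h30
    have h31 : f 3 ≠ f 1 := fun e => h02 (hcancel 2 0 e)
    have h32 : f 3 ≠ f 2 := fun e => h01 (hcancel 1 0 (hcancel 2 1 e))
    have h21 : f 2 ≠ f 1 := fun e => h01 (hcancel 1 0 e)
    let g : Fin 4 → {x : B // x ≠ 1} := fun i => ⟨⟨f i, hβ i⟩, fun e => hne1 i (congrArg Subtype.val e)⟩
    have hg : Function.Injective g := by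
      intro i j e
      have e' : f i = f j := congrArg (fun z : {x : B // x ≠ 1} => ((z : B) : M)) e
      fin_cases i <;> fin_cases j <;> first
        | rfl
        | exact absurd e' h01 | exact absurd e'.symm h01 | exact absurd e' h02 | exact absurd e'.symm h02
        | exact absurd e' h30 | exact absurd e'.symm h30 | exact absurd e' h31 | exact absurd e'.symm h31
        | exact absurd e' h32 | exact absurd e'.symm h32 | exact absurd e' h21 | exact absurd e'.symm h21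
    have h := Nat.card_le_card_of_injective g hg
    haveI : Fintype B := Fintype.ofFinite _
    rw [Nat.card_fin, Nat.card_eq_fintype_card, Fintype.card_subtype_compl, Fintype.card_subtype_eq,
      ← Nat.card_eq_fintype_card, h4] at h
    omega
  refine ⟨h3.trans hf0, fun q hq e => ?_⟩
  have hper : ∀ a r, f (3 * a + r) = f r := fun a r => by
    induction a with
    | zero => simp
    | succ a ih =>
      rw [show 3 * (a + 1) + r = 3 * a + r + 3 by ring, ← ih]
      generalize 3 * a + r = m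
      induction m with
      | zero => exact h3
      | succ m ihm => exact hstep _ _ ihm
  have h := hper (q / 3) (q % 3)
  rw [Nat.div_add_mod] at h
  have e' : f (q % 3) = f 0 := h.symm.trans (e.trans hf0.symm)
  have hr : q % 3 = 1 ∨ q % 3 = 2 := by omega
  rcases hr with r | r <;> rw [r] at e'
  · exact h01 e'
  · exact h02 e'

namespace EightHyp

variable (H : EightHyp S A)
include H

/-- The seventh power of a transitive element of order seven fixes `A`. -/
theorem exists_seven_pow : ∃ g ∈ Subgroup.normalizer (A : Set L), TransOn g A ∧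
    ∀ a ∈ A, g ^ 7 * a * (g ^ 7)⁻¹ = a := by
  classical
  obtain ⟨g, hg, htr⟩ := H.exists_seven
  refine ⟨g, hg, htr, fun a ha => ?_⟩
  rcases eq_or_ne a 1 with rfl | ha1
  · simp
  have hmem : ∀ i : ℕ, g ^ i * a * (g ^ i)⁻¹ ∈ A := fun i =>
    (Subgroup.mem_normalizer_iff.mp (pow_mem hg i) a).mp ha
  have hne1 : ∀ i : ℕ, g ^ i * a * (g ^ i)⁻¹ ≠ 1 := fun i e => ha1 (conj_eq_one_iff.mp e)
  have h7 : Nat.card {x : A // x ≠ 1} = 7 := by
    haveI : Fintype A := Fintype.ofFinite _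
    rw [Nat.card_eq_fintype_card, Fintype.card_subtype_compl, Fintype.card_subtype_eq,
      ← Nat.card_eq_fintype_card, H.card]
  -- a repetition among eight powers
  let f : ℕ → {x : A // x ≠ 1} := fun i => ⟨⟨_, hmem i⟩, fun e => hne1 i (congrArg Subtype.val e)⟩
  have hex : ∃ d, 0 < d ∧ g ^ d * a * (g ^ d)⁻¹ = a := by
    obtain ⟨i, j, hij, e⟩ : ∃ i j : Fin 8, i ≠ j ∧ f i = f j := by
      by_contra hcon
      push Not at hcon
      have hle := Nat.card_le_card_of_injective (fun i : Fin 8 => f i)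
        fun i j e => by_contra fun hne => hcon i j hne e
      rw [Nat.card_fin, h7] at hle
      omega
    have key : ∀ i j : ℕ, i < j → f i = f j → ∃ d, 0 < d ∧ g ^ d * a * (g ^ d)⁻¹ = a := by
      intro i j hlt e
      obtain ⟨d, rfl⟩ := Nat.exists_eq_add_of_lt hlt
      refine ⟨d + 1, d.succ_pos, ?_⟩
      have e' : g ^ i * a * (g ^ i)⁻¹ = g ^ i * (g ^ (d + 1) * a * (g ^ (d + 1))⁻¹) * (g ^ i)⁻¹ := by
        have ee : g ^ i * a * (g ^ i)⁻¹ = g ^ (i + d + 1) * a * (g ^ (i + d + 1))⁻¹ :=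
          congrArg (fun z : {x : A // x ≠ 1} => ((z : A) : L)) e
        rw [ee, add_assoc, pow_add]
        group
      exact (mul_left_cancel (mul_right_cancel e')).symm
    rcases lt_or_gt_of_ne (fun h : (i : ℕ) = j => hij (Fin.ext h)) with h | h
    · exact key i j h e
    · exact key j i h e.symm
  -- the least period is seven
  set d := Nat.find hex with hd
  obtain ⟨hdpos, hdfix⟩ := Nat.find_spec hex
  rw [← hd] at hdpos hdfix
  have hmod : ∀ i : ℕ, f i = f (i % d) := by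
    intro i
    have hq : ∀ q r : ℕ, g ^ (d * q + r) * a * (g ^ (d * q + r))⁻¹ = g ^ r * a * (g ^ r)⁻¹ := by
      intro q r
      induction q with
      | zero => simp
      | succ q ih =>
        rw [show d * (q + 1) + r = (d * q + r) + d by ring, pow_add]
        calc g ^ (d * q + r) * g ^ d * a * (g ^ (d * q + r) * g ^ d)⁻¹
            = g ^ (d * q + r) * (g ^ d * a * (g ^ d)⁻¹) * (g ^ (d * q + r))⁻¹ := by group
          _ = _ := by rw [hdfix, ih]
    refine Subtype.ext (Subtype.ext ?_)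
    show g ^ i * a * (g ^ i)⁻¹ = g ^ (i % d) * a * (g ^ (i % d))⁻¹
    rw [← hq (i / d) (i % d), Nat.div_add_mod]
  have hbij : Function.Bijective (fun i : Fin d => f i) := by
    refine ⟨fun i j e => ?_, fun x => ?_⟩
    · by_contra hne
      have key : ∀ i j : ℕ, i < j → j < d → f i = f j → False := by
        intro i j hlt hjd e
        obtain ⟨c, rfl⟩ := Nat.exists_eq_add_of_lt hlt
        refine Nat.find_min hex (show c + 1 < d by omega) ⟨c.succ_pos, ?_⟩
        have e' : g ^ i * a * (g ^ i)⁻¹ = g ^ i * (g ^ (c + 1) * a * (g ^ (c + 1))⁻¹) * (g ^ i)⁻¹ := by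
          have ee : g ^ i * a * (g ^ i)⁻¹ = g ^ (i + c + 1) * a * (g ^ (i + c + 1))⁻¹ :=
            congrArg (fun z : {x : A // x ≠ 1} => ((z : A) : L)) e
          rw [ee, add_assoc, pow_add]
          group
        exact (mul_left_cancel (mul_right_cancel e')).symm
      rcases lt_or_gt_of_ne (fun h : (i : ℕ) = j => hne (Fin.ext h)) with h | h
      · exact key i j h j.2 e
      · exact key j i h i.2 e.symm
    · obtain ⟨i, hi⟩ := htr a ha ha1 (x : A) (x : A).2 fun e => x.2 (Subtype.ext e)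
      exact ⟨⟨i % d, Nat.mod_lt i hdpos⟩, (hmod i).symm.trans (Subtype.ext (Subtype.ext hi))⟩
  have := Nat.card_eq_of_bijective _ hbij
  rw [Nat.card_fin, h7] at this
  rw [← this]
  exact hdfix

theorem core_C1 {t : L} {E : Subgroup (qq t)} {K C1 : Subgroup L} (hE : AtT A t E) (C : Cover t E K)
    (hKC : K ≤ C1) (hC1 : C1 ≤ cc t) {x : ↥C1} (hx : x ∈ pPrimeCore 2 ↥C1) :
    (x : L) ∈ centralizerPPrimeCore 2 t := by
  let ι : ↥C1 →* qq t := (ff t).comp (Subgroup.inclusion hC1)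
  have hι : ∀ z : ↥C1, ι z = ff t ⟨z, hC1 z.2⟩ := fun z => rfl
  set Y := (pPrimeCore 2 ↥C1).map ι with hY
  have hYodd : Odd (Nat.card Y) :=
    (Nat.coprime_two_right.mp (card_pPrimeCore_coprime 2)).of_dvd_nat (Subgroup.card_map_dvd _ _)
  have hYc : ∀ y ∈ Y, y ∈ Subgroup.centralizer (E : Set (qq t)) := by
    intro y hy e he
    have hEY : E ≤ Subgroup.normalizer (Y : Set (qq t)) := by
      intro e he
      obtain ⟨k, hk, rfl⟩ := C.surj he
      refine mem_normalizer_of_maps ?_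
      rintro _ ⟨o, ho, rfl⟩
      refine ⟨⟨k, hKC hk⟩ * o * ⟨k, hKC hk⟩⁻¹, (inferInstance : (pPrimeCore 2 ↥C1).Normal).conj_mem o ho _, ?_⟩
      rw [map_mul, map_mul, map_inv]
      rfl
    -- the commutator lies in a normal subgroup of odd order of the simple component
    haveI : IsSimpleGroup ↥E := ((QuotientGroup.quotientBot (G := ↥E)).symm.trans
      (QuotientGroup.quotientMulEquivOfEq hE.center.symm)).isSimpleGroup_congr.mpr (component_isSimple hE.comp)
    haveI hn : ((E ⊓ Y).subgroupOf E).Normal :=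
      (Subgroup.normal_subgroupOf_iff_le_normalizer inf_le_left).mpr fun z hz => mem_normalizer_of_maps fun w hw =>
        ⟨E.mul_mem (E.mul_mem hz hw.1) (E.inv_mem hz), (Subgroup.mem_normalizer_iff.mp (hEY hz) w).mp hw.2⟩
    have hbot : (E ⊓ Y).subgroupOf E = ⊥ := (hn.eq_bot_or_eq_top).resolve_right fun htop => by
      have hle : E ≤ Y := (Subgroup.subgroupOf_eq_top.mp htop).trans inf_le_right
      exact isQuasisimple_not_isSolvable hE.comp.2 (oddSolv _ (hYodd.of_dvd_nat (Subgroup.card_dvd_of_le hle)))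
    have hm : e * y * e⁻¹ * y⁻¹ ∈ E ⊓ Y := by
      refine ⟨?_, Y.mul_mem ((Subgroup.mem_normalizer_iff.mp (hEY he) y).mp hy) (Y.inv_mem hy)⟩
      rw [mul_assoc e, mul_assoc e]
      exact E.mul_mem he (hE.normal.conj_mem _ (E.inv_mem he) y)
    have h1 : (⟨_, hm.1⟩ : ↥E) ∈ (E ⊓ Y).subgroupOf E := hm
    rw [hbot, Subgroup.mem_bot] at h1
    have h2 : e * y * e⁻¹ * y⁻¹ = 1 := congrArg Subtype.val h1
    rw [mul_inv_eq_one, mul_inv_eq_iff_eq_mul] at h2
    exact h2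
  have hxY : ι x ∈ Y := ⟨x, hx, rfl⟩
  have h3 : orderOf (ι x) ∣ 2 := (Subgroup.orderOf_dvd_natCard _ (hYc _ hxY)).trans hE.cent.dvd
  have h4 : Odd (orderOf (ι x)) := hYodd.of_dvd_nat (Subgroup.orderOf_dvd_natCard _ hxY)
  have h5 : ι x = 1 := by
    rcases (Nat.dvd_prime Nat.prime_two).mp h3 with e | e
    · exact orderOf_eq_one_iff.mp e
    · rw [e] at h4
      exact absurd h4 (by decide)
  rw [hι] at h5
  exact (ff_eq_one_iff _).mp h5

variable {p : ℕ} [Fact p.Prime] {t : L}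

theorem inter_sylow (Z : Sylow p ↥(oddC A))
    (hne : (Z : Subgroup ↥(oddC A)).map (oddC A).subtype ≠ ⊥) (ht : t ∈ A) (ht1 : t ≠ 1) :
    ∃ P : Sylow p ↥(centralizerPPrimeCore 2 t),
      (P : Subgroup ↥(centralizerPPrimeCore 2 t)).map (centralizerPPrimeCore 2 t).subtype =
        (Z : Subgroup ↥(oddC A)).map (oddC A).subtype ⊓ centralizerPPrimeCore 2 t := by
  obtain ⟨P, hP⟩ := H.exists_centralized_sylow Z hne ht ht1
  set Zs := (Z : Subgroup ↥(oddC A)).map (oddC A).subtype with hZs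
  have hPR : ∀ x ∈ (P : Subgroup ↥(centralizerPPrimeCore 2 t)), (x : L) ∈ oddC A := fun x hx =>
    H.mem_oddC (hP ⟨x, hx, rfl⟩) (odd_order_core x.2)
  obtain ⟨Q, hQ⟩ := ((P.2.map (centralizerPPrimeCore 2 t).subtype).comap_subtype (K := oddC A)).exists_le_sylow
  obtain ⟨r, hr⟩ := MulAction.exists_smul_eq ↥(oddC A) Q Z
  have hrc : (r : L) ∈ cc t := H.oddC_le_cc ht r.2
  set W := (Zs ⊓ centralizerPPrimeCore 2 t).subgroupOf (centralizerPPrimeCore 2 t) with hW
  have hWp : IsPGroup p W := ((Z.2.map _).to_le inf_le_left).comap_subtype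
  obtain ⟨U, hU⟩ := hWp.exists_le_sylow
  let f : ↥(P : Subgroup ↥(centralizerPPrimeCore 2 t)) → W := fun x =>
    ⟨⟨(r : L) * (x : L) * (r : L)⁻¹,
      (Subgroup.mem_normalizer_iff.mp (cc_le_normalizer_core t hrc) _).mp (x : ↥(centralizerPPrimeCore 2 t)).2⟩,
      ⟨MulAut.conj r ⟨x, hPR x x.2⟩, by
        have h1 : MulAut.conj r ⟨(x : L), hPR x x.2⟩ ∈ (r • Q : Sylow p _).toSubgroup :=
          Subgroup.smul_mem_pointwise_smul _ _ _ (hQ ⟨x, x.2, rfl⟩)
        rwa [hr] at h1, rfl⟩,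
      (Subgroup.mem_normalizer_iff.mp (cc_le_normalizer_core t hrc) _).mp (x : ↥(centralizerPPrimeCore 2 t)).2⟩
  have hf : Function.Injective f := fun x y e => by
    have e' : (r : L) * (x : L) * (r : L)⁻¹ = r * (y : L) * (r : L)⁻¹ :=
      congrArg (fun z : W => ((z : ↥(centralizerPPrimeCore 2 t)) : L)) e
    exact Subtype.ext (Subtype.ext (mul_left_cancel (mul_right_cancel e')))
  refine ⟨U, ?_⟩
  have hWU : W = (U : Subgroup ↥(centralizerPPrimeCore 2 t)) := by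
    refine Subgroup.eq_of_le_of_card_ge hU ?_
    rw [Sylow.card_eq_multiplicity U, ← Sylow.card_eq_multiplicity P]
    exact Nat.card_le_card_of_injective f hf
  rw [← hWU, hW, Subgroup.map_subgroupOf_eq_of_le inf_le_right]

/-- Conjugation by an element of `N(A)` carries `Vsub` to `Vsub`. -/
theorem Vsub_conj {n : L} (hn : n ∈ Subgroup.normalizer (A : Set L)) (ht : t ∈ A)
    {E : Subgroup (qq t)} (hE : AtT A t E) {E' : Subgroup (qq (n * t * n⁻¹))} (hE' : AtT A (n * t * n⁻¹) E') :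
    (Vsub A t E).map (MulAut.conj n).toMonoidHom = Vsub A (n * t * n⁻¹) E' := by
  obtain ⟨E'', hE'', -, hmap⟩ := conj_component H.closed hn ht hE.comp
  have he : E'' = E' := hE'.unique E'' hE''
  subst he
  have ht' : n * t * n⁻¹ ∈ A := (Subgroup.mem_normalizer_iff.mp hn t).mp ht
  refine Subgroup.eq_of_le_of_card_ge ?_ ?_
  · rintro _ ⟨v, hv, rfl⟩
    have hvA := Vsub_le A t E hv
    have hvA' : n * v * n⁻¹ ∈ A := (Subgroup.mem_normalizer_iff.mp hn v).mp hvA
    exact (mem_Vsub (H.closed.mem_cc ht' hvA')).mpr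
      ⟨hvA', hmap v (H.closed.mem_cc ht hvA) ((mem_Vsub _).mp hv).2 _⟩
  · rw [Subgroup.card_map_of_injective (MulAut.conj n).injective, H.card_Vsub ht hE, H.card_Vsub ht' hE']

/-- The elements of `Vsub` at two different points are not the same. -/
theorem Vsub_ne {s : L} (ht : t ∈ A) (ht1 : t ≠ 1) (hs : s ∈ A) (hs1 : s ≠ 1) (hts : s ≠ t)
    {E : Subgroup (qq t)} (hE : AtT A t E) {E' : Subgroup (qq s)} (hE' : AtT A s E') :
    Vsub A t E ≠ Vsub A s E' := by
  intro heq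
  obtain ⟨g, hg, htr, h7⟩ := H.exists_seven_pow
  obtain ⟨i, rfl⟩ := htr t ht ht1 s hs hs1
  set V := Vsub A t E with hV
  have hfix : V.map (MulAut.conj (g ^ i)).toMonoidHom = V :=
    (H.Vsub_conj (pow_mem hg i) ht hE hE').trans heq.symm
  have hfix' : ∀ k : ℕ, ∀ v ∈ V, (g ^ i) ^ k * v * ((g ^ i) ^ k)⁻¹ ∈ V := by
    intro k
    induction k with
    | zero => intro v hv; simpa using hv
    | succ k ih =>
      intro v hv
      have h1 : g ^ i * v * (g ^ i)⁻¹ ∈ V := hfix.le ⟨v, hv, rfl⟩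
      have h2 := ih _ h1
      rw [pow_succ, _root_.mul_inv_rev]
      simpa [mul_assoc] using h2
  -- an exponent congruent to one modulo seven
  have hi : Nat.Coprime i 7 := Nat.coprime_comm.mp ((Nat.Prime.coprime_iff_not_dvd (by norm_num)).mpr fun hd => by
    obtain ⟨q, rfl⟩ := hd
    refine hts ?_
    have : ∀ q : ℕ, g ^ (7 * q) * t * (g ^ (7 * q))⁻¹ = t := by
      intro q
      induction q with
      | zero => simp
      | succ q ih =>
        rw [Nat.mul_succ, pow_add]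
        calc g ^ (7 * q) * g ^ 7 * t * (g ^ (7 * q) * g ^ 7)⁻¹
            = g ^ (7 * q) * (g ^ 7 * t * (g ^ 7)⁻¹) * (g ^ (7 * q))⁻¹ := by group
          _ = t := by rw [h7 t ht, ih]
    exact this q)
  obtain ⟨k, hk⟩ := Nat.exists_mul_mod_eq_one_of_coprime hi (by norm_num)
  have hg1 : ∀ v ∈ V, g * v * g⁻¹ ∈ V := by
    intro v hv
    have h := hfix' k v hv
    rw [← pow_mul] at h
    have hvA := Vsub_le A t E hv
    have e : ∀ q : ℕ, g ^ (7 * q + 1) * v * (g ^ (7 * q + 1))⁻¹ = g * v * g⁻¹ := by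
      intro q
      induction q with
      | zero => simp
      | succ q ih =>
        rw [show 7 * (q + 1) + 1 = (7 * q + 1) + 7 by ring, pow_add]
        calc g ^ (7 * q + 1) * g ^ 7 * v * (g ^ (7 * q + 1) * g ^ 7)⁻¹
            = g ^ (7 * q + 1) * (g ^ 7 * v * (g ^ 7)⁻¹) * (g ^ (7 * q + 1))⁻¹ := by group
          _ = _ := by rw [h7 v hvA, ih]
    rw [show i * k = 7 * (i * k / 7) + 1 by
      have := Nat.div_add_mod (i * k) 7
      omega, e] at h
    exact h
  obtain ⟨v, hv, hv1⟩ := V.bot_or_exists_ne_one.resolve_left fun e => by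
    have := H.card_Vsub ht hE
    rw [← hV, e, Subgroup.card_bot] at this
    omega
  have hle : A ≤ V := fun w hw => by
    rcases eq_or_ne w 1 with rfl | hw1
    · exact one_mem _
    obtain ⟨j, rfl⟩ := htr v (Vsub_le A t E hv) hv1 w hw hw1
    clear hw hw1
    induction j with
    | zero => simpa using hv
    | succ j ih =>
      rw [pow_succ', show g * g ^ j * v * (g * g ^ j)⁻¹ = g * (g ^ j * v * (g ^ j)⁻¹) * g⁻¹ by group]
      exact hg1 _ ih
  have := Subgroup.card_le_of_le hle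
  rw [H.card, hV, H.card_Vsub ht hE] at this
  omega

/-- The Sylow subgroups at two different points meet trivially. -/
theorem inter_disjoint (Z : Sylow p ↥(oddC A))
    (hne : (Z : Subgroup ↥(oddC A)).map (oddC A).subtype ≠ ⊥) (ht : t ∈ A) (ht1 : t ≠ 1) {s : L} (hs : s ∈ A)
    (hs1 : s ≠ 1) (hts : s ≠ t) {x : L} (hx : x ∈ (Z : Subgroup ↥(oddC A)).map (oddC A).subtype)
    (hxt : x ∈ centralizerPPrimeCore 2 t) (hxs : x ∈ centralizerPPrimeCore 2 s) : x = 1 := by
  by_contra hx1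
  haveI : Fact (Nat.Prime 2) := ⟨Nat.prime_two⟩
  have hxR : x ∈ oddC A := Subgroup.map_subtype_le _ hx
  have hAC : A ≤ cc x := fun a ha => AfterFT.CoreSep.mem_cc.mpr (oddC_le A hxR a ha)
  obtain ⟨T, hT, R⟩ := H.bar_red hAC (H.hyp.cc_ne_top hx1)
  have key : ∀ u ∈ A, u ≠ 1 → x ∈ centralizerPPrimeCore 2 u → ∃ E, AtT A u E ∧
      ∀ E' : Subgroup (qq x), IsComponent E' → ∀ a (ha : a ∈ Vsub A u E),
        ff x ⟨a, hAC (Vsub_le A u E ha)⟩ ∈ E' := by
    intro u hu hu1 hxu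
    obtain ⟨E, hE⟩ := H.exists_atT hu hu1
    obtain ⟨P, hP⟩ := H.inter_sylow Z hne hu hu1
    obtain ⟨K, C, hKP⟩ := H.exists_cover hE P
    rw [hP] at hKP
    have hKc := H.cover_centralizes hu hE C hKP fun a ha z hz =>
      (oddC_le A (Subgroup.map_subtype_le _ hz.1) a ha).symm
    have hKx : K ≤ cc x := fun k hk => AfterFT.CoreSep.mem_cc.mpr (hKc hk x ⟨hx, hxu⟩).symm
    refine ⟨E, hE, fun E' hE' a ha => ?_⟩
    rcases eq_or_ne a 1 with rfl | ha1
    · exact (map_one (ff x)).symm ▸ one_mem _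
    have haA := Vsub_le A u E ha
    obtain ⟨w, hw, hwK⟩ := H.cover_conj hu C hKx ha ha1 (hAC haA)
    set X := (K.subgroupOf (cc x)).map (ff x) with hX
    have hXp : ⁅X, X⁆ = X := by
      rw [hX, ← Subgroup.map_commutator]
      congr 1
      refine Subgroup.map_injective (cc x).subtype_injective ?_
      rw [Subgroup.map_commutator, Subgroup.map_subgroupOf_eq_of_le hKx, C.perfect]
    have hwX : ff x ⟨w * a * w⁻¹, hKx hwK⟩ ∈ X := ⟨_, hwK, rfl⟩
    have hne1 : X ≠ ⊥ := by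
      intro e
      have h1 := hwX
      rw [e, Subgroup.mem_bot] at h1
      have h2 := odd_order_core ((ff_eq_one_iff _).mp h1)
      rw [show w * a * w⁻¹ = MulAut.conj w a from rfl, MulEquiv.orderOf_eq, H.closed.orderOf_eq_two haA ha1] at h2
      exact absurd h2 (by decide)
    obtain ⟨E'', hE'', hXE⟩ := R.perfect_le_comp hXp hne1
    rw [R.unique hE' hE''] at hXE
    have h3 := (R.normal hE').conj_mem _ (hXE hwX) (ff x ⟨w, hw.1⟩)⁻¹
    rw [inv_inv, ← map_inv, ← map_mul, ← map_mul] at h3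
    convert h3 using 2
    exact Subtype.ext (by show a = w⁻¹ * (w * a * w⁻¹) * w; group)
  obtain ⟨Et, hEt, kt⟩ := key t ht ht1 hxt
  obtain ⟨Es, hEs, ks⟩ := key s hs hs1 hxs
  obtain ⟨E', hE'⟩ : ∃ E' : Subgroup (qq x), IsComponent E' := by
    by_contra hcon
    push Not at hcon
    obtain ⟨a, ha, ha1⟩ := (Vsub A t Et).bot_or_exists_ne_one.resolve_left fun e => by
      have := H.card_Vsub ht hEt
      rw [e, Subgroup.card_bot] at this
      omega
    obtain ⟨P, hP⟩ := H.inter_sylow Z hne ht ht1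
    obtain ⟨K, C, hKP⟩ := H.exists_cover hEt P
    rw [hP] at hKP
    have hKc := H.cover_centralizes ht hEt C hKP fun a ha z hz =>
      (oddC_le A (Subgroup.map_subtype_le _ hz.1) a ha).symm
    have hKx : K ≤ cc x := fun k hk => AfterFT.CoreSep.mem_cc.mpr (hKc hk x ⟨hx, hxt⟩).symm
    have haA := Vsub_le A t Et ha
    obtain ⟨w, -, hwK⟩ := H.cover_conj ht C hKx ha ha1 (hAC haA)
    set X := (K.subgroupOf (cc x)).map (ff x) with hX
    have hXp : ⁅X, X⁆ = X := by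
      rw [hX, ← Subgroup.map_commutator]
      congr 1
      refine Subgroup.map_injective (cc x).subtype_injective ?_
      rw [Subgroup.map_commutator, Subgroup.map_subgroupOf_eq_of_le hKx, C.perfect]
    obtain ⟨E'', hE'', -⟩ := R.perfect_le_comp hXp (by
      intro e
      have h1 : ff x ⟨w * a * w⁻¹, hKx hwK⟩ ∈ X := ⟨_, hwK, rfl⟩
      rw [e, Subgroup.mem_bot] at h1
      have h2 := odd_order_core ((ff_eq_one_iff _).mp h1)
      rw [show w * a * w⁻¹ = MulAut.conj w a from rfl, MulEquiv.orderOf_eq, H.closed.orderOf_eq_two haA ha1] at h2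
      exact absurd h2 (by decide))
    exact hcon E'' hE''
  -- both lie in the same four-group
  have hle : ∀ {u : L} {E : Subgroup (qq u)} (hu : u ∈ A) (hE : AtT A u E),
      (∀ a (ha : a ∈ Vsub A u E), ff x ⟨a, hAC (Vsub_le A u E ha)⟩ ∈ E') →
      Vsub A u E = A ⊓ (E'.comap (ff x)).map (cc x).subtype := by
    intro u E hu hE hk
    refine Subgroup.eq_of_le_of_card_ge (fun a ha => ⟨Vsub_le A u E ha, ⟨_, hk a ha, rfl⟩⟩) ?_
    rw [H.card_Vsub hu hE, ← R.card_inter hE']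
    have hmem : ∀ a : ↥(A ⊓ (E'.comap (ff x)).map (cc x).subtype),
        ff x ⟨a, hAC a.2.1⟩ ∈ (T : Subgroup (qq x)) ⊓ E' := by
      rintro ⟨a, haA, y, hy, hye⟩
      refine ⟨hT.ge ⟨⟨a, hAC haA⟩, haA, rfl⟩, ?_⟩
      exact (show y = ⟨a, hAC haA⟩ from Subtype.ext hye) ▸ hy
    refine Nat.card_le_card_of_injective (fun a => (⟨_, hmem a⟩ : ↥((T : Subgroup (qq x)) ⊓ E'))) fun a b e => ?_
    have h1 := (ff_eq_iff _ _).mp (congrArg Subtype.val e :)
    have h2 : (a : L)⁻¹ * b ∈ A := A.mul_mem (A.inv_mem a.2.1) b.2.1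
    refine Subtype.ext (inv_mul_eq_one.mp ?_)
    by_contra hne'
    have h3 := odd_order_core h1
    rw [H.closed.orderOf_eq_two h2 hne'] at h3
    exact absurd h3 (by decide)
  exact H.Vsub_ne ht ht1 hs hs1 hts hEt hEs
    ((hle ht hEt (kt E' hE')).trans (hle hs hEs (ks E' hE')).symm)

/-- 5.1. -/
theorem oddC_inf_core (ht : t ∈ A) (ht1 : t ≠ 1) : oddC A ⊓ centralizerPPrimeCore 2 t = ⊥ := by
  classical
  haveI : Fact (Nat.Prime 2) := ⟨Nat.prime_two⟩
  by_contra hne0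
  obtain ⟨q, hq, hqd⟩ := Nat.exists_prime_and_dvd
    (show Nat.card ↥(oddC A ⊓ centralizerPPrimeCore 2 t) ≠ 1 from fun e => hne0 (Subgroup.card_eq_one.mp e))
  haveI : Fact q.Prime := ⟨hq⟩
  obtain ⟨Z⟩ : Nonempty (Sylow q ↥(oddC A)) := inferInstance
  set Zs := (Z : Subgroup ↥(oddC A)).map (oddC A).subtype with hZs
  have hZne : Zs ≠ ⊥ := fun e => by
    refine Z.not_dvd_index ?_
    rw [show (Z : Subgroup ↥(oddC A)) = ⊥ from
      (Subgroup.map_eq_bot_iff_of_injective _ (oddC A).subtype_injective).mp e, Subgroup.index_bot]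
    exact hqd.trans (Subgroup.card_dvd_of_le inf_le_left)
  have hZR : Zs ≤ oddC A := Subgroup.map_subtype_le _
  have hdis := fun {u : L} (hu : u ∈ A) (hu1 : u ≠ 1) {s : L} (hs : s ∈ A) (hs1 : s ≠ 1) (hus : s ≠ u)
    {x : L} (hx : x ∈ Zs) => H.inter_disjoint Z hZne hu hu1 hs hs1 hus hx
  obtain ⟨g, hg, hgZ, htr⟩ := H.exists_trans_normalizing Z
  -- elements of order `q` in every core
  have hline : ∀ u ∈ A, u ≠ 1 → ∃ y ∈ Zs, y ∈ centralizerPPrimeCore 2 u ∧ orderOf y = q := by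
    obtain ⟨y, hy, hyt, hyo⟩ : ∃ y ∈ Zs, y ∈ centralizerPPrimeCore 2 t ∧ orderOf y = q := by
      obtain ⟨P, hP⟩ := H.inter_sylow Z hZne ht ht1
      have hd : q ∣ Nat.card (P : Subgroup ↥(centralizerPPrimeCore 2 t)) :=
        P.dvd_card_of_dvd_card (hqd.trans (Subgroup.card_dvd_of_le inf_le_right))
      obtain ⟨z, hz⟩ := exists_prime_orderOf_dvd_card' q hd
      have hmem : ((z : ↥(centralizerPPrimeCore 2 t)) : L) ∈ Zs ⊓ centralizerPPrimeCore 2 t := hP ▸ ⟨z, z.2, rfl⟩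
      exact ⟨_, hmem.1, hmem.2, by rw [Subgroup.orderOf_coe, Subgroup.orderOf_coe, hz]⟩
    intro u hu hu1
    obtain ⟨i, rfl⟩ := htr t ht ht1 u hu hu1
    refine ⟨g ^ i * y * (g ^ i)⁻¹, (Subgroup.mem_normalizer_iff.mp (pow_mem hgZ i) y).mp hy,
      CfsgLib.SolvSF.conj_mem_centralizerPPrimeCore (g ^ i) t hyt, ?_⟩
    rw [show g ^ i * y * (g ^ i)⁻¹ = MulAut.conj (g ^ i) y from rfl, MulEquiv.orderOf_eq, hyo]
  obtain ⟨E, hE⟩ := H.exists_atT ht ht1
  obtain ⟨v, hv, hv1⟩ := (Vsub A t E).bot_or_exists_ne_one.resolve_left fun e => by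
    have := H.card_Vsub ht hE
    rw [e, Subgroup.card_bot] at this
    omega
  have hvA := Vsub_le A t E hv
  have hvt : v ≠ t := fun e => H.not_mem_Vsub ht ht1 hE (e ▸ hv)
  -- `Zs` is abelian
  have habel : ∀ a ∈ Zs, ∀ b ∈ Zs, a * b = b * a := by
    intro a ha b hb
    have hcomm : ∀ u ∈ A, u ≠ 1 → (b * a)⁻¹ * (a * b) ∈ centralizerPPrimeCore 2 u := by
      intro u hu hu1
      haveI := H.imR_cyclic hu hu1
      have hac := H.oddC_le_cc hu (hZR ha)
      have hbc := H.oddC_le_cc hu (hZR hb)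
      refine (ff_eq_iff ((cc u).mul_mem hbc hac) ((cc u).mul_mem hac hbc)).mp ?_
      show ff u (⟨b, hbc⟩ * ⟨a, hac⟩) = ff u (⟨a, hac⟩ * ⟨b, hbc⟩)
      rw [map_mul, map_mul]
      exact congrArg Subtype.val (mul_comm' (⟨_, ⟨⟨b, hbc⟩, hZR hb, rfl⟩⟩ : imR A u)
        ⟨_, ⟨⟨a, hac⟩, hZR ha, rfl⟩⟩)
    exact (inv_mul_eq_one.mp (hdis ht ht1 hvA hv1 hvt
      (Zs.mul_mem (Zs.inv_mem (Zs.mul_mem hb ha)) (Zs.mul_mem ha hb))
      (hcomm t ht ht1) (hcomm v hvA hv1))).symm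
  by_cases hq3 : q = 3
  · -- seven disjoint subgroups of order three in a group of order at most nine
    subst hq3
    choose! y hyZ hyO hyo using hline
    haveI hct := H.imR_cyclic ht ht1
    haveI hcv := H.imR_cyclic hvA hv1
    let W := {z : L // z ∈ Zs ∧ z ^ 3 = 1}
    have hWle : Nat.card W ≤ 3 * 3 := by
      let F : W → {z : imR A t // z ^ 3 = 1} × {z : imR A v // z ^ 3 = 1} := fun z =>
        (⟨⟨ff t ⟨z.1, H.oddC_le_cc ht (hZR z.2.1)⟩, ⟨⟨z.1, _⟩, hZR z.2.1, rfl⟩⟩, Subtype.ext (by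
            rw [SubmonoidClass.coe_pow, ← map_pow, show (⟨z.1, H.oddC_le_cc ht (hZR z.2.1)⟩ : ↥(cc t)) ^ 3 = 1 from
              Subtype.ext z.2.2, map_one]; rfl)⟩,
         ⟨⟨ff v ⟨z.1, H.oddC_le_cc hvA (hZR z.2.1)⟩, ⟨⟨z.1, _⟩, hZR z.2.1, rfl⟩⟩, Subtype.ext (by
            rw [SubmonoidClass.coe_pow, ← map_pow, show (⟨z.1, H.oddC_le_cc hvA (hZR z.2.1)⟩ : ↥(cc v)) ^ 3 = 1 from
              Subtype.ext z.2.2, map_one]; rfl)⟩)
      have hF : Function.Injective F := by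
        intro z w e
        have e1 : ff t ⟨z.1, H.oddC_le_cc ht (hZR z.2.1)⟩ = ff t ⟨w.1, H.oddC_le_cc ht (hZR w.2.1)⟩ :=
          congrArg (fun u => ((u.1 : imR A t) : qq t)) e
        have e2 : ff v ⟨z.1, H.oddC_le_cc hvA (hZR z.2.1)⟩ = ff v ⟨w.1, H.oddC_le_cc hvA (hZR w.2.1)⟩ :=
          congrArg (fun u => ((u.2 : imR A v) : qq v)) e
        exact Subtype.ext (inv_mul_eq_one.mp (hdis ht ht1 hvA hv1 hvt (Zs.mul_mem (Zs.inv_mem z.2.1) w.2.1)
          ((ff_eq_iff _ _).mp e1) ((ff_eq_iff _ _).mp e2)))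
      have hb : ∀ {G : Type u} [Group G] [Finite G] [IsCyclic G], Nat.card {z : G // z ^ 3 = 1} ≤ 3 := by
        intro G _ _ _
        haveI := Fintype.ofFinite G
        classical
        rw [Nat.card_eq_fintype_card, Fintype.card_subtype]
        exact IsCyclic.card_pow_eq_one_le (by norm_num)
      refine (Nat.card_le_card_of_injective F hF).trans ?_
      rw [Nat.card_prod]
      exact Nat.mul_le_mul hb hb
    let f : {u : A // u ≠ 1} × Fin 2 → W := fun w => ⟨y (w.1 : A) ^ ((w.2 : ℕ) + 1),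
      Zs.pow_mem (hyZ _ (w.1 : A).2 fun e => w.1.2 (Subtype.ext e)) _, by
        rw [← pow_mul, mul_comm, pow_mul,
          show y (w.1 : A) ^ 3 = 1 from hyo (w.1 : A) (w.1 : A).2 (fun e => w.1.2 (Subtype.ext e)) ▸
            pow_orderOf_eq_one _, one_pow]⟩
    have hf : Function.Injective f := by
      rintro ⟨a, i⟩ ⟨b, j⟩ e
      have e' : y (a : A) ^ ((i : ℕ) + 1) = y (b : A) ^ ((j : ℕ) + 1) := congrArg Subtype.val e
      have ha1 : ((a : A) : L) ≠ 1 := fun e => a.2 (Subtype.ext e)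
      have hb1 : ((b : A) : L) ≠ 1 := fun e => b.2 (Subtype.ext e)
      have hab : a = b := by
        by_contra hne
        have h1 := hdis (a : A).2 ha1 (b : A).2 hb1 (fun e => hne (Subtype.ext (Subtype.ext e.symm)))
          (Zs.pow_mem (hyZ _ (a : A).2 ha1) ((i : ℕ) + 1))
          (pow_mem (hyO _ (a : A).2 ha1) _) (e' ▸ pow_mem (hyO _ (b : A).2 hb1) _)
        have h2 := orderOf_dvd_of_pow_eq_one h1
        rw [hyo _ (a : A).2 ha1] at h2
        have := Nat.le_of_dvd (by omega) h2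
        have := i.2
        omega
      subst hab
      have h3 := pow_inj_mod.mp e'
      rw [hyo _ (a : A).2 ha1] at h3
      refine Prod.ext rfl (Fin.ext ?_)
      have := i.2
      have := j.2
      show (i : ℕ) = (j : ℕ)
      omega
    have h7 : Nat.card {u : A // u ≠ 1} = 7 := by
      haveI : Fintype A := Fintype.ofFinite _
      rw [Nat.card_eq_fintype_card, Fintype.card_subtype_compl, Fintype.card_subtype_eq,
        ← Nat.card_eq_fintype_card, H.card]
    have := (Nat.card_le_card_of_injective f hf).trans hWle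
    rw [Nat.card_prod, Nat.card_fin, h7] at this
    omega
  -- an element inducing a three-cycle on `Vsub`, trivial on the line and on the quotient
  obtain ⟨κ, hκA, hκt, hκE, hκtr, hκR⟩ := hE.kappa
  obtain ⟨P, hP⟩ := H.inter_sylow Z hZne ht ht1
  obtain ⟨K, C, hKP⟩ := H.exists_cover hE P
  rw [hP] at hKP
  set Pt := Zs ⊓ centralizerPPrimeCore 2 t with hPt
  have hKc := H.cover_centralizes ht hE C hKP fun a ha z hz => (oddC_le A (hZR hz.1) a ha).symm
  obtain ⟨k, hk, hkeq⟩ := C.surj hκE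
  set C1 : Subgroup L := cc t ⊓ Subgroup.centralizer (Pt : Set L) with hC1
  have hkC : k ∈ C1 := ⟨C.le hk, hKc hk⟩
  have hAC1 : A ≤ C1 := fun a ha => ⟨H.closed.mem_cc ht ha, fun z hz => (oddC_le A (hZR hz.1) a ha).symm⟩
  set N1 : Subgroup ↥C1 := (centralizerPPrimeCore 2 t).subgroupOf C1 with hN1
  haveI : N1.Normal := ⟨fun x hx c => (Subgroup.mem_normalizer_iff.mp
    (cc_le_normalizer_core t c.2.1) (x : L)).mp hx⟩
  have hN1le : N1 ≤ pPrimeCore 2 ↥C1 := le_pPrimeCore (Nat.coprime_two_right.mpr ((odd_card_core t).of_dvd_nat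
    (Subgroup.card_comap_dvd_of_injective (centralizerPPrimeCore 2 t) C1.subtype C1.subtype_injective)))
  have hknorm : QuotientGroup.mk' (pPrimeCore 2 ↥C1) ⟨k, hkC⟩ ∈
      Subgroup.normalizer (((A.subgroupOf C1).map (QuotientGroup.mk' (pPrimeCore 2 ↥C1))) : Set _) := by
    refine mem_normalizer_of_maps ?_
    rintro _ ⟨a, ha, rfl⟩
    have hca : κ * (a : L) * κ⁻¹ ∈ A := (Subgroup.mem_normalizer_iff.mp hκA (a : L)).mp ha
    refine ⟨⟨_, hAC1 hca⟩, hca, ?_⟩
    rw [← map_inv, ← map_mul, ← map_mul]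
    refine QuotientGroup.eq.mpr (hN1le ?_)
    show (κ * (a : L) * κ⁻¹)⁻¹ * (k * (a : L) * k⁻¹) ∈ centralizerPPrimeCore 2 t
    refine (ff_eq_iff (H.closed.mem_cc ht hca) ((cc t).mul_mem ((cc t).mul_mem (C.le hk) a.2.1)
      ((cc t).inv_mem (C.le hk)))).mp ?_
    show ff t (⟨κ, hκt⟩ * ⟨a, a.2.1⟩ * ⟨κ, hκt⟩⁻¹) = ff t (⟨k, C.le hk⟩ * ⟨a, a.2.1⟩ * ⟨k, C.le hk⟩⁻¹)
    rw [map_mul, map_mul, map_mul, map_mul, map_inv, map_inv, hkeq]
  obtain ⟨k', hk'n, hk'e⟩ := exists_centralizing_lift (H.closed.isPGroup.comap_subtype (K := C1)) ⟨k, hkC⟩ hknorm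
  have hk'A : (k' : L) ∈ Subgroup.normalizer (A : Set L) := mem_normalizer_of_maps fun a ha =>
    (Subgroup.mem_normalizer_iff.mp hk'n ⟨a, hAC1 ha⟩).mp ha
  -- its image agrees with `κ`
  have hk'core : (k : L)⁻¹ * k' ∈ centralizerPPrimeCore 2 t := by
    have h1 := (QuotientGroup.eq (s := pPrimeCore 2 ↥C1)).mp hk'e.symm
    exact H.core_C1 (K := K) (C1 := C1) hE C (fun z hz => ⟨C.le hz, hKc hz⟩) inf_le_left h1
  -- move it into the normaliser of `Zs`
  have hC1R : ∀ z ∈ Zs, z ∈ C1 := fun z hz => ⟨H.oddC_le_cc ht (hZR hz), fun w hw => habel w hw.1 z hz⟩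
  set R1 : Subgroup ↥C1 := (oddC A).subgroupOf C1 with hR1
  let Z1 : Subgroup ↥C1 := Zs.subgroupOf C1
  have hR1n : k' ∈ Subgroup.normalizer (R1 : Set ↥C1) := mem_normalizer_of_maps fun z hz =>
    (Subgroup.mem_normalizer_iff.mp (H.normalizer_le hk'A) (z : L)).mp hz
  have hZR1 : Z1 ≤ R1 := fun z hz => hZR hz
  have hZ1S : IsPGroup q (Z1.subgroupOf R1) := (((Z.2.map _).comap_subtype (K := C1))).comap_subtype (K := R1)
  obtain ⟨Q1, hQ1⟩ := hZ1S.exists_le_sylow
  have hQ1eq : (Q1 : Subgroup ↥R1) = Z1.subgroupOf R1 := by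
    refine le_antisymm (fun w hw => ?_) hQ1
    have hle : Zs.subgroupOf (oddC A) ≤ (Q1 : Subgroup ↥R1).map
        ((C1.subtype.comp R1.subtype).codRestrict (oddC A) fun w => w.2) := fun z hz =>
      ⟨⟨⟨z, hC1R z hz⟩, z.2⟩, hQ1 hz, rfl⟩
    have hZeq : Zs.subgroupOf (oddC A) = (Z : Subgroup ↥(oddC A)) :=
      Subgroup.comap_map_eq_self_of_injective (oddC A).subtype_injective _
    have hZ := Z.3 (Q1.2.map _) (hZeq ▸ hle)
    have h4 : (⟨((w : ↥C1) : L), w.2⟩ : ↥(oddC A)) ∈ (Z : Subgroup ↥(oddC A)) := hZ ▸ ⟨w, hw, rfl⟩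
    exact (hZeq.symm ▸ h4 : (⟨((w : ↥C1) : L), w.2⟩ : ↥(oddC A)) ∈ Zs.subgroupOf (oddC A))
  let e : ↥R1 ≃* ↥R1 := MulDistribMulAction.toMulEquiv ↥R1 (⟨k', hR1n⟩ : Subgroup.normalizer (R1 : Set ↥C1))
  obtain ⟨r, hr⟩ := MulAction.exists_smul_eq ↥R1 (Q1.mapSurjective (f := e.toMonoidHom) e.surjective) Q1
  set n : L := ((r : ↥C1) : L) * (k' : L) with hn
  have hrR : ((r : ↥C1) : L) ∈ oddC A := r.2
  have hnZ : ∀ z ∈ Zs, n * z * n⁻¹ ∈ Zs := by
    intro z hz
    have h1 : MulAut.conj r (e ⟨⟨z, hC1R z hz⟩, hZR hz⟩) ∈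
        (r • Q1.mapSurjective (f := e.toMonoidHom) e.surjective : Sylow q ↥R1).toSubgroup :=
      Subgroup.smul_mem_pointwise_smul _ _ _ (Subgroup.mem_map_of_mem _ (hQ1eq.ge (show
        (⟨⟨z, hC1R z hz⟩, hZR hz⟩ : ↥R1) ∈ Z1.subgroupOf R1 from hz)))
    rw [hr, hQ1eq] at h1
    have h2 : ((r : ↥C1) : L) * ((k' : L) * z * (k' : L)⁻¹) * ((r : ↥C1) : L)⁻¹ ∈ Zs := h1
    rw [hn, show ((r : ↥C1) : L) * (k' : L) * z * (((r : ↥C1) : L) * k')⁻¹ =
      ((r : ↥C1) : L) * ((k' : L) * z * (k' : L)⁻¹) * ((r : ↥C1) : L)⁻¹ by group]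
    exact h2
  have hnC : ∀ z ∈ Pt, n * z = z * n := fun z hz => by
    have h1 := (C1.mul_mem r.1.2 k'.2).2 z hz
    exact h1.symm
  have hnA : n ∈ Subgroup.normalizer (A : Set L) :=
    mul_mem (Subgroup.centralizer_le_normalizer _ (oddC_le A hrR)) hk'A
  have hnc : n ∈ cc t := (C1.mul_mem r.1.2 k'.2).1
  have hnbar : ff t ⟨n, hnc⟩ = ff t ⟨_, r.1.2.1⟩ * ff t ⟨κ, hκt⟩ := by
    rw [show (⟨n, hnc⟩ : ↥(cc t)) = ⟨_, r.1.2.1⟩ * ⟨(k' : L), k'.2.1⟩ from rfl, map_mul, ← hkeq,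
      ← (ff_eq_iff (C.le hk) k'.2.1).mpr hk'core]
  -- trivial on `Zs` modulo the line
  haveI := H.imR_cyclic ht ht1
  have hcomm : ∀ z ∈ Zs, z⁻¹ * (n * z * n⁻¹) ∈ Pt := by
    intro z hz
    refine ⟨Zs.mul_mem (Zs.inv_mem hz) (hnZ z hz), ?_⟩
    have hzc := H.oddC_le_cc ht (hZR hz)
    refine (ff_eq_iff hzc ((cc t).mul_mem ((cc t).mul_mem hnc hzc) ((cc t).inv_mem hnc))).mp ?_
    show ff t ⟨z, hzc⟩ = ff t (⟨n, hnc⟩ * ⟨z, hzc⟩ * ⟨n, hnc⟩⁻¹)
    have hzI : ff t ⟨z, hzc⟩ ∈ imR A t := ⟨_, hZR hz, rfl⟩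
    have hrI : ff t ⟨((r : ↥C1) : L), r.1.2.1⟩ ∈ imR A t := ⟨_, hrR, rfl⟩
    have hrz : ff t ⟨((r : ↥C1) : L), r.1.2.1⟩ * ff t ⟨z, hzc⟩ = ff t ⟨z, hzc⟩ * ff t ⟨((r : ↥C1) : L), r.1.2.1⟩ :=
      congrArg Subtype.val (mul_comm' (⟨_, hrI⟩ : imR A t) ⟨_, hzI⟩)
    rw [map_mul, map_mul, map_inv, hnbar, mul_assoc (ff t ⟨((r : ↥C1) : L), r.1.2.1⟩),
      hκR _ hzI, ← mul_assoc (ff t ⟨((r : ↥C1) : L), r.1.2.1⟩), hrz]
    group
  -- so its `q`-th power centralises the elements of order `q`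
  have hfixW : ∀ z ∈ Zs, z ^ q = 1 → n ^ q * z * (n ^ q)⁻¹ = z := by
    intro z hz hzq
    set c := z⁻¹ * (n * z * n⁻¹) with hc
    have hc' := hcomm z hz
    have hiter : ∀ j : ℕ, n ^ j * z * (n ^ j)⁻¹ = z * c ^ j := by
      intro j
      induction j with
      | zero => simp
      | succ j ih =>
        have hnc' : n * c ^ j = c ^ j * n := hnC _ (pow_mem hc' j)
        calc n ^ (j + 1) * z * (n ^ (j + 1))⁻¹ = n * (n ^ j * z * (n ^ j)⁻¹) * n⁻¹ := by rw [pow_succ']; group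
          _ = n * z * (c ^ j * n⁻¹) := by rw [ih]; group
          _ = n * z * (n⁻¹ * (n * c ^ j) * n⁻¹) := by group
          _ = n * z * (n⁻¹ * (c ^ j * n) * n⁻¹) := by rw [hnc']
          _ = n * z * n⁻¹ * c ^ j := by group
          _ = z * c * c ^ j := by rw [hc]; group
          _ = z * c ^ (j + 1) := by rw [pow_succ', mul_assoc]
    have hcq : c ^ q = 1 := by
      have h1 : Commute z⁻¹ (n * z * n⁻¹) := habel _ (Zs.inv_mem hz) _ (hnZ z hz)
      rw [hc, h1.mul_pow, inv_pow, hzq, inv_one, one_mul, conj_pow, hzq, mul_one, mul_inv_cancel]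
    rw [hiter q, hcq, mul_one]
  -- but it moves `v`
  set v' := n ^ q * v * (n ^ q)⁻¹ with hv'
  have hv'A : v' ∈ A := (Subgroup.mem_normalizer_iff.mp (pow_mem hnA q) v).mp hvA
  have hv'1 : v' ≠ 1 := fun e => hv1 (conj_eq_one_iff.mp e)
  have hvv' : v' ≠ v := by
    intro e
    set β := ff t ⟨κ, hκt⟩ with hβ
    set w := ff t ⟨v, H.closed.mem_cc ht hvA⟩ with hw
    have hwm : w ∈ imA A t ⊓ E := ⟨mem_imA hvA _, ((mem_Vsub _).mp hv).2⟩
    have hw1 : w ≠ 1 := fun e1 => hv1 (H.closed.ff_inj hvA _ e1)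
    set ρ := ff t ⟨((r : ↥C1) : L), r.1.2.1⟩ with hρ
    have hρI : ρ ∈ imR A t := ⟨_, hrR, rfl⟩
    have hρβ : Commute ρ β := (hκR ρ hρI).symm
    have h1 : (ρ * β) ^ q * w * ((ρ * β) ^ q)⁻¹ = w := by
      rw [← hnbar, hw, ← map_pow, ← map_inv, ← map_mul, ← map_mul]
      exact congrArg _ (Subtype.ext e)
    have hβA : ∀ x ∈ imA A t, β * x * β⁻¹ ∈ imA A t := by
      rintro _ ⟨a, ha, rfl⟩
      exact ⟨⟨κ, hκt⟩ * a * ⟨κ, hκt⟩⁻¹, (Subgroup.mem_normalizer_iff.mp hκA (a : L)).mp ha,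
        by rw [map_mul, map_mul, map_inv]⟩
    have hβm : ∀ x ∈ imA A t ⊓ E, β * x * β⁻¹ ∈ imA A t ⊓ E := fun x hx =>
      ⟨hβA x hx.1, E.mul_mem (E.mul_mem hκE hx.2) (E.inv_mem hκE)⟩
    have hβj : ∀ j, β ^ j * w * (β ^ j)⁻¹ ∈ imA A t ⊓ E := by
      intro j
      induction j with
      | zero => simpa using hwm
      | succ j ih =>
        rw [pow_succ', show β * β ^ j * w * (β * β ^ j)⁻¹ = β * (β ^ j * w * (β ^ j)⁻¹) * β⁻¹ by group]
        exact hβm _ ih
    rw [hρβ.mul_pow, show ρ ^ q * β ^ q * w * (ρ ^ q * β ^ q)⁻¹ =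
      ρ ^ q * (β ^ q * w * (β ^ q)⁻¹) * (ρ ^ q)⁻¹ by group, H.imR_centralizes ht (pow_mem hρI q) (hβj q).1,
      mul_inv_cancel_right] at h1
    obtain ⟨-, h3⟩ := three_cycle hE.inter hβj hwm hw1 (hκtr w hwm hw1)
    exact h3 q (fun hd => hq3 ((Nat.prime_dvd_prime_iff_eq Nat.prime_three hq).mp hd).symm) h1
  obtain ⟨y, hyZ, hyO, hyo⟩ := hline v hvA hv1
  have hy' : n ^ q * y * (n ^ q)⁻¹ ∈ centralizerPPrimeCore 2 v' :=
    CfsgLib.SolvSF.conj_mem_centralizerPPrimeCore (n ^ q) v hyO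
  rw [hfixW y hyZ (hyo ▸ pow_orderOf_eq_one y)] at hy'
  rw [hdis hvA hv1 hv'A hv'1 hvv' hyZ hyO hy', orderOf_one] at hyo
  exact hq.one_lt.ne hyo

end EightHyp

end CfsgLib.S3Simple
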