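import Cfsg.Agent.Lib.S3Simple.Eight.Local
import Cfsg.Agent.Lib.S3Simple.Perfect

/-!
A perfect subgroup of `C(t) ∩ N(P)` covering the component of `C(t)` modulo core, and how it is tied to `A`.

Blueprint: `blueprint/S3Free.md`, 5.1.
-/

set_option autoImplicit false
set_option linter.unusedSectionVars false
set_option linter.style.haveILetI false

namespace CfsgLib.S3Simple

open Cfsg CfsgLib.Comp CfsgLib.AfterFT.CoreSep

universe u

variable {L : Type u} [Group L] [Finite L]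

theorem core_le_cc (t : L) : centralizerPPrimeCore 2 t ≤ cc t := Subgroup.map_subtype_le _

theorem ff_eq_one_iff {t x : L} (h : x ∈ cc t) : ff t ⟨x, h⟩ = 1 ↔ x ∈ centralizerPPrimeCore 2 t := by
  refine ⟨fun e => mem_core_of_bar e, ?_⟩
  rintro ⟨y, hy, rfl⟩
  exact (QuotientGroup.eq_one_iff _).mpr hy

theorem ff_eq_iff {t x y : L} (hx : x ∈ cc t) (hy : y ∈ cc t) :
    ff t ⟨x, hx⟩ = ff t ⟨y, hy⟩ ↔ x⁻¹ * y ∈ centralizerPPrimeCore 2 t := by
  rw [← ff_eq_one_iff ((cc t).mul_mem ((cc t).inv_mem hx) hy),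
    show (⟨x⁻¹ * y, (cc t).mul_mem ((cc t).inv_mem hx) hy⟩ : ↥(cc t)) = ⟨x, hx⟩⁻¹ * ⟨y, hy⟩ from rfl,
    map_mul, map_inv, inv_mul_eq_one]

/-- The part of `A` inside the component. -/
def Vsub (A : Subgroup L) (t : L) (E : Subgroup (qq t)) : Subgroup L := (E.comap (ff t)).map (cc t).subtype ⊓ A

theorem mem_Vsub {A : Subgroup L} {t x : L} {E : Subgroup (qq t)} (h : x ∈ cc t) :
    x ∈ Vsub A t E ↔ x ∈ A ∧ ff t ⟨x, h⟩ ∈ E := by
  constructor
  · rintro ⟨⟨y, hy, e⟩, hx⟩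
    exact ⟨hx, (show y = ⟨x, h⟩ from Subtype.ext e) ▸ hy⟩
  · rintro ⟨hx, hE⟩
    exact ⟨⟨⟨x, h⟩, hE, rfl⟩, hx⟩

theorem Vsub_le (A : Subgroup L) (t : L) (E : Subgroup (qq t)) : Vsub A t E ≤ A := inf_le_right

/-- A perfect subgroup of `C(t)` with image `E`. -/
structure Cover (t : L) (E : Subgroup (qq t)) (K : Subgroup L) : Prop where
  le : K ≤ cc t
  perfect : ⁅K, K⁆ = K
  image : (K.subgroupOf (cc t)).map (ff t) = E

theorem Cover.mem {t : L} {E : Subgroup (qq t)} {K : Subgroup L} (C : Cover t E K) {k : L} (hk : k ∈ K) :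
    ff t ⟨k, C.le hk⟩ ∈ E :=
  C.image.le ⟨⟨k, C.le hk⟩, hk, rfl⟩

theorem Cover.surj {t : L} {E : Subgroup (qq t)} {K : Subgroup L} (C : Cover t E K) {y : qq t} (hy : y ∈ E) :
    ∃ k, ∃ hk : k ∈ K, ff t ⟨k, C.le hk⟩ = y := by
  obtain ⟨k, hk, rfl⟩ := C.image.ge hy
  exact ⟨k, hk, rfl⟩

namespace EightHyp

variable {S : Sylow 2 L} {A : Subgroup L} (H : EightHyp S A)
include H

variable {t : L} {E : Subgroup (qq t)}

theorem card_Vsub (ht : t ∈ A) (hA : AtT A t E) : Nat.card (Vsub A t E) = 4 := by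
  rw [← hA.inter]
  refine Nat.card_eq_of_bijective (fun v : Vsub A t E =>
    (⟨ff t ⟨v, H.closed.mem_cc ht (Vsub_le A t E v.2)⟩,
      mem_imA (Vsub_le A t E v.2) _, ((mem_Vsub _).mp v.2).2⟩ : ↥(imA A t ⊓ E))) ⟨fun v w e => ?_, ?_⟩
  · have h1 := (ff_eq_iff _ _).mp (congrArg Subtype.val e : ff t ⟨v, H.closed.mem_cc ht (Vsub_le A t E v.2)⟩ =
      ff t ⟨w, H.closed.mem_cc ht (Vsub_le A t E w.2)⟩)
    refine Subtype.ext (inv_mul_eq_one.mp ?_)
    by_contra hne
    have h2 := odd_order_core h1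
    rw [H.closed.orderOf_eq_two (A.mul_mem (A.inv_mem (Vsub_le A t E v.2)) (Vsub_le A t E w.2)) hne] at h2
    exact absurd h2 (by decide)
  · rintro ⟨_, ⟨a, ha, rfl⟩, hE⟩
    exact ⟨⟨a, (mem_Vsub a.2).mpr ⟨ha, hE⟩⟩, rfl⟩

theorem not_mem_Vsub (ht : t ∈ A) (ht1 : t ≠ 1) (hA : AtT A t E) : t ∉ Vsub A t E := by
  intro h
  have htc := H.closed.mem_cc ht ht
  have h1 := ((mem_Vsub htc).mp h).2
  have hz : (⟨_, h1⟩ : ↥E) ∈ Subgroup.center ↥E := Subgroup.mem_center_iff.mpr fun e => by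
    obtain ⟨w, hw⟩ := bar_surjective 2 (e : qq t)
    refine Subtype.ext ?_
    show (e : qq t) * ff t ⟨t, htc⟩ = ff t ⟨t, htc⟩ * (e : qq t)
    rw [← hw, ← map_mul, ← map_mul]
    exact congrArg _ (Subtype.ext (AfterFT.CoreSep.mem_cc.mp w.2))
  rw [hA.center, Subgroup.mem_bot] at hz
  exact ht1 (H.closed.ff_inj ht htc (congrArg Subtype.val hz))

/-- Every element of `A` is an element of `Vsub`, or `t` times one. -/
theorem Vsub_cases (ht : t ∈ A) (ht1 : t ≠ 1) (hA : AtT A t E) {a : L} (ha : a ∈ A) :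
    a ∈ Vsub A t E ∨ t * a ∈ Vsub A t E := by
  have hrel : (Vsub A t E).relIndex A = 2 := by
    have h1 := ((Vsub A t E).subgroupOf A).card_mul_index
    rw [Nat.card_congr (Subgroup.subgroupOfEquivOfLe (Vsub_le A t E)).toEquiv, H.card_Vsub ht hA, H.card] at h1
    rw [Subgroup.relIndex]
    omega
  have hidx : ((Vsub A t E).subgroupOf A).index = 2 := hrel
  have h := Subgroup.mul_mem_iff_of_index_two hidx (a := (⟨t, ht⟩ : A)) (b := ⟨a, ha⟩)
  have ht' : (⟨t, ht⟩ : A) ∉ (Vsub A t E).subgroupOf A := H.not_mem_Vsub ht ht1 hA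
  by_cases hv : a ∈ Vsub A t E
  · exact Or.inl hv
  · exact Or.inr (h.mpr ⟨fun h' => absurd h' ht', fun h' => absurd h' hv⟩)

/-- A perfect subgroup covering the component that normalises a Sylow subgroup of the core. -/
theorem exists_cover (hA : AtT A t E) {p : ℕ} [Fact p.Prime] (P : Sylow p ↥(centralizerPPrimeCore 2 t)) :
    ∃ K, Cover t E K ∧
      K ≤ Subgroup.normalizer ((P : Subgroup ↥(centralizerPPrimeCore 2 t)).map
        (centralizerPPrimeCore 2 t).subtype : Set L) := by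
  set Pl := (P : Subgroup ↥(centralizerPPrimeCore 2 t)).map (centralizerPPrimeCore 2 t).subtype with hPl
  set C := cc t
  have hOC : (centralizerPPrimeCore 2 t) ≤ C := core_le_cc t
  haveI hn : ((centralizerPPrimeCore 2 t).subgroupOf C).Normal :=
    (Subgroup.normal_subgroupOf_iff_le_normalizer hOC).mpr (cc_le_normalizer_core t)
  let e : ↥((centralizerPPrimeCore 2 t).subgroupOf C) ≃* ↥(centralizerPPrimeCore 2 t) := Subgroup.subgroupOfEquivOfLe hOC
  let P' : Sylow p ↥((centralizerPPrimeCore 2 t).subgroupOf C) := P.mapSurjective (f := e.symm.toMonoidHom) e.symm.surjective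
  set R : Subgroup ↥C := E.comap (ff t) ⊓ (Subgroup.normalizer (Pl : Set L)).subgroupOf C with hR
  have hmap : R.map (ff t) = E := by
    refine le_antisymm ((Subgroup.map_mono inf_le_left).trans (Subgroup.map_comap_le _ _)) fun y hy => ?_
    obtain ⟨x, rfl⟩ := bar_surjective 2 y
    have hx : x ∈ Subgroup.normalizer (((P' : Subgroup ↥((centralizerPPrimeCore 2 t).subgroupOf C)).map ((centralizerPPrimeCore 2 t).subgroupOf C).subtype) : Set ↥C) ⊔
        (centralizerPPrimeCore 2 t).subgroupOf C := by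
      rw [Sylow.normalizer_sup_eq_top P']
      exact Subgroup.mem_top x
    obtain ⟨m, hm, o, ho, rfl⟩ := Subgroup.mem_sup_of_normal_right.mp hx
    have hmPl : (m : L) ∈ Subgroup.normalizer (Pl : Set L) := by
      refine mem_normalizer_of_maps ?_
      rintro _ ⟨q, hq, rfl⟩
      have hq' : (⟨(q : L), hOC q.2⟩ : ↥C) ∈ (P' : Subgroup ↥((centralizerPPrimeCore 2 t).subgroupOf C)).map ((centralizerPPrimeCore 2 t).subgroupOf C).subtype :=
        ⟨e.symm q, ⟨q, hq, rfl⟩, rfl⟩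
      obtain ⟨_, ⟨q', hq'', rfl⟩, he⟩ := (Subgroup.mem_normalizer_iff.mp hm _).mp hq'
      exact ⟨q', hq'', congrArg Subtype.val he⟩
    have ho1 : ff t o = 1 := (ff_eq_one_iff o.2).mpr ho
    refine ⟨m, ⟨?_, hmPl⟩, ?_⟩
    · show ff t m ∈ E
      rwa [map_mul, ho1, mul_one] at hy
    · rw [map_mul, ho1, mul_one]
  haveI : Group.IsPerfect ↥E := hA.comp.2.1
  obtain ⟨K', hK'R, hK'p, hK'm⟩ := exists_perfect_map (ff t) R (by
    rw [hmap]; exact Subgroup.isPerfect_iff.mp ‹Group.IsPerfect ↥E›)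
  refine ⟨K'.map C.subtype, ⟨Subgroup.map_subtype_le _, ?_, ?_⟩, ?_⟩
  · rw [← Subgroup.map_commutator, hK'p]
  · rw [Subgroup.subgroupOf, Subgroup.comap_map_eq_self_of_injective C.subtype_injective, hK'm, hmap]
  · rintro _ ⟨x, hx, rfl⟩
    exact Subgroup.mem_subgroupOf.mp (hK'R hx).2

/-- An element of `Vsub` is conjugate into `K` inside each subgroup containing both. -/
theorem cover_conj (ht : t ∈ A) {K W : Subgroup L} (C : Cover t E K) (hKW : K ≤ W) {a : L}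
    (ha : a ∈ Vsub A t E) (ha1 : a ≠ 1) (haW : a ∈ W) : ∃ u ∈ W ⊓ cc t, u * a * u⁻¹ ∈ K := by
  haveI : Fact (Nat.Prime 2) := ⟨Nat.prime_two⟩
  have haA := Vsub_le A t E ha
  have hac := H.closed.mem_cc ht haA
  set α := ff t ⟨a, hac⟩ with hα
  obtain ⟨k0, hk0, hke⟩ := C.surj ((mem_Vsub hac).mp ha).2
  set U : Subgroup L := W ⊓ ((Subgroup.zpowers α).comap (ff t)).map (cc t).subtype with hU
  have hmemU : ∀ {x : L} (hx : x ∈ cc t), x ∈ W → ff t ⟨x, hx⟩ ∈ Subgroup.zpowers α → x ∈ U :=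
    fun hx hW hz => ⟨hW, ⟨⟨_, hx⟩, hz, rfl⟩⟩
  have hUc : U ≤ cc t := fun x hx => (Subgroup.map_subtype_le _) hx.2
  have hα2 : orderOf α = 2 := by
    refine orderOf_eq_prime ?_ fun e => ha1 (H.closed.ff_inj haA hac e)
    rw [hα, ← map_pow, show (⟨a, hac⟩ : ↥(cc t)) ^ 2 = 1 from Subtype.ext (H.closed.elem.2 a haA), map_one]
  have hαsq : α ^ 2 = 1 := orderOf_dvd_iff_pow_eq_one.mp hα2.dvd
  have haU : a ∈ U := hmemU hac haW (Subgroup.mem_zpowers α)
  -- a 2-element of `K` over `α`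
  obtain ⟨i, m, hm, hn⟩ := Nat.exists_eq_pow_mul_and_not_dvd (orderOf_pos k0).ne' 2 (by norm_num)
  set k := k0 ^ m with hk
  have hkK : k ∈ K := pow_mem hk0 m
  have hkα : ff t ⟨k, C.le hkK⟩ = α := by
    rw [show (⟨k, C.le hkK⟩ : ↥(cc t)) = ⟨k0, C.le hk0⟩ ^ m from rfl, map_pow, hke, ← hα, ← pow_mod_orderOf, hα2,
      Nat.two_dvd_ne_zero.mp hm, pow_one]
  have hkU : k ∈ U := hmemU (C.le hkK) (hKW hkK) (hkα ▸ Subgroup.mem_zpowers α)
  have hk2 : k ^ 2 ^ i = 1 := by rw [hk, ← pow_mul, mul_comm, ← hn, pow_orderOf_eq_one]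
  -- the Sylow subgroups of `U` have order two
  obtain ⟨Q, hQ⟩ := (zpowers_isPGroup (p := 2) (n := i) (show (⟨k, hkU⟩ : U) ^ 2 ^ i = 1 from
    Subtype.ext hk2)).exists_le_sylow
  obtain ⟨Q', hQ'⟩ := (zpowers_isPGroup (p := 2) (n := 1) (show (⟨a, haU⟩ : U) ^ 2 ^ 1 = 1 from
    Subtype.ext (by rw [SubmonoidClass.coe_pow, pow_one]; exact H.closed.elem.2 a haA))).exists_le_sylow
  have hsmall : ∀ x ∈ (Q' : Subgroup U), x = 1 ∨ x = ⟨a, haU⟩ := by
    intro x hx
    obtain ⟨z, hz⟩ := Subgroup.mem_zpowers_iff.mp (show ff t ⟨x, hUc x.2⟩ ∈ Subgroup.zpowers α by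
      obtain ⟨y, hy, hye⟩ := x.2.2
      exact (show y = ⟨(x : L), hUc x.2⟩ from Subtype.ext hye) ▸ hy)
    have hodd : ∀ y : U, y ∈ (Q' : Subgroup U) → ff t ⟨y, hUc y.2⟩ = 1 → y = 1 := by
      intro y hy hy1
      obtain ⟨j, hj⟩ := Q'.2 ⟨y, hy⟩
      exact Subtype.ext (eq_one_of_odd_of_two_pow (odd_order_core ((ff_eq_one_iff _).mp hy1)) (k := j)
        (congrArg (fun w : (Q' : Subgroup U) => ((w : U) : L)) hj :))
    rcases Int.emod_two_eq_zero_or_one z with e | e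
    · refine Or.inl (hodd x hx ?_)
      rw [← hz, ← zpow_mod_orderOf, hα2]
      show α ^ (z % ((2 : ℕ) : ℤ)) = 1
      rw [Nat.cast_ofNat, e, zpow_zero]
    · refine Or.inr ?_
      have hax : (⟨a, haU⟩ : U) * x ∈ (Q' : Subgroup U) := mul_mem (hQ' (Subgroup.mem_zpowers _)) hx
      have h1 : (⟨a, haU⟩ : U) * x = 1 := by
        refine hodd _ hax ?_
        show ff t (⟨a, hac⟩ * ⟨x, hUc x.2⟩) = 1
        rw [map_mul, ← hz, ← zpow_mod_orderOf, hα2, Nat.cast_ofNat, e, zpow_one, ← hα, ← pow_two, hαsq]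
      rw [← mul_eq_one_iff_inv_eq.mp h1]
      exact Subtype.ext (inv_eq_of_mul_eq_one_right (H.closed.sq haA))
  obtain ⟨g, hg⟩ := MulAction.exists_smul_eq U Q' Q
  have hkQ : (MulAut.conj g)⁻¹ (⟨k, hkU⟩ : U) ∈ (Q' : Subgroup U) := by
    have h1 := hQ (Subgroup.mem_zpowers (⟨k, hkU⟩ : U))
    rwa [← hg, Sylow.coe_subgroup_smul, Subgroup.mem_pointwise_smul_iff_inv_smul_mem] at h1
  refine ⟨g, ⟨g.2.1, hUc g.2⟩, ?_⟩
  rcases hsmall _ hkQ with e | e
  · exfalso
    have h1 : (⟨k, hkU⟩ : U) = 1 := (MulAut.conj g)⁻¹.injective (e.trans (map_one _).symm)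
    have hk1 : k = 1 := congrArg Subtype.val h1
    have h3 : α = 1 := hkα.symm.trans ((ff_eq_one_iff _).mpr (by rw [hk1]; exact one_mem _))
    rw [h3, orderOf_one] at hα2
    omega
  · have h1 : (⟨k, hkU⟩ : U) = g * ⟨a, haU⟩ * g⁻¹ := by
      rw [← e, MulAut.conj_inv_apply]
      group
    have h2 : k = (g : L) * a * (g : L)⁻¹ := congrArg Subtype.val h1
    exact h2 ▸ hkK

/-- When `K` centralises a subgroup normalised by `A`, so does `A`. -/
theorem centralizes_of_cover (ht : t ∈ A) (ht1 : t ≠ 1) (hA : AtT A t E) {K P : Subgroup L} (C : Cover t E K)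
    (hP : P ≤ cc t) (hAP : A ≤ Subgroup.normalizer (P : Set L)) (hKP : K ≤ Subgroup.centralizer (P : Set L)) :
    A ≤ Subgroup.centralizer (P : Set L) := by
  have hV : ∀ a ∈ Vsub A t E, a ∈ Subgroup.centralizer (P : Set L) := by
    intro a ha
    have haA := Vsub_le A t E ha
    obtain ⟨k, hk, hke⟩ := C.surj ((mem_Vsub (H.closed.mem_cc ht haA)).mp ha).2
    have ho := (ff_eq_iff _ _).mp hke
    set o := k⁻¹ * a with hodef
    intro x hx
    have hact : ∀ y ∈ P, a * y * a⁻¹ = o * y * o⁻¹ := by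
      intro y hy
      have hy' := (Subgroup.mem_normalizer_iff.mp (hAP haA) y).mp hy
      have h1 := hKP hk _ hy'
      have e1 : o * y * o⁻¹ = k⁻¹ * ((a * y * a⁻¹) * k) := by rw [hodef]; group
      rw [e1, h1, inv_mul_cancel_left]
    -- an element of odd order acting with square one acts trivially
    have hiter : ∀ n : ℕ, o ^ (2 * n) * x * (o ^ (2 * n))⁻¹ = x := by
      intro n
      induction n with
      | zero => simp
      | succ n ih =>
        have e1 : o * (o * x * o⁻¹) * o⁻¹ = x := by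
          have hx' : a * x * a⁻¹ ∈ P := (Subgroup.mem_normalizer_iff.mp (hAP haA) x).mp hx
          rw [← hact x hx, ← hact _ hx', show a * (a * x * a⁻¹) * a⁻¹ = (a * a) * x * (a * a)⁻¹ by group,
            H.closed.sq haA, one_mul, inv_one, mul_one]
        calc o ^ (2 * (n + 1)) * x * (o ^ (2 * (n + 1)))⁻¹
            = o ^ (2 * n) * (o * (o * x * o⁻¹) * o⁻¹) * (o ^ (2 * n))⁻¹ := by
              rw [Nat.mul_succ, pow_add, pow_two]; group
          _ = x := by rw [e1, ih]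
    obtain ⟨j, hj⟩ := odd_order_core ho
    have h1 := hiter (j + 1)
    rw [show 2 * (j + 1) = 2 * j + 1 + 1 by ring, pow_succ, ← hj, pow_orderOf_eq_one, one_mul, ← hact x hx] at h1
    exact (mul_inv_eq_iff_eq_mul.mp h1).symm
  intro a ha
  rcases H.Vsub_cases ht ht1 hA ha with h | h
  · exact hV a h
  · have htP : t ∈ Subgroup.centralizer (P : Set L) := fun x hx => AfterFT.CoreSep.mem_cc.mp (hP hx)
    have := mul_mem (inv_mem htP) (hV _ h)
    rwa [inv_mul_cancel_left] at this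

/-- When `A` centralises a subgroup normalised by `K`, so does `K`. -/
theorem cover_centralizes (ht : t ∈ A) (hA : AtT A t E) {K P : Subgroup L} (C : Cover t E K)
    (hKP : K ≤ Subgroup.normalizer (P : Set L)) (hAP : A ≤ Subgroup.centralizer (P : Set L)) :
    K ≤ Subgroup.centralizer (P : Set L) := by
  haveI := component_isSimple hA.comp
  set N := Subgroup.normalizer (P : Set L) with hN
  set X := K ⊓ Subgroup.centralizer (P : Set L) with hX
  have hKX : K ≤ Subgroup.normalizer (X : Set L) := fun g hg => mem_normalizer_of_maps fun x hx =>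
    ⟨K.mul_mem (K.mul_mem hg hx.1) (K.inv_mem hg), AfterFT.CoreSep.conj_mem_centralizer (hKP hg) hx.2⟩
  obtain ⟨a, ha, ha1⟩ := (Vsub A t E).bot_or_exists_ne_one.resolve_left fun e => by
    have := H.card_Vsub ht hA
    rw [e, Subgroup.card_bot] at this
    omega
  have haA := Vsub_le A t E ha
  obtain ⟨u, hu, huK⟩ := H.cover_conj ht C hKP ha ha1
    ((Subgroup.centralizer_le_normalizer _) (hAP haA))
  have huX : u * a * u⁻¹ ∈ X := ⟨huK, AfterFT.CoreSep.conj_mem_centralizer hu.1 (hAP haA)⟩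
  -- the image of `X` is a non-trivial normal subgroup of the simple component
  set Y : Subgroup ↥E := ((X.subgroupOf (cc t)).map (ff t)).subgroupOf E with hY
  have hYn : Y.Normal := ⟨by
    rintro ⟨y, hyE⟩ hy ⟨e, he⟩
    obtain ⟨k, hk, rfl⟩ := C.surj he
    obtain ⟨x, hx, hxy⟩ := (hy : y ∈ (X.subgroupOf (cc t)).map (ff t))
    exact ⟨⟨k, C.le hk⟩ * x * ⟨k, C.le hk⟩⁻¹, (Subgroup.mem_normalizer_iff.mp (hKX hk) (x : L)).mp hx, by
      rw [map_mul, map_mul, map_inv, hxy]; rfl⟩⟩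
  haveI : IsSimpleGroup ↥E := ((QuotientGroup.quotientBot (G := ↥E)).symm.trans
    (QuotientGroup.quotientMulEquivOfEq hA.center.symm)).isSimpleGroup_congr.mpr (component_isSimple hA.comp)
  have hYtop : Y = ⊤ := (hYn.eq_bot_or_eq_top).resolve_left fun e => by
    have hc := C.le huK
    have h1 : (⟨_, C.mem huK⟩ : ↥E) ∈ Y := ⟨⟨_, hc⟩, huX, rfl⟩
    rw [e, Subgroup.mem_bot] at h1
    have h2 := (ff_eq_one_iff hc).mp (congrArg Subtype.val h1)
    have h3 := odd_order_core h2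
    rw [show u * a * u⁻¹ = MulAut.conj u a from rfl, MulEquiv.orderOf_eq, H.closed.orderOf_eq_two haA ha1] at h3
    exact absurd h3 (by decide)
  set O := K ⊓ centralizerPPrimeCore 2 t with hO
  haveI : Group.IsSolvable O := oddSolv _ ((odd_card_core t).of_dvd_nat (Subgroup.card_dvd_of_le inf_le_right))
  refine (perfect_le_of_sup C.perfect ?_ (inf_le_left.trans hKX : O ≤ Subgroup.normalizer (X : Set L))).trans
    inf_le_right
  intro k hk
  obtain ⟨x, hx, hxk⟩ : (⟨_, C.mem hk⟩ : ↥E) ∈ Y := hYtop ▸ Subgroup.mem_top _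
  have h1 := (ff_eq_iff x.2 (C.le hk)).mp hxk
  rw [show k = (x : L) * ((x : L)⁻¹ * k) by group]
  exact Subgroup.mul_mem_sup hx ⟨K.mul_mem (K.inv_mem hx.1) hk, h1⟩

end EightHyp

end CfsgLib.S3Simple
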