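import Cfsg.Agent.Lib.S3Simple.Facts
import Cfsg.Agent.Lib.StSL.Two
import Cfsg.Agent.Lib.SLCard
import Mathlib.FieldTheory.Fixed

/-!
An automorphism of odd prime order of `L₂(3^(2n+1))` fixing a four-group: its fixed points are insoluble, or its order
is `2n+1` and it fixes at most twelve elements.

Blueprint: `blueprint/S3Free.md`, F4.
-/

set_option autoImplicit false
set_option linter.unusedSectionVars false
set_option linter.style.haveILetI false

namespace CfsgLib.S3Simple

open Cfsg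

universe u

/-- The fixed points of an automorphism. -/
def fixPts {K : Type u} [Group K] (φ : MulAut K) : Subgroup K := φ.toMonoidHom.eqLocus (MonoidHom.id K)

theorem mem_fixPts {K : Type u} [Group K] {φ : MulAut K} {x : K} : x ∈ fixPts φ ↔ φ x = x := Iff.rfl

theorem fixPts_conj {K : Type u} [Group K] (ψ φ : MulAut K) :
    fixPts (ψ * φ * ψ⁻¹) = (fixPts φ).map ψ.toMonoidHom := by
  ext x
  rw [Subgroup.mem_map_equiv, mem_fixPts, mem_fixPts, MulAut.mul_apply, MulAut.mul_apply]
  exact ⟨fun h => ψ.injective (h.trans (ψ.apply_symm_apply x).symm), fun h => by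
    show ψ (φ (ψ.symm x)) = x
    rw [h, MulEquiv.apply_symm_apply]⟩

namespace L2Model

open Matrix
open CfsgLib.PSL2 (mk diagAut dil fieldPart fieldAut exists_dil_mul dil_inner_iff diagAut_toGL)
open CfsgLib.ReeTori (QData)

variable {F : Type} [Field F] [Fintype F] {m : ℕ} (D : QData F m)

local notation "PSL" => Matrix.ProjectiveSpecialLinearGroup (Fin 2) F

variable [Fact (Nat.Prime 3)] [CharP F 3]

/-- A four-group of matrices over the prime field. -/
theorem exists_prime_four (D : QData F m) :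
    ∃ T : Subgroup PSL, IsPGroup 2 T ∧ ¬ 2 ∣ T.index ∧ Nat.card T = 4 ∧
      ∀ e : RingAut F, ∀ x ∈ T, fieldAut e x = x := by
  have h2 : (2 : F) ≠ 0 := ReeTori.two_ne D
  have h3 : (3 : F) = 0 := by exact_mod_cast CharP.cast_eq_zero F 3
  let w : SpecialLinearGroup (Fin 2) F := ⟨!![0, 1; -1, 0], by simp [Matrix.det_fin_two_of]⟩
  let v : SpecialLinearGroup (Fin 2) F := ⟨!![1, 1; 1, -1], by
    rw [Matrix.det_fin_two_of]; linear_combination -h3⟩
  have hwt : w.1.trace = 0 := by simp [w, Matrix.trace_fin_two]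
  have hvt : v.1.trace = 0 := by simp [v, Matrix.trace_fin_two]
  obtain ⟨hb1, hb⟩ := (PSL2Klein.invol_iff h2).mpr hwt
  obtain ⟨hc1, hc⟩ := (PSL2Klein.invol_iff h2).mpr hvt
  have hbc : PSL2.mk w ≠ PSL2.mk v := fun h => by
    rcases PSL2Klein.mk_eq_iff.mp h with e | e
    · have := congrArg (fun A : SpecialLinearGroup (Fin 2) F => A.1 0 0) e
      simp [w, v] at this
    · have : (1 : F) = -0 := (congrArg (fun A : SpecialLinearGroup (Fin 2) F => A.1 0 0) e :)
      simp at this
  have hcm : PSL2.mk w * PSL2.mk v = PSL2.mk v * PSL2.mk w := by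
    rw [← map_mul, ← map_mul, PSL2Klein.mk_eq_iff]
    refine Or.inr (Subtype.ext ?_)
    show v.1 * w.1 = -(w.1 * v.1)
    simp [w, v, Matrix.mul_fin_two]
  set T := PSL2Klein.four (PSL2.mk w) (PSL2.mk v) hb hc hcm
  have hmem : ∀ x, x ∈ T ↔ x = 1 ∨ x = PSL2.mk w ∨ x = PSL2.mk v ∨ x = PSL2.mk w * PSL2.mk v := fun x => Iff.rfl
  have hcard : Nat.card T = 4 := (PSL2Klein.four_klein hb hc hcm hb1 hc1 hbc).card_four
  have hp : IsPGroup 2 T := IsPGroup.of_card (n := 2) hcard
  refine ⟨T, hp, ?_, hcard, fun e x hx => ?_⟩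
  · haveI : Fact (Nat.Prime 2) := ⟨Nat.prime_two⟩
    obtain ⟨T', k, -, h2', hi, h4⟩ := exists_twoLocal D
    intro hd
    refine hi ?_
    have h1 := T.card_mul_index
    rw [← T'.card_mul_index, hcard, h4] at h1
    rwa [← Nat.eq_of_mul_eq_mul_left (by norm_num) h1]
  · have hw : fieldAut e (PSL2.mk w) = PSL2.mk w := by
      rw [PSL2.fieldAut_apply]
      refine congrArg _ (Subtype.ext (Matrix.ext fun i j => ?_))
      show e ((!![0, 1; -1, 0] : Matrix (Fin 2) (Fin 2) F) i j) = (!![0, 1; -1, 0] : Matrix (Fin 2) (Fin 2) F) i j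
      fin_cases i <;> fin_cases j <;> simp
    have hv : fieldAut e (PSL2.mk v) = PSL2.mk v := by
      rw [PSL2.fieldAut_apply]
      refine congrArg _ (Subtype.ext (Matrix.ext fun i j => ?_))
      show e ((!![1, 1; 1, -1] : Matrix (Fin 2) (Fin 2) F) i j) = (!![1, 1; 1, -1] : Matrix (Fin 2) (Fin 2) F) i j
      fin_cases i <;> fin_cases j <;> simp
    rcases (hmem x).mp hx with rfl | rfl | rfl | rfl
    · exact map_one _
    · exact hw
    · exact hv
    · rw [map_mul, hw, hv]

/-- The element attached to a given Sylow four-group. -/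
theorem exists_twoLocal' (D : QData F m) {T : Subgroup PSL} (hT2 : IsPGroup 2 T) (hTi : ¬ 2 ∣ T.index)
    (hT4 : Nat.card T = 4) : ∃ k, TwoLocal T k := by
  obtain ⟨T', k, hk, h2, hi, -⟩ := exists_twoLocal D
  haveI : Fact (Nat.Prime 2) := ⟨Nat.prime_two⟩
  obtain ⟨g, hg⟩ := MulAction.exists_smul_eq PSL (h2.toSylow hi) (hT2.toSylow hTi)
  refine ⟨MulAut.conj g k, ?_⟩
  have he : T'.map (MulAut.conj g : PSL ≃* PSL).toMonoidHom = T :=
    congrArg Sylow.toSubgroup hg
  exact he ▸ hk.map _

/-- The fixed points of a pure field automorphism of prime order. -/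
theorem field_fix (D : QData F m) {r : ℕ} (hr : r.Prime) {σ : RingAut F} (hσ : orderOf σ = r) :
    ¬ Group.IsSolvable (fixPts (fieldAut σ : MulAut PSL)) ∨
      (r = 2 * m + 1 ∧ Nat.card (fixPts (fieldAut σ : MulAut PSL)) ≤ 12) := by
  classical
  haveI : Finite (RingAut F) := Finite.of_injective (fun τ : RingAut F => (τ : F → F)) DFunLike.coe_injective
  set K := FixedPoints.subfield (Subgroup.zpowers σ) F with hK
  haveI : Fintype K := Fintype.ofFinite _
  haveI : Fintype (Subgroup.zpowers σ) := Fintype.ofFinite _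
  have hfin : Module.finrank K F = r := by
    rw [hK, FixedPoints.finrank_eq_card, ← Nat.card_eq_fintype_card, Nat.card_zpowers, hσ]
  have hcard : Nat.card K ^ r = 3 ^ (2 * m + 1) := by
    rw [← hfin, ← Module.natCard_eq_pow_finrank (K := K) (V := F), Nat.card_eq_fintype_card, D.hq]
  have hKfix : ∀ a : F, σ a = a → a ∈ K := fun a ha g => by
    obtain ⟨i, hi⟩ := (mem_powers_iff_mem_zpowers.mpr g.2 : (g : RingAut F) ∈ Submonoid.powers σ)
    show (g : RingAut F) • a = a
    rw [← hi]
    clear hi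
    induction i with
    | zero => rfl
    | succ i ih =>
      show (σ ^ (i + 1)) a = a
      rw [pow_succ]
      show (σ ^ i) (σ a) = a
      rw [ha]
      exact ih
  have hKσ : ∀ a : K, σ (a : F) = a := fun a => a.2 ⟨σ, Subgroup.mem_zpowers σ⟩
  have hm1 : 1 ≤ Nat.card K := Nat.card_pos
  by_cases h4 : 4 ≤ Nat.card K
  · left
    intro hsol
    let ι : SpecialLinearGroup (Fin 2) K →* SpecialLinearGroup (Fin 2) F :=
      SpecialLinearGroup.map K.subtype
    have hR : ((PSL2.mk : SpecialLinearGroup (Fin 2) F →* PSL).comp ι).range ≤ fixPts (fieldAut σ) := by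
      rintro _ ⟨A, rfl⟩
      show fieldAut σ (PSL2.mk (ι A)) = PSL2.mk (ι A)
      rw [PSL2.fieldAut_apply]
      refine congrArg _ (Subtype.ext (Matrix.ext fun i j => ?_))
      exact hKσ (A.1 i j)
    haveI := hsol
    haveI : Group.IsSolvable ((PSL2.mk : SpecialLinearGroup (Fin 2) F →* PSL).comp ι).range :=
      Group.isSolvable_of_isSolvable_injective (f := Subgroup.inclusion hR) (Subgroup.inclusion_injective hR)
    let g := ((PSL2.mk : SpecialLinearGroup (Fin 2) F →* PSL).comp ι).rangeRestrict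
    have hperf : commutator (SpecialLinearGroup (Fin 2) K) = ⊤ :=
      StSL.perfect_SL2 (by rwa [← Nat.card_eq_fintype_card])
    have hr' : ∀ n, derivedSeries (SpecialLinearGroup (Fin 2) K) n = ⊤ := fun n => by
      induction n with
      | zero => rfl
      | succ n ih => rw [derivedSeries_succ, ih, ← commutator_def, hperf]
    obtain ⟨n, hn⟩ := (inferInstance :
      Group.IsSolvable ((PSL2.mk : SpecialLinearGroup (Fin 2) F →* PSL).comp ι).range).solvable
    have h := map_derivedSeries_le_derivedSeries g n (Subgroup.mem_map_of_mem g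
      (hr' n ▸ Subgroup.mem_top (PSL2.uSL (1 : K))))
    rw [hn, Subgroup.mem_bot] at h
    have h1 : PSL2.mk (ι (PSL2.uSL (1 : K))) = PSL2.mk (1 : SpecialLinearGroup (Fin 2) F) := by
      rw [map_one]
      exact congrArg Subtype.val h
    rcases PSL2Klein.mk_eq_iff.mp h1 with e | e
    · have : (0 : F) = ((1 : K) : F) := (congrArg (fun A : SpecialLinearGroup (Fin 2) F => A.1 0 1) e :)
      simp at this
    · have : (0 : F) = -((1 : K) : F) := (congrArg (fun A : SpecialLinearGroup (Fin 2) F => A.1 0 1) e :)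
      simp at this
  · right
    obtain ⟨k, -, hk⟩ := (Nat.dvd_prime_pow Nat.prime_three).mp
      (show Nat.card K ∣ 3 ^ (2 * m + 1) from hcard ▸ dvd_pow_self _ hr.ne_zero)
    have hk1 : k = 1 := by
      rcases k with - | - | k
      · exfalso
        rw [hk, pow_zero, one_pow] at hcard
        have : 1 < 3 ^ (2 * m + 1) := Nat.one_lt_pow (by omega) (by norm_num)
        omega
      · rfl
      · exfalso
        have : 3 ^ 2 ≤ Nat.card K := hk ▸ Nat.pow_le_pow_right (by norm_num) (by omega)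
        omega
    rw [hk1, pow_one] at hk
    have hrm : r = 2 * m + 1 := by
      rw [hk] at hcard
      exact Nat.pow_right_injective (by norm_num) hcard
    refine ⟨hrm, ?_⟩
    let ι : SpecialLinearGroup (Fin 2) K →* SpecialLinearGroup (Fin 2) F :=
      SpecialLinearGroup.map K.subtype
    set g := (PSL2.mk : SpecialLinearGroup (Fin 2) F →* PSL).comp ι with hg
    have hσr : ∀ a : F, (σ ^ r) a = a := fun a => by rw [← hσ, pow_orderOf_eq_one]; rfl
    have hle : fixPts (fieldAut σ : MulAut PSL) ≤ g.range := by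
      intro x hx
      obtain ⟨A, rfl⟩ := QuotientGroup.mk'_surjective _ x
      have hx' : fieldAut σ (PSL2.mk A) = PSL2.mk A := hx
      rw [PSL2.fieldAut_apply, PSL2Klein.mk_eq_iff] at hx'
      have hA : ∀ i j, σ (A.1 i j) = A.1 i j := by
        intro i j
        rcases hx' with e | e
        · exact (congrArg (fun B : SpecialLinearGroup (Fin 2) F => B.1 i j) e).symm
        · have e' : A.1 i j = -σ (A.1 i j) := congrArg (fun B : SpecialLinearGroup (Fin 2) F => B.1 i j) e
          set a := A.1 i j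
          have hneg : σ a = -a := by rw [eq_comm, neg_eq_iff_eq_neg]; exact e'
          have hpow : ∀ n : ℕ, (σ ^ n) a = (-1) ^ n * a := fun n => by
            induction n with
            | zero => rw [pow_zero, pow_zero, one_mul]; rfl
            | succ n ih =>
              rw [pow_succ]
              show (σ ^ n) (σ a) = _
              rw [hneg, map_neg, ih, pow_succ]
              ring
          have hodd : Odd r := hrm ▸ odd_two_mul_add_one m
          have h := hpow r
          rw [hσr, hodd.neg_one_pow, neg_one_mul] at h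
          have ha0 : a = 0 := by
            have h2' : (2 : F) * a = 0 := by linear_combination h
            exact (mul_eq_zero.mp h2').resolve_left (ReeTori.two_ne D)
          rw [ha0, map_zero]
      refine ⟨⟨Matrix.of fun i j => ⟨A.1 i j, hKfix _ (hA i j)⟩, ?_⟩, congrArg PSL2.mk (Subtype.ext rfl)⟩
      apply K.subtype.injective
      rw [RingHom.map_det, map_one]
      exact A.2
    have hsl : Nat.card (SpecialLinearGroup (Fin 2) K) = 24 := by
      rw [SLCard.card_SL_two, ← Nat.card_eq_fintype_card, hk]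
      norm_num
    have h1 : Nat.card g.range * Nat.card g.ker = 24 := by
      rw [← hsl, ← Subgroup.index_ker, mul_comm]
      exact g.ker.card_mul_index
    have h2 : 2 ≤ Nat.card g.ker := by
      haveI : Nontrivial g.ker := by
        refine ⟨⟨-1, ?_⟩, 1, fun e => ?_⟩
        · rw [MonoidHom.mem_ker, hg]
          show PSL2.mk (ι (-1)) = 1
          rw [← map_one (PSL2.mk : SpecialLinearGroup (Fin 2) F →* PSL), PSL2Klein.mk_eq_iff]
          refine Or.inr (Subtype.ext (Matrix.ext fun i j => ?_))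
          show (1 : Matrix (Fin 2) (Fin 2) F) i j = -(K.subtype ((-1 : Matrix (Fin 2) (Fin 2) K) i j))
          fin_cases i <;> fin_cases j <;> simp
        · have e' : (-1 : SpecialLinearGroup (Fin 2) K) = 1 := congrArg Subtype.val e
          have := congrArg (fun B : SpecialLinearGroup (Fin 2) K => B.1 0 0) e'
          simp at this
          exact ReeTori.two_ne D (by
            have h' := congrArg (fun z : K => (z : F)) this
            simp at h'
            linear_combination -h')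
      exact Finite.one_lt_card
    have h3 := Subgroup.card_le_of_le hle
    have h4' : Nat.card g.range * 2 ≤ 24 := h1 ▸ Nat.mul_le_mul_left _ h2
    omega

/-- The order of a field automorphism. -/
theorem orderOf_field_dvd (D : QData F m) (σ : RingAut F) : orderOf σ ∣ 2 * m + 1 := by
  classical
  haveI : Finite (RingAut F) := Finite.of_injective (fun τ : RingAut F => (τ : F → F)) DFunLike.coe_injective
  set K := FixedPoints.subfield (Subgroup.zpowers σ) F with hK
  haveI : Fintype K := Fintype.ofFinite _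
  haveI : Fintype (Subgroup.zpowers σ) := Fintype.ofFinite _
  have hfin : Module.finrank K F = orderOf σ := by
    rw [hK, FixedPoints.finrank_eq_card, ← Nat.card_eq_fintype_card, Nat.card_zpowers]
  have hcard : Nat.card K ^ orderOf σ = 3 ^ (2 * m + 1) := by
    rw [← hfin, ← Module.natCard_eq_pow_finrank (K := K) (V := F), Nat.card_eq_fintype_card, D.hq]
  obtain ⟨k, -, hk⟩ := (Nat.dvd_prime_pow Nat.prime_three).mp
    (show Nat.card K ∣ 3 ^ (2 * m + 1) from hcard ▸ dvd_pow_self _ (orderOf_pos σ).ne')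
  rw [hk, ← pow_mul] at hcard
  exact ⟨k, (Nat.pow_right_injective (by norm_num) hcard).symm.trans (mul_comm _ _)⟩

/-- An automorphism of odd order without field part fixing the prime four-group is trivial. -/
theorem fix_pow_four (D : QData F m) {T0 : Subgroup PSL} (hT2 : IsPGroup 2 T0) (hTi : ¬ 2 ∣ T0.index)
    (hT4 : Nat.card T0 = 4) {ψ : MulAut PSL} (hfix : ∀ z ∈ T0, ψ z = z) (hk : fieldPart 3 ψ = 1) :
    ψ ^ 4 = 1 := by
  obtain ⟨g, rfl⟩ := CfsgLib.PSL2.exists_of_fieldPart_eq_one 3 (φ := ψ) hk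
  obtain ⟨c, B, rfl⟩ := exists_dil_mul g
  obtain ⟨x, hx⟩ := (dil_inner_iff (c * c)).mpr ⟨c, pow_two c⟩
  set π := QuotientGroup.mk' (MulAut.conj (G := PSL)).range
  have hpi : ∀ y, π (MulAut.conj y) = 1 := fun y => (QuotientGroup.eq_one_iff _).mpr ⟨y, rfl⟩
  have h2 : π (diagAut (dil c * SpecialLinearGroup.toGL B)) ^ 2 = 1 := by
    rw [map_mul, diagAut_toGL, map_mul, hpi, mul_one, pow_two, ← map_mul, ← map_mul, ← map_mul, hx, hpi]
  rw [← map_pow] at h2
  obtain ⟨y, hy⟩ := (QuotientGroup.eq_one_iff _).mp h2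
  obtain ⟨k, hk'⟩ := exists_twoLocal' D hT2 hTi hT4
  have hyT : y ∈ T0 := by
    refine hk'.cent y fun z hz _ => ?_
    have hz' : MulAut.conj y z = z := by
      rw [hy, pow_two, MulAut.mul_apply, hfix z hz, hfix z hz]
    rwa [MulAut.conj_apply, mul_inv_eq_iff_eq_mul] at hz'
  have hy2 : y * y = 1 := by
    let ι : {z : PSL // z ∈ T0 ∧ z * z = 1} → T0 := fun z => ⟨z.1, z.2.1⟩
    have hι : Function.Injective ι := fun z w h => Subtype.ext (congrArg Subtype.val h :)
    obtain ⟨⟨z, hz, hz2⟩, hze⟩ := ((Nat.bijective_iff_injective_and_card ι).mpr ⟨hι,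
      le_antisymm (Nat.card_le_card_of_injective ι hι) (hT4.trans_le hk'.four)⟩).2 ⟨y, hyT⟩
    have : z = y := congrArg Subtype.val hze
    exact this ▸ hz2
  rw [show (4 : ℕ) = 2 * 2 from rfl, pow_mul, ← hy, pow_two, ← map_mul, hy2, map_one]

/-- The order of an automorphism of odd order fixing a four-group. -/
theorem orderOf_fix_dvd (D : QData F m) {φ : MulAut PSL} (hodd : Odd (orderOf φ))
    {T' : Subgroup PSL} (h4 : Nat.card T' = 4) (hfix : ∀ x ∈ T', φ x = x) :
    orderOf φ ∣ 2 * m + 1 := by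
  haveI : Fact (Nat.Prime 2) := ⟨Nat.prime_two⟩
  obtain ⟨T0, -, hTi, hT4, -⟩ := exists_prime_four D
  have hp : IsPGroup 2 T' := IsPGroup.of_card (n := 2) h4
  have hi : ¬ 2 ∣ T'.index := by
    intro hd
    refine hTi ?_
    have h1 := T0.card_mul_index
    rw [← T'.card_mul_index, hT4, h4] at h1
    rwa [Nat.eq_of_mul_eq_mul_left (by norm_num) h1]
  set ψ := φ ^ orderOf (fieldPart 3 φ) with hψ
  have hψf : ∀ x ∈ T', ψ x = x := by
    intro x hx
    rw [hψ]
    induction orderOf (fieldPart 3 φ) with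
    | zero => rfl
    | succ n ih => rw [pow_succ, MulAut.mul_apply, hfix x hx, ih]
  have h1 : ψ ^ 4 = 1 := fix_pow_four D hp hi h4 hψf (by rw [hψ, map_pow, pow_orderOf_eq_one])
  rw [hψ, ← pow_mul] at h1
  have h2 := orderOf_dvd_of_pow_eq_one h1
  have h3 : orderOf φ ∣ orderOf (fieldPart 3 φ) :=
    ((Nat.coprime_two_right.mpr hodd).pow_right 2).dvd_of_dvd_mul_right (by rwa [show (2 : ℕ) ^ 2 = 4 from rfl])
  exact h3.trans (orderOf_field_dvd D _)

/-- An automorphism of odd prime order fixing a four-group. -/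
theorem prime_fix (D : QData F m) {r : ℕ} (hr : r.Prime) (hr2 : r ≠ 2) {φ : MulAut PSL} (hφ : orderOf φ = r)
    {T' : Subgroup PSL} (h4 : Nat.card T' = 4) (hfix : ∀ x ∈ T', φ x = x) :
    ¬ Group.IsSolvable (fixPts φ) ∨ (r = 2 * m + 1 ∧ Nat.card (fixPts φ) ≤ 12) := by
  classical
  haveI : Fact r.Prime := ⟨hr⟩
  haveI : Fact (Nat.Prime 2) := ⟨Nat.prime_two⟩
  obtain ⟨T0, hT2, hTi, hT4, hT0⟩ := exists_prime_four D
  let S0 : Sylow 2 PSL := hT2.toSylow hTi
  obtain ⟨Q, hQ⟩ := (IsPGroup.of_card (n := 2) h4 : IsPGroup 2 T').exists_le_sylow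
  have hQ' : (Q : Subgroup PSL) = T' := (Subgroup.eq_of_le_of_card_ge hQ (by
    rw [h4, Sylow.card_eq_multiplicity Q, ← Sylow.card_eq_multiplicity S0]
    exact hT4.le)).symm
  obtain ⟨u, hu⟩ := MulAction.exists_smul_eq PSL Q S0
  set φ' := MulAut.conj u * φ * (MulAut.conj u)⁻¹ with hφ'
  have hord : orderOf φ' = r := by
    rw [hφ', show MulAut.conj u * φ * (MulAut.conj u)⁻¹ = MulAut.conj (MulAut.conj u) φ from rfl,
      MulEquiv.orderOf_eq, hφ]
  have hfix' : ∀ x ∈ T0, φ' x = x := by
    intro x hx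
    have hx' : x ∈ (S0 : Subgroup PSL) := hx
    rw [← hu, Sylow.coe_subgroup_smul, Subgroup.mem_pointwise_smul_iff_inv_smul_mem, hQ'] at hx'
    show MulAut.conj u (φ ((MulAut.conj u)⁻¹ x)) = x
    exact (congrArg (MulAut.conj u) (hfix _ hx')).trans ((MulAut.conj u).apply_symm_apply x)
  -- the automorphisms fixing the prime four-group with field part in a cyclic group of order `r`
  set σ := fieldPart 3 φ' with hσ
  let Fx : Subgroup (MulAut PSL) :=
    { carrier := {ψ | ∀ x ∈ T0, ψ x = x}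
      mul_mem' := fun {a b} ha hb x hx => by rw [MulAut.mul_apply, hb x hx, ha x hx]
      one_mem' := fun x _ => rfl
      inv_mem' := fun {a} ha x hx => by
        conv_lhs => rw [← ha x hx]
        exact a.symm_apply_apply x }
  set Γ := Fx ⊓ (Subgroup.zpowers σ).comap (fieldPart 3) with hΓ
  let f : ↥Γ →* RingAut F := (fieldPart 3).comp Γ.subtype
  have hker : IsPGroup 2 f.ker := by
    rintro ⟨⟨ψ, hψ⟩, hk⟩
    exact ⟨2, Subtype.ext (Subtype.ext (fix_pow_four D hT2 hTi hT4 hψ.1 hk))⟩
  have hmem : φ' ∈ Γ := ⟨hfix', Subgroup.mem_zpowers σ⟩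
  have hσr : orderOf σ = r := by
    rcases (Nat.dvd_prime hr).mp (hord ▸ orderOf_map_dvd (fieldPart 3) φ') with h | h
    · exfalso
      have h1 : (⟨φ', hmem⟩ : ↥Γ) ∈ f.ker := orderOf_eq_one_iff.mp h
      obtain ⟨j, hj⟩ := hker ⟨_, h1⟩
      have hj' : φ' ^ 2 ^ j = 1 := congrArg (fun z : f.ker => ((z : ↥Γ) : MulAut PSL)) hj
      have hd := orderOf_dvd_of_pow_eq_one hj'
      rw [hord] at hd
      exact hr2 ((Nat.prime_dvd_prime_iff_eq hr Nat.prime_two).mp (hr.dvd_of_dvd_pow hd))
    · exact h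
  have hfσ : fieldPart 3 (fieldAut σ : MulAut PSL) = σ :=
    CfsgLib.PSL2.fieldPart_eq 3 (g := 1) (by rw [map_one, one_mul])
  have hσmem : (fieldAut σ : MulAut PSL) ∈ Γ :=
    ⟨fun x hx => hT0 σ x hx, by show fieldPart 3 (fieldAut σ : MulAut PSL) ∈ Subgroup.zpowers σ; rw [hfσ]; exact Subgroup.mem_zpowers σ⟩
  have hσord : orderOf (fieldAut σ : MulAut PSL) = r := by
    refine orderOf_eq_prime ?_ fun e => ?_
    · have hpow : ∀ n : ℕ, (fieldAut σ : MulAut PSL) ^ n = fieldAut (σ ^ n) := fun n => by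
        induction n with
        | zero => rw [pow_zero, pow_zero]; exact (CfsgLib.PSL2.fieldAut_refl).symm
        | succ n ih => rw [pow_succ, pow_succ, ih, ← CfsgLib.PSL2.fieldAut_trans]; rfl
      rw [hpow, ← hσr, pow_orderOf_eq_one]
      exact CfsgLib.PSL2.fieldAut_refl
    · rw [e, map_one] at hfσ
      rw [← hfσ, orderOf_one] at hσr
      exact hr.one_lt.ne hσr
  -- both generate Sylow `r`-subgroups of this group
  have hΓcard : Nat.card ↥Γ = Nat.card f.ker * r := by
    have hrange : f.range = Subgroup.zpowers σ := le_antisymm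
      (by rintro _ ⟨z, rfl⟩; exact z.2.2)
      (Subgroup.zpowers_le.mpr ⟨⟨φ', hmem⟩, rfl⟩)
    rw [← f.ker.card_mul_index, Subgroup.index_ker, hrange, Nat.card_zpowers, hσr]
  have hmk : ∀ (z : MulAut PSL) (hz : z ∈ Γ), orderOf z = r →
      ∃ P : Sylow r ↥Γ, (P : Subgroup ↥Γ) = Subgroup.zpowers ⟨z, hz⟩ := by
    intro z hz hzo
    have hc : Nat.card (Subgroup.zpowers (⟨z, hz⟩ : ↥Γ)) = r ^ 1 := by
      rw [Nat.card_zpowers, Subgroup.orderOf_mk, hzo, pow_one]
    refine ⟨(IsPGroup.of_card hc).toSylow ?_, rfl⟩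
    intro hd
    have h1 := (Subgroup.zpowers (⟨z, hz⟩ : ↥Γ)).card_mul_index
    rw [hc, hΓcard, pow_one, mul_comm (Nat.card f.ker)] at h1
    rw [Nat.eq_of_mul_eq_mul_left hr.pos h1] at hd
    obtain ⟨j, hj⟩ := IsPGroup.iff_card.mp hker
    rw [hj] at hd
    exact hr2 ((Nat.prime_dvd_prime_iff_eq hr Nat.prime_two).mp (hr.dvd_of_dvd_pow hd))
  obtain ⟨P1, hP1⟩ := hmk φ' hmem hord
  obtain ⟨P2, hP2⟩ := hmk _ hσmem hσord
  obtain ⟨d, hd⟩ := MulAction.exists_smul_eq ↥Γ P1 P2
  have hmem2 : MulAut.conj d ⟨φ', hmem⟩ ∈ (P2 : Subgroup ↥Γ) := by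
    rw [← hd, Sylow.coe_subgroup_smul]
    exact Subgroup.smul_mem_pointwise_smul _ _ _ (hP1 ▸ Subgroup.mem_zpowers _)
  rw [hP2, ← mem_powers_iff_mem_zpowers, Submonoid.mem_powers_iff] at hmem2
  obtain ⟨i, hi⟩ := hmem2
  have hi' : (fieldAut σ : MulAut PSL) ^ i = (d : MulAut PSL) * φ' * (d : MulAut PSL)⁻¹ := congrArg Subtype.val hi
  -- the two automorphisms have conjugate fixed point groups
  set ψ := (d : MulAut PSL) * MulAut.conj u with hψ
  have hconj : (fieldAut σ : MulAut PSL) ^ i = ψ * φ * ψ⁻¹ := by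
    rw [hi', hψ, hφ']
    group
  have hord_i : orderOf ((fieldAut σ : MulAut PSL) ^ i) = r := by
    rw [hconj, show ψ * φ * ψ⁻¹ = MulAut.conj ψ φ from rfl, MulEquiv.orderOf_eq, hφ]
  have hsame : fixPts ((fieldAut σ : MulAut PSL) ^ i) = fixPts (fieldAut σ : MulAut PSL) := by
    have hle : ∀ (χ : MulAut PSL) (n : ℕ), fixPts χ ≤ fixPts (χ ^ n) := fun χ n x hx => by
      rw [mem_fixPts] at hx ⊢
      induction n with
      | zero => rfl
      | succ n ih => rw [pow_succ, MulAut.mul_apply, hx, ih]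
    refine le_antisymm ?_ (hle _ i)
    obtain ⟨n, hn⟩ := exists_pow_eq_self_of_coprime (x := (fieldAut σ : MulAut PSL)) (n := i) (by
      rw [hσord]
      refine Nat.coprime_comm.mp (hr.coprime_iff_not_dvd.mpr fun hdvd => ?_)
      obtain ⟨c, rfl⟩ := hdvd
      rw [pow_mul, ← hσord, pow_orderOf_eq_one, one_pow, orderOf_one] at hord_i
      have := hr.one_lt
      omega)
    have := hle ((fieldAut σ : MulAut PSL) ^ i) n
    rwa [hn] at this
  rw [hconj, fixPts_conj] at hsame
  rcases field_fix D hr hσr with h | ⟨h, h'⟩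
  · refine Or.inl fun hs => h ?_
    rw [← hsame]
    haveI := hs
    exact Group.isSolvable_of_surjective (ψ.toMonoidHom.subgroupMap_surjective (fixPts φ))
  · refine Or.inr ⟨h, ?_⟩
    rwa [← hsame, Subgroup.card_map_of_injective ψ.injective] at h'

end L2Model

end CfsgLib.S3Simple
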