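import Cfsg.Agent.Lib.S3Simple.Eight.Fpf
import Cfsg.Agent.Lib.S3Simple.Eight.FieldModel
import Cfsg.Agent.Lib.CoprimeGen

/-!
5.3, first part: the components of `C(t)` inside `L`, and the odd core of `C(A)` when it is not trivial: it is
generated by an element `x` of prime order `2m+1`, and `C(x) = N(A) = N(⟨x⟩)`.

Blueprint: `blueprint/S3Free.md`, 5.3.
-/

set_option autoImplicit false
set_option linter.unusedSectionVars false
set_option linter.style.haveILetI false

namespace CfsgLib.S3Simple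

open Cfsg CfsgLib.Comp CfsgLib.AfterFT.CoreSep

universe u

variable {L : Type u} [Group L] [Finite L]

/-- The component of `C(t)` as a subgroup of `L`. -/
structure AtL (A : Subgroup L) (t : L) (E : Subgroup L) : Prop where
  le : E ≤ cc t
  norm : cc t ≤ Subgroup.normalizer (E : Set L)
  inter : Nat.card ↥(A ⊓ E) = 4
  cent : ∀ c ∈ cc t, (∀ e ∈ E, c * e = e * c) → c = 1 ∨ c = t
  model : ∃ (F : Type) (_ : Field F) (_ : Fintype F) (m : ℕ), ReeTori.QData F m ∧
    Nonempty (↥E ≃* Matrix.ProjectiveSpecialLinearGroup (Fin 2) F)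
  kappa : ∃ k ∈ Subgroup.normalizer (A : Set L), k ∈ E ∧
    (∀ v ∈ A ⊓ E, v ≠ 1 → ∀ w ∈ A ⊓ E, w ≠ 1 → ∃ i : ℕ, k ^ i * v * (k ^ i)⁻¹ = w) ∧
    ∀ r ∈ oddC A, k * r = r * k

/-- The configuration of a non-trivial odd core of `C(A)`. -/
structure FieldHyp (A : Subgroup L) (x : L) (r : ℕ) : Prop where
  prime : r.Prime
  ne_two : r ≠ 2
  order : orderOf x = r
  gen : oddC A = Subgroup.zpowers x
  centralizer : Subgroup.centralizer ({x} : Set L) = Subgroup.normalizer (A : Set L)
  normalizer : Subgroup.normalizer (Subgroup.zpowers x : Set L) = Subgroup.normalizer (A : Set L)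
  card : Nat.card (Subgroup.normalizer (A : Set L)) = 168 * r
  comp : ∀ t ∈ A, t ≠ 1 → ∃ E, AtL A t E ∧ Nat.card ↥(E ⊓ Subgroup.centralizer ({x} : Set L)) = 12 ∧
    x ∉ E ∧ ∃ (F : Type) (_ : Field F) (_ : Fintype F) (m : ℕ), ReeTori.QData F m ∧ r = 2 * m + 1 ∧
      Nonempty (↥E ≃* Matrix.ProjectiveSpecialLinearGroup (Fin 2) F)

namespace EightHyp

variable {S : Sylow 2 L} {A : Subgroup L} (H : EightHyp S A)
include H

theorem ff_injective {t : L} (ht : t ∈ A) (ht1 : t ≠ 1) : Function.Injective (ff t) := by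
  rintro ⟨x, hx⟩ ⟨y, hy⟩ h
  have h1 := (ff_eq_iff hx hy).mp h
  rw [H.core_eq_bot ht ht1, Subgroup.mem_bot, inv_mul_eq_one] at h1
  exact Subtype.ext h1

/-- The component of `C(t)` inside `L`. -/
theorem exists_atL {t : L} (ht : t ∈ A) (ht1 : t ≠ 1) : ∃ E, AtL A t E := by
  obtain ⟨E, hE⟩ := H.exists_atT ht ht1
  have hinj := H.ff_injective ht ht1
  have hsurj : Function.Surjective (ff t) := bar_surjective 2
  set K := (E.comap (ff t)).map (cc t).subtype with hK
  have hmem : ∀ {z : L} (hz : z ∈ cc t), z ∈ K ↔ ff t ⟨z, hz⟩ ∈ E := fun {z} hz =>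
    ⟨fun ⟨w, hw, e⟩ => (show w = ⟨z, hz⟩ from Subtype.ext e) ▸ hw, fun h => ⟨⟨z, hz⟩, h, rfl⟩⟩
  have hle : K ≤ cc t := Subgroup.map_subtype_le _
  refine ⟨K, hle, ?_, ?_, ?_, ?_, ?_⟩
  · intro g hg
    refine mem_normalizer_of_maps fun z hz => (hmem ((cc t).mul_mem ((cc t).mul_mem hg (hle hz))
      ((cc t).inv_mem hg))).mpr ?_
    have h := hE.normal.conj_mem _ ((hmem (hle hz)).mp hz) (ff t ⟨g, hg⟩)
    rwa [← map_inv, ← map_mul, ← map_mul] at h
  · rw [← hE.inter]
    refine Nat.card_congr (Equiv.ofBijective (fun z => ⟨ff t ⟨z.1, hle z.2.2⟩,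
      mem_imA z.2.1 _, (hmem (hle z.2.2)).mp z.2.2⟩) ⟨fun a b h => ?_, fun w => ?_⟩)
    · exact Subtype.ext (congrArg Subtype.val (hinj (congrArg Subtype.val h)) :)
    · obtain ⟨z, hz, hzw⟩ := w.2.1
      exact ⟨⟨z.1, hz, (hmem z.2).mpr (hzw ▸ w.2.2)⟩, Subtype.ext hzw⟩
  · intro c hc hcomm
    let C := Subgroup.centralizer (E : Set (qq t))
    have hcC : ff t ⟨c, hc⟩ ∈ C := by
      intro e he
      obtain ⟨⟨z, hz⟩, rfl⟩ := hsurj e
      rw [← map_mul, ← map_mul]
      exact congrArg _ (Subtype.ext (hcomm z ((hmem hz).mpr he)).symm)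
    have htC : ff t ⟨t, H.closed.mem_cc ht ht⟩ ∈ C := by
      intro e _
      obtain ⟨⟨z, hz⟩, rfl⟩ := hsurj e
      rw [← map_mul, ← map_mul]
      exact congrArg _ (Subtype.ext (mem_cc.mp hz))
    have ht0 : ff t ⟨t, H.closed.mem_cc ht ht⟩ ≠ 1 := fun e => ht1
      (congrArg Subtype.val (hinj (e.trans (map_one _).symm)))
    by_contra hcon
    push Not at hcon
    let f : Fin 3 → C := ![1, ⟨_, htC⟩, ⟨_, hcC⟩]
    have hf : Function.Injective f := by
      have h01 : (1 : C) ≠ ⟨_, htC⟩ := fun e => ht0 (congrArg Subtype.val e).symm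
      have h02 : (1 : C) ≠ ⟨_, hcC⟩ := fun e =>
        hcon.1 (congrArg Subtype.val (hinj ((congrArg Subtype.val e).symm.trans (map_one _).symm)))
      have h12 : (⟨_, htC⟩ : C) ≠ ⟨_, hcC⟩ := fun e =>
        hcon.2 (congrArg Subtype.val (hinj (congrArg Subtype.val e))).symm
      intro i j h
      fin_cases i <;> fin_cases j <;> first | rfl | exact absurd h h01 | exact absurd h h02 | exact absurd h h12 | exact absurd h.symm h01 | exact absurd h.symm h02 | exact absurd h.symm h12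
    have := Nat.card_le_card_of_injective f hf
    rw [Nat.card_fin, hE.cent] at this
    omega
  · obtain ⟨F, i1, i2, m, D, ⟨e⟩⟩ := hE.model
    refine ⟨F, i1, i2, m, D, ⟨MulEquiv.trans ?_ e⟩⟩
    refine ((E.comap (ff t)).equivMapOfInjective _ (cc t).subtype_injective).symm.trans ?_
    exact MulEquiv.ofBijective ((ff t).subgroupComap E)
      ⟨fun a b h => Subtype.ext (hinj (congrArg Subtype.val h)),
        MonoidHom.subgroupComap_surjective_of_surjective _ E hsurj⟩
  · obtain ⟨k, hkN, hk, hkE, htr, hcen⟩ := hE.kappa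
    refine ⟨k, hkN, (hmem hk).mpr hkE, fun v hv hv1 w hw hw1 => ?_, fun r hr => ?_⟩
    · have hvc := hle hv.2
      have hwc := hle hw.2
      obtain ⟨i, hi⟩ := htr (ff t ⟨v, hvc⟩) ⟨mem_imA hv.1 _, (hmem hvc).mp hv.2⟩
        (fun e => hv1 (congrArg Subtype.val (hinj (e.trans (map_one _).symm))))
        (ff t ⟨w, hwc⟩) ⟨mem_imA hw.1 _, (hmem hwc).mp hw.2⟩
        (fun e => hw1 (congrArg Subtype.val (hinj (e.trans (map_one _).symm))))
      refine ⟨i, ?_⟩
      rw [← map_pow, ← map_inv, ← map_mul, ← map_mul] at hi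
      exact congrArg Subtype.val (hinj hi)
    · have hrc := H.oddC_le_cc ht hr
      have := hcen (ff t ⟨r, hrc⟩) ⟨⟨r, hrc⟩, hr, rfl⟩
      rw [← map_mul, ← map_mul] at this
      exact congrArg Subtype.val (hinj this)

theorem mem_zpowers_of_two {t a : L} {E : Subgroup L} (hE : AtL A t E) (ht : t ∈ A) (ht1 : t ≠ 1) (ha : a ∈ A) :
    a ∈ E ∨ t * a ∈ E := by
  have htE : t ∉ E := fun h => by
    obtain ⟨k, -, hk, htr, -⟩ := hE.kappa
    obtain ⟨v, hv, w, hw, hv1, hw1, hvw⟩ : ∃ v ∈ A ⊓ E, ∃ w ∈ A ⊓ E, v ≠ 1 ∧ w ≠ 1 ∧ v ≠ w := by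
      haveI : Nontrivial ↥(A ⊓ E) := Finite.one_lt_card_iff_nontrivial.mp (hE.inter.symm ▸ by norm_num)
      obtain ⟨v, hv⟩ := exists_ne (1 : ↥(A ⊓ E))
      by_contra hcon
      push Not at hcon
      let f : Fin 2 → ↥(A ⊓ E) := ![1, v]
      have hs : Function.Surjective f := fun w => by
        by_cases hw : w = 1
        · exact ⟨0, hw.symm⟩
        · exact ⟨1, Subtype.ext (hcon v v.2 w w.2 (fun e => hv (Subtype.ext e)) (fun e => hw (Subtype.ext e)))⟩
      have := Nat.card_le_card_of_surjective f hs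
      rw [Nat.card_fin, hE.inter] at this
      omega
    obtain ⟨i, hi⟩ := htr t ⟨ht, h⟩ ht1 v hv hv1
    obtain ⟨j, hj⟩ := htr t ⟨ht, h⟩ ht1 w hw hw1
    have hfix : ∀ n : ℕ, k ^ n * t * (k ^ n)⁻¹ = t := fun n => by
      rw [mem_cc.mp ((cc t).pow_mem (hE.le hk) n), mul_inv_cancel_right]
    rw [hfix] at hi hj
    exact hvw (hi.symm.trans hj)
  by_contra hcon
  push Not at hcon
  set V := A ⊓ E
  let f : V × Fin 3 → A := fun p => ⟨![1, t, a] p.2 * p.1, A.mul_mem (by
    rcases p with ⟨p, i⟩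
    fin_cases i <;> simp [ht, ha]) p.1.2.1⟩
  have ht2 : t⁻¹ = t := inv_eq_of_mul_eq_one_left (by rw [← pow_two]; exact H.closed.elem.2 t ht)
  have hf : Function.Injective f := by
    rintro ⟨v, i⟩ ⟨w, j⟩ h
    have h' : ![1, t, a] i * (v : L) = ![1, t, a] j * w := congrArg Subtype.val h
    have hm : (![1, t, a] j)⁻¹ * ![1, t, a] i ∈ E := by
      rw [show (![1, t, a] j)⁻¹ * ![1, t, a] i = (w : L) * (v : L)⁻¹ by
        rw [inv_mul_eq_iff_eq_mul, ← mul_assoc, ← h', mul_inv_cancel_right]]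
      exact E.mul_mem w.2.2 (E.inv_mem v.2.2)
    have hij : i = j := by
      fin_cases i <;> fin_cases j <;> first | rfl | (exfalso; simp at hm)
      all_goals
        first
        | exact htE hm
        | exact hcon.1 hm
        | exact hcon.2 (by simpa [ht2] using hm)
        | exact hcon.2 (by simpa [ht2] using E.inv_mem hm)
    subst hij
    exact Prod.ext (Subtype.ext (mul_left_cancel h')) rfl
  have := Nat.card_le_card_of_injective f hf
  rw [Nat.card_prod, Nat.card_fin, hE.inter, H.card] at this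
  omega

/-- The normaliser of `A` centralises the odd core of `C(A)`, if this is cyclic. -/
theorem normalizer_le_centralizer :
    Subgroup.normalizer (A : Set L) ≤ Subgroup.centralizer (oddC A : Set L) := by
  classical
  haveI : Fact (Nat.Prime 2) := ⟨Nat.prime_two⟩
  set N := Subgroup.normalizer (A : Set L) with hN
  set φ := A.normalizerMonoidHom with hφ
  have hcard : Nat.card φ.range = 21 := by
    rw [← Subgroup.index_ker, Subgroup.normalizerMonoidHom_ker]
    exact H.relIndex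
  obtain ⟨t, ht, ht1⟩ : ∃ t ∈ A, t ≠ 1 := by
    haveI : Nontrivial A := Finite.one_lt_card_iff_nontrivial.mp (H.card.symm ▸ by norm_num)
    obtain ⟨⟨t, ht⟩, ht1⟩ := exists_ne (1 : A)
    exact ⟨t, ht, fun e => ht1 (Subtype.ext e)⟩
  -- the odd core is cyclic
  have hcyc : IsMulCommutative (oddC A) := by
    haveI := H.imR_cyclic ht ht1
    have h : Function.Injective (fun z : oddC A => (⟨ff t ⟨z, H.oddC_le_cc ht z.2⟩,
        ⟨⟨z, H.oddC_le_cc ht z.2⟩, z.2, rfl⟩⟩ : imR A t)) := fun a b e =>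
      Subtype.ext (congrArg Subtype.val (H.ff_injective ht ht1 (congrArg Subtype.val e)) :)
    refine ⟨⟨fun a b => h (Subtype.ext ?_)⟩⟩
    have := IsCyclic.isMulCommutative (α := imR A t) |>.is_comm.comm
      ⟨ff t ⟨a, H.oddC_le_cc ht a.2⟩, ⟨⟨a, _⟩, a.2, rfl⟩⟩ ⟨ff t ⟨b, H.oddC_le_cc ht b.2⟩, ⟨⟨b, _⟩, b.2, rfl⟩⟩
    have h2 := congrArg Subtype.val this
    simp only [Subgroup.coe_mul, ← map_mul] at h2 ⊢
    exact h2
  set M := (Subgroup.centralizer (oddC A : Set L)).subgroupOf N with hM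
  have hker : φ.ker ≤ M := by
    intro n hn
    rw [hφ, Subgroup.normalizerMonoidHom_ker, Subgroup.mem_subgroupOf] at hn
    rw [hM, Subgroup.mem_subgroupOf]
    obtain ⟨a, ha, r, hr, e⟩ := H.split hn
    rw [← e]
    refine mul_mem (fun z hz => (oddC_le A hz a ha).symm) fun z hz => ?_
    exact congrArg Subtype.val (hcyc.is_comm.comm ⟨z, hz⟩ ⟨r, hr⟩)
  -- the elements `κ`
  have hkap : ∀ s ∈ A, s ≠ 1 → ∃ k : ↥N, k ∈ M ∧ φ k ≠ 1 ∧ (k : L) * s = s * k ∧
      ∀ a ∈ A, (k : L) * a = a * k → a = 1 ∨ a = s := by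
    intro s hs hs1
    obtain ⟨E, hE⟩ := H.exists_atL hs hs1
    obtain ⟨k, hkN, hkE, htr, hk⟩ := hE.kappa
    have hks : k * s = s * k := (mem_cc.mp (hE.le hkE))
    have hfix : ∀ a ∈ A ⊓ E, k * a = a * k → a = 1 := by
      intro a ha hka
      by_contra ha1
      have hpow : ∀ n : ℕ, k ^ n * a * (k ^ n)⁻¹ = a := fun n => by
        rw [((show Commute k a from hka).pow_left n).eq, mul_inv_cancel_right]
      let f : Fin 2 → ↥(A ⊓ E) := ![1, ⟨a, ha⟩]
      have hs' : Function.Surjective f := fun w => by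
        by_cases hw : w = 1
        · exact ⟨0, hw.symm⟩
        · obtain ⟨i, hi⟩ := htr a ha ha1 w w.2 fun e => hw (Subtype.ext e)
          exact ⟨1, Subtype.ext ((hpow i).symm.trans hi)⟩
      have := Nat.card_le_card_of_surjective f hs'
      rw [Nat.card_fin, hE.inter] at this
      omega
    refine ⟨⟨k, hkN⟩, fun r hr => (hk r hr).symm, fun e => ?_, hks, fun a ha hka => ?_⟩
    · haveI : Nontrivial ↥(A ⊓ E) := Finite.one_lt_card_iff_nontrivial.mp (hE.inter.symm ▸ by norm_num)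
      obtain ⟨⟨v, hv⟩, hv1⟩ := exists_ne (1 : ↥(A ⊓ E))
      have h1 : k * v * k⁻¹ = v := congrArg (fun α : MulAut A => ((α ⟨v, hv.1⟩ : A) : L)) e
      exact hv1 (Subtype.ext (hfix v hv (mul_inv_eq_iff_eq_mul.mp h1)))
    · rcases H.mem_zpowers_of_two hE hs hs1 ha with h | h
      · exact Or.inl (hfix a ⟨ha, h⟩ hka)
      · refine Or.inr ?_
        have h1 := hfix _ ⟨A.mul_mem hs ha, h⟩ (by rw [← mul_assoc, hks, mul_assoc, hka, mul_assoc])
        rw [← inv_eq_of_mul_eq_one_right h1,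
          inv_eq_of_mul_eq_one_left (show s * s = 1 by rw [← pow_two]; exact H.closed.elem.2 s hs)]
  -- two of them generate everything
  set Q := M.map φ with hQ
  have hQle : Q ≤ φ.range := Subgroup.map_le_range _ _
  have hQd : Nat.card Q ∣ 21 := hcard ▸ Subgroup.card_dvd_of_le hQle
  suffices hQ21 : Nat.card Q = 21 by
    intro n hn
    have hQe : Q = φ.range := Subgroup.eq_of_le_of_card_ge hQle (hcard.trans hQ21.symm).le
    obtain ⟨m, hm, hme⟩ : φ ⟨n, hn⟩ ∈ Q := hQe ▸ ⟨⟨n, hn⟩, rfl⟩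
    have h2 : (⟨n, hn⟩ : ↥N) * m⁻¹ ∈ M := hker (by rw [MonoidHom.mem_ker, map_mul, map_inv, hme, mul_inv_cancel])
    have h3 := M.mul_mem h2 hm
    rw [inv_mul_cancel_right] at h3
    exact h3
  by_contra hne
  obtain ⟨k, hkM, hk1, hks, -⟩ := hkap t ht ht1
  have hqlt : Nat.card Q = 3 ∨ Nat.card Q = 7 := by
    have h1 : Nat.card Q ≠ 1 := fun e => hk1 (Subgroup.mem_bot.mp
      (Subgroup.card_eq_one.mp e ▸ Subgroup.mem_map_of_mem φ hkM))
    have h2 : Nat.card Q ∈ Nat.divisors 21 := Nat.mem_divisors.mpr ⟨hQd, by norm_num⟩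
    rw [show Nat.divisors 21 = ({1, 3, 7, 21} : Finset ℕ) by decide] at h2
    simp only [Finset.mem_insert, Finset.mem_singleton] at h2
    omega
  obtain ⟨p, hp, hQp⟩ : ∃ p, Nat.Prime p ∧ Nat.card Q = p := by
    rcases hqlt with h | h
    · exact ⟨3, by norm_num, h⟩
    · exact ⟨7, by norm_num, h⟩
  -- a further element of `A`
  obtain ⟨s, hs, hs1, hst⟩ : ∃ s ∈ A, s ≠ 1 ∧ s ≠ t := by
    by_contra hcon
    push Not at hcon
    let f : Fin 2 → A := ![1, ⟨t, ht⟩]
    have hs' : Function.Surjective f := fun w => by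
      by_cases hw : w = 1
      · exact ⟨0, hw.symm⟩
      · exact ⟨1, Subtype.ext (hcon w w.2 fun e => hw (Subtype.ext e)).symm⟩
    have := Nat.card_le_card_of_surjective f hs'
    rw [Nat.card_fin, H.card] at this
    omega
  obtain ⟨l, hlM, hl1, hls, hlfix⟩ := hkap s hs hs1
  haveI : Fact p.Prime := ⟨hp⟩
  have hgen : φ l ∈ Subgroup.zpowers (φ k) := by
    have h := zpowers_eq_top_of_prime_card (G := Q) hQp (g := ⟨φ k, Subgroup.mem_map_of_mem φ hkM⟩)
      fun e => hk1 (congrArg Subtype.val e)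
    have hl' : (⟨φ l, Subgroup.mem_map_of_mem φ hlM⟩ : Q) ∈ Subgroup.zpowers
        (⟨φ k, Subgroup.mem_map_of_mem φ hkM⟩ : Q) := h ▸ Subgroup.mem_top _
    obtain ⟨i, hi⟩ := hl'
    exact ⟨i, congrArg Subtype.val hi⟩
  have hk' : φ k ∈ MulAction.stabilizer (MulAut A) (⟨t, ht⟩ : A) := by
    show φ k ⟨t, ht⟩ = _
    refine Subtype.ext ?_
    show (k : L) * t * (k : L)⁻¹ = t
    rw [hks, mul_inv_cancel_right]
  have h1 : (l : L) * t * (l : L)⁻¹ = t :=
    congrArg Subtype.val (Subgroup.zpowers_le.mpr hk' hgen : φ l ⟨t, ht⟩ = ⟨t, ht⟩)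
  rcases hlfix t ht (mul_inv_eq_iff_eq_mul.mp h1) with h | h
  · exact ht1 h
  · exact hst h.symm

/-- The 2-subgroups of `N(A)` lie in `A`. -/
theorem two_le_A {W : Subgroup L} (hW : IsPGroup 2 W) (hle : W ≤ Subgroup.normalizer (A : Set L)) : W ≤ A := by
  haveI : Fact (Nat.Prime 2) := ⟨Nat.prime_two⟩
  have h1 : IsPGroup 2 ↥(W ⊔ A) := hW.to_sup_of_normal_right' H.closed.isPGroup hle
  have h2 : A = W ⊔ A := Subgroup.eq_of_le_of_card_ge le_sup_right (H.card.symm ▸ H.card_two_le h1)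
  exact h2 ▸ le_sup_left

/-- The odd core of `C(A)` when it is not trivial. -/
theorem exists_fieldHyp (hne : oddC A ≠ ⊥) : ∃ x r, FieldHyp A x r := by
  classical
  haveI : Fact (Nat.Prime 2) := ⟨Nat.prime_two⟩
  haveI := H.hyp.simple
  obtain ⟨g, hgN, hgt⟩ := H.exists_seven
  have hNC := H.normalizer_le_centralizer
  obtain ⟨t, ht, ht1⟩ : ∃ t ∈ A, t ≠ 1 := by
    haveI : Nontrivial A := Finite.one_lt_card_iff_nontrivial.mp (H.card.symm ▸ by norm_num)
    obtain ⟨⟨t, ht⟩, ht1⟩ := exists_ne (1 : A)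
    exact ⟨t, ht, fun e => ht1 (Subtype.ext e)⟩
  obtain ⟨r, hr, hrd⟩ := Nat.exists_prime_and_dvd (n := Nat.card (oddC A))
    fun e => hne (Subgroup.card_eq_one.mp e)
  haveI : Fact r.Prime := ⟨hr⟩
  have hr2 : r ≠ 2 := fun e => Nat.not_even_iff_odd.mpr (oddC_odd A) (even_iff_two_dvd.mpr (e ▸ hrd))
  obtain ⟨⟨x, hxR⟩, hx⟩ := exists_prime_orderOf_dvd_card' (G := oddC A) r hrd
  rw [Subgroup.orderOf_mk] at hx
  have hx1 : x ≠ 1 := fun e => hr.one_lt.ne' (hx ▸ e ▸ orderOf_one)
  set C := Subgroup.centralizer ({x} : Set L) with hC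
  have hNleC : Subgroup.normalizer (A : Set L) ≤ C := fun n hn =>
    Subgroup.mem_centralizer_singleton_iff.mpr (hNC hn x hxR).symm
  have hAC : A ≤ C := fun a ha => hNleC (Subgroup.le_normalizer ha)
  have hCtop : C ≠ ⊤ := fun e => hx1 (by
    have hz : x ∈ Subgroup.center L := Subgroup.mem_center_iff.mpr fun y =>
      Subgroup.mem_centralizer_singleton_iff.mp (e ▸ Subgroup.mem_top y : y ∈ C)
    rcases (inferInstance : (Subgroup.center L).Normal).eq_bot_or_eq_top with h | h
    · rwa [h, Subgroup.mem_bot] at hz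
    · exact absurd ⟨⟨fun a b => (Subgroup.mem_center_iff.mp (h ▸ Subgroup.mem_top a : a ∈ Subgroup.center L) b).symm⟩⟩
        H.hyp.nonabelian)
  obtain ⟨hsolC, hfac⟩ := H.soluble_above hAC hCtop (hNleC hgN) hgt
  -- the action on the components
  have hcomp : ∀ s ∈ A, s ≠ 1 → ∃ E, AtL A s E ∧ Nat.card ↥(E ⊓ C) ≤ 12 ∧ Nat.card (oddC A) = r ∧
      ∃ (F : Type) (_ : Field F) (_ : Fintype F) (m : ℕ), ReeTori.QData F m ∧ r = 2 * m + 1 ∧
        Nonempty (↥E ≃* Matrix.ProjectiveSpecialLinearGroup (Fin 2) F) := by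
    intro s hs hs1
    obtain ⟨E, hE⟩ := H.exists_atL hs hs1
    obtain ⟨F, i1, i2, m, D, ⟨e⟩⟩ := hE.model
    haveI : Fact (Nat.Prime 3) := ⟨Nat.prime_three⟩
    haveI := D.charP
    have hn : oddC A ≤ Subgroup.normalizer (E : Set L) := (H.oddC_le_cc hs).trans hE.norm
    let act : oddC A →* MulAut (Matrix.ProjectiveSpecialLinearGroup (Fin 2) F) :=
      (MulAut.congr e).toMonoidHom.comp (E.normalizerMonoidHom.comp (Subgroup.inclusion hn))
    have hact : ∀ (z : oddC A) (y : E), act z (e y) = e ⟨z * y * (z : L)⁻¹,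
        (Subgroup.mem_normalizer_iff.mp (hn z.2) y).mp y.2⟩ := by
      intro z y
      show e ((E.normalizerMonoidHom (Subgroup.inclusion hn z)) (e.symm (e y))) = _
      rw [e.symm_apply_apply]
      rfl
    have hinj : Function.Injective act := by
      refine (injective_iff_map_eq_one act).mpr fun z hz => Subtype.ext ?_
      have h1 : ∀ y ∈ E, (z : L) * y = y * z := by
        intro y hy
        have h2 := hact z ⟨y, hy⟩
        rw [hz, MulAut.one_apply] at h2
        have h3 : y = (z : L) * y * (z : L)⁻¹ := congrArg Subtype.val (e.injective h2)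
        exact (eq_mul_inv_iff_mul_eq.mp h3).symm
      rcases hE.cent z (H.oddC_le_cc hs z.2) h1 with h | h
      · exact h
      · exfalso
        have h3 : orderOf s = 2 := orderOf_eq_prime (H.closed.elem.2 s hs) hs1
        have h4 := (oddC_odd A).of_dvd_nat (Subgroup.orderOf_dvd_natCard _ z.2)
        rw [h, h3] at h4
        exact absurd h4 (by decide)
    let T' : Subgroup (Matrix.ProjectiveSpecialLinearGroup (Fin 2) F) :=
      ((A ⊓ E).subgroupOf E).map e.toMonoidHom
    have hT' : Nat.card T' = 4 := by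
      rw [Subgroup.card_map_of_injective e.injective,
        Nat.card_congr (Subgroup.subgroupOfEquivOfLe inf_le_right).toEquiv, hE.inter]
    have hfix : ∀ z, ∀ w ∈ T', act z w = w := by
      rintro z _ ⟨y, hy, rfl⟩
      refine (hact z y).trans (congrArg e (Subtype.ext ?_))
      show (z : L) * y * (z : L)⁻¹ = y
      rw [← oddC_le A z.2 (y : L) hy.1, mul_inv_cancel_right]
    set φ := act ⟨x, hxR⟩ with hφ
    have hφo : orderOf φ = r := by rw [hφ, orderOf_injective act hinj, Subgroup.orderOf_mk, hx]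
    have hsol : Group.IsSolvable (fixPts φ) := by
      haveI := hsolC
      let f : fixPts φ →* C :=
        { toFun := fun w => ⟨(e.symm (w : Matrix.ProjectiveSpecialLinearGroup (Fin 2) F) : E), by
            have h1 := hact ⟨x, hxR⟩ (e.symm w)
            rw [e.apply_symm_apply, ← hφ, show φ (w : Matrix.ProjectiveSpecialLinearGroup (Fin 2) F) = w from w.2] at h1
            have h2 : ((e.symm w : E) : L) = x * (e.symm w : E) * x⁻¹ :=
              congrArg Subtype.val (e.injective ((e.apply_symm_apply _).trans h1))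
            exact Subgroup.mem_centralizer_singleton_iff.mpr (eq_mul_inv_iff_mul_eq.mp h2)⟩
          map_one' := Subtype.ext (by simp)
          map_mul' := fun a b => Subtype.ext (by simp) }
      refine Group.isSolvable_of_isSolvable_injective (f := f) fun a b h => Subtype.ext (e.symm.injective ?_)
      exact Subtype.ext (congrArg Subtype.val h :)
    rcases L2Model.prime_fix D hr hr2 hφo hT' (hfix _) with h | ⟨hrm, h12⟩
    · exact absurd hsol h
    refine ⟨E, hE, le_trans ?_ h12, ?_, F, i1, i2, m, D, hrm, ⟨e⟩⟩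
    · have hw : ∀ w : ↥(E ⊓ C), e ⟨(w : L), w.2.1⟩ ∈ fixPts φ := fun w => by
        rw [mem_fixPts]
        refine (hact ⟨x, hxR⟩ ⟨(w : L), w.2.1⟩).trans (congrArg e (Subtype.ext ?_))
        show x * (w : L) * x⁻¹ = w
        rw [← Subgroup.mem_centralizer_singleton_iff.mp w.2.2, mul_inv_cancel_right]
      exact Nat.card_le_card_of_injective (fun w => (⟨_, hw w⟩ : fixPts φ))
        fun a b h => Subtype.ext (congrArg Subtype.val (e.injective (congrArg Subtype.val h)) :)
    · haveI : IsCyclic (oddC A) := by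
        haveI := H.imR_cyclic hs hs1
        refine isCyclic_of_injective (((ff s).subgroupMap ((oddC A).subgroupOf (cc s))).comp
          (Subgroup.subgroupOfEquivOfLe (H.oddC_le_cc hs)).symm.toMonoidHom) fun a b h => ?_
        have h' := H.ff_injective hs hs1 (congrArg Subtype.val h)
        exact Subtype.ext (congrArg Subtype.val h' :)
      obtain ⟨y, hy⟩ := IsCyclic.exists_generator (α := oddC A)
      have hy' : orderOf y = Nat.card (oddC A) := orderOf_eq_card_of_forall_mem_zpowers hy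
      have h1 : orderOf (act y) = Nat.card (oddC A) := by rw [orderOf_injective act hinj, hy']
      have h2 : orderOf (act y) ∣ 2 * m + 1 := L2Model.orderOf_fix_dvd D (h1 ▸ oddC_odd A) hT' (hfix y)
      rw [h1, ← hrm] at h2
      exact ((Nat.dvd_prime hr).mp h2).resolve_left fun e => hne (Subgroup.card_eq_one.mp e)
  obtain ⟨E0, hE0, -, hR, -⟩ := hcomp t ht ht1
  have hgen : oddC A = Subgroup.zpowers x := (Subgroup.eq_of_le_of_card_ge (Subgroup.zpowers_le.mpr hxR)
    (by rw [Nat.card_zpowers, hx, hR])).symm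
  -- the centralisers in the components
  have hcomp' : ∀ s ∈ A, s ≠ 1 → ∃ E, AtL A s E ∧ Nat.card ↥(E ⊓ C) = 12 ∧ x ∉ E ∧
      (A ⊓ E ≤ C) ∧ (∀ c ∈ E ⊓ C, c ∈ Subgroup.normalizer (A ⊓ E : Set L)) ∧
      ∃ (F : Type) (_ : Field F) (_ : Fintype F) (m : ℕ), ReeTori.QData F m ∧ r = 2 * m + 1 ∧
        Nonempty (↥E ≃* Matrix.ProjectiveSpecialLinearGroup (Fin 2) F) := by
    intro s hs hs1
    obtain ⟨E, hE, h12, -, hM⟩ := hcomp s hs hs1
    obtain ⟨k, hkN, hkE, htr, hkr⟩ := hE.kappa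
    set V := A ⊓ E with hVdef
    set Y := E ⊓ C with hYdef
    have hVY : V ≤ Y := fun v hv => ⟨hv.2, hAC hv.1⟩
    have hkY : k ∈ Y := ⟨hkE, hNleC hkN⟩
    have hkV : k ∈ Subgroup.normalizer (V : Set L) := mem_normalizer_of_maps fun v hv =>
      ⟨(Subgroup.mem_normalizer_iff.mp hkN v).mp hv.1, E.mul_mem (E.mul_mem hkE hv.2) (E.inv_mem hkE)⟩
    set Z := V ⊔ Subgroup.zpowers k with hZdef
    have hZY : Z ≤ Y := sup_le hVY (Subgroup.zpowers_le.mpr hkY)
    have hZN : Z ≤ Subgroup.normalizer (V : Set L) := sup_le Subgroup.le_normalizer (Subgroup.zpowers_le.mpr hkV)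
    let VZ := V.subgroupOf Z
    let f : ↥Z →* MulAut V := V.normalizerMonoidHom.comp (Subgroup.inclusion hZN)
    have hVker : VZ ≤ f.ker := by
      intro z hz
      refine MulEquiv.ext fun v => Subtype.ext ?_
      show (z : L) * v * (z : L)⁻¹ = v
      rw [H.comm (show (z : L) ∈ A from hz.1) v.2.1, mul_inv_cancel_right]
    have h3 : 3 ≤ VZ.index := by
      obtain ⟨v, hv⟩ : ∃ v : V, v ≠ 1 := by
        haveI : Nontrivial V := Finite.one_lt_card_iff_nontrivial.mp (hE.inter.symm ▸ by norm_num)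
        exact exists_ne 1
      have hcardn : Nat.card {w : V // w ≠ 1} = 3 := by
        haveI : Fintype V := Fintype.ofFinite _
        rw [Nat.card_eq_fintype_card, Fintype.card_subtype_compl, Fintype.card_subtype_eq,
          ← Nat.card_eq_fintype_card, hE.inter]
      let orb : ↥Z ⧸ VZ → {w : V // w ≠ 1} := Quotient.lift
        (fun z => ⟨f z v, fun e => hv ((f z).injective (e.trans (map_one _).symm))⟩) fun a b hab => by
          have : a⁻¹ * b ∈ VZ := QuotientGroup.leftRel_apply.mp hab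
          refine Subtype.ext ?_
          show f a v = f b v
          rw [show b = a * (a⁻¹ * b) by group, map_mul, MulAut.mul_apply,
            show f (a⁻¹ * b) = 1 from hVker this, MulAut.one_apply]
      have horb : Function.Surjective orb := by
        rintro ⟨w, hw⟩
        obtain ⟨i, hi⟩ := htr v v.2 (fun e => hv (Subtype.ext e)) w w.2 (fun e => hw (Subtype.ext e))
        exact ⟨QuotientGroup.mk ⟨k ^ i, Z.pow_mem (Subgroup.mem_sup_right (Subgroup.mem_zpowers k)) i⟩,
          Subtype.ext (Subtype.ext hi)⟩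
      calc 3 = Nat.card {w : V // w ≠ 1} := hcardn.symm
        _ ≤ Nat.card (↥Z ⧸ VZ) := Nat.card_le_card_of_surjective orb horb
        _ = VZ.index := (Subgroup.index_eq_card _).symm
    have hZ12 : 12 ≤ Nat.card Z := by
      rw [← VZ.card_mul_index, show Nat.card VZ = 4 from
        (Nat.card_congr (Subgroup.subgroupOfEquivOfLe le_sup_left).toEquiv).trans hE.inter]
      exact Nat.mul_le_mul_left 4 h3
    have hYeq : Z = Y := Subgroup.eq_of_le_of_card_ge hZY (h12.trans hZ12)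
    have hY12 : Nat.card Y = 12 := le_antisymm h12 (hZ12.trans_eq (congrArg (fun W : Subgroup L => Nat.card W) hYeq))
    refine ⟨E, hE, hY12, fun hxE => ?_, fun v hv => hAC hv.1, fun c hc => hZN (hYeq.symm ▸ hc), hM⟩
    -- `x` would be central of order `3`
    have hxY : x ∈ Y := ⟨hxE, Subgroup.mem_centralizer_singleton_iff.mpr rfl⟩
    have hxZ : x ∈ Z := hYeq.symm ▸ hxY
    have hVc : Nat.card VZ = 4 := (Nat.card_congr (Subgroup.subgroupOfEquivOfLe le_sup_left).toEquiv).trans hE.inter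
    have hidx : VZ.index = 3 := by
      have h := VZ.card_mul_index
      rw [hVc, show Nat.card Z = 12 from (congrArg (fun W : Subgroup L => Nat.card W) hYeq).trans hY12] at h
      omega
    have hxker : (⟨x, hxZ⟩ : ↥Z) ∈ f.ker := MulEquiv.ext fun v => Subtype.ext (by
      show x * (v : L) * x⁻¹ = v
      rw [← Subgroup.mem_centralizer_singleton_iff.mp (hAC v.2.1), mul_inv_cancel_right])
    have hxV : (⟨x, hxZ⟩ : ↥Z) ∉ VZ := fun h => by
      have h2 : orderOf x ∣ 2 := orderOf_dvd_of_pow_eq_one (H.closed.elem.2 x h.1)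
      rw [hx] at h2
      exact hr2 ((Nat.prime_dvd_prime_iff_eq hr Nat.prime_two).mp h2)
    have hker : f.ker = ⊤ := by
      rcases (Nat.dvd_prime Nat.prime_three).mp (hidx ▸ Subgroup.index_dvd_of_le hVker) with h | h
      · exact Subgroup.index_eq_one.mp h
      · exfalso
        refine hxV ?_
        have h1 := f.ker.card_mul_index
        rw [h, ← VZ.card_mul_index, hidx] at h1
        rw [Subgroup.eq_of_le_of_card_ge hVker (Nat.eq_of_mul_eq_mul_right (by norm_num) h1).le]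
        exact hxker
    haveI : Nontrivial V := Finite.one_lt_card_iff_nontrivial.mp (hE.inter.symm ▸ by norm_num)
    obtain ⟨v, hv⟩ := exists_ne (1 : V)
    let g2 : Fin 2 → V := ![1, v]
    have hs' : Function.Surjective g2 := fun w => by
      by_cases hw : w = 1
      · exact ⟨0, hw.symm⟩
      · obtain ⟨i, hi⟩ := htr v v.2 (fun e => hv (Subtype.ext e)) w w.2 (fun e => hw (Subtype.ext e))
        have h1 : (⟨k ^ i, Z.pow_mem (Subgroup.mem_sup_right (Subgroup.mem_zpowers k)) i⟩ : ↥Z) ∈ f.ker :=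
          hker ▸ Subgroup.mem_top _
        have h2 := congrArg (fun α : MulAut V => ((α v : V) : L)) h1
        exact ⟨1, Subtype.ext (h2.symm.trans hi)⟩
    have := Nat.card_le_card_of_surjective g2 hs'
    rw [Nat.card_fin, hE.inter] at this
    omega
  -- the core of `C(x)`
  set O := (pPrimeCore 2 ↥C).map C.subtype with hO
  have hOodd : Odd (Nat.card O) := by
    rw [hO, Subgroup.card_map_of_injective C.subtype_injective]
    exact Nat.coprime_two_right.mp (card_pPrimeCore_coprime 2)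
  have hON : C ≤ Subgroup.normalizer (O : Set L) := fun c hc => mem_normalizer_of_maps fun z hz => by
    obtain ⟨z, hz, rfl⟩ := hz
    exact ⟨⟨c, hc⟩ * z * ⟨c, hc⟩⁻¹, (inferInstance : (pPrimeCore 2 ↥C).Normal).conj_mem z hz ⟨c, hc⟩, rfl⟩
  have hOC : O ≤ C := Subgroup.map_subtype_le _
  have hodd : ∀ {z : L}, z ∈ O → Odd (orderOf z) := fun {z} hz =>
    hOodd.of_dvd_nat (Subgroup.orderOf_dvd_natCard _ hz)
  have hcent : ∀ {z s : L} {E : Subgroup L}, AtL A s E → s ∈ A → s ≠ 1 → z * s = s * z →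
      (∀ v ∈ A ⊓ E, z * v = v * z) → z ∈ Subgroup.centralizer (A : Set L) := by
    intro z s E hE hs hs1 hzs hzv a ha
    show a * z = z * a
    rcases H.mem_zpowers_of_two hE hs hs1 ha with h | h
    · exact (hzv a ⟨ha, h⟩).symm
    · have h1 := hzv _ ⟨A.mul_mem hs ha, h⟩
      rw [← mul_assoc, hzs, mul_assoc, mul_assoc] at h1
      exact (mul_left_cancel h1).symm
  have hOx : O ≤ Subgroup.zpowers x := by
    haveI : IsMulCommutative A := ⟨⟨fun a b => Subtype.ext (H.comm a.2 b.2)⟩⟩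
    have hncyc : ¬ IsCyclic A := by
      intro hcy
      obtain ⟨y, hy⟩ := IsCyclic.exists_generator (α := A)
      have h1 := orderOf_eq_card_of_forall_mem_zpowers hy
      have h2 : orderOf y ∣ 2 := orderOf_dvd_of_pow_eq_one (Subtype.ext (H.closed.elem.2 _ y.2))
      rw [h1, H.card] at h2
      norm_num at h2
    have hgenO := coprime_generated_by_centralizers (A := A) (K := O) hncyc (hAC.trans hON) (by
      rw [H.card, show (8 : ℕ) = 2 ^ 3 from rfl]
      exact Nat.Coprime.pow_left _ (Nat.coprime_two_left.mpr hOodd))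
    rw [← hgenO]
    refine iSup₂_le fun s hs o ho => ?_
    obtain ⟨hs, hs1⟩ := hs
    obtain ⟨hoO, hos⟩ := ho
    have hos' : o * s = s * o := Subgroup.mem_centralizer_singleton_iff.mp hos
    obtain ⟨E, hE, -, hxE, -, hYN, -⟩ := hcomp' s hs hs1
    have hoE : o ∈ Subgroup.normalizer (E : Set L) := hE.norm (mem_cc.mpr hos')
    have key : ∀ y ∈ O, y ∈ E → y = 1 := by
      intro y hyO hyE
      have hyN := hYN y ⟨hyE, hOC hyO⟩
      have hyv : ∀ v ∈ A ⊓ E, y * v = v * y := by
        intro v hv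
        have h1 : y * v * y⁻¹ * v⁻¹ ∈ A :=
          A.mul_mem ((Subgroup.mem_normalizer_iff.mp hyN v).mp hv).1 (A.inv_mem hv.1)
        have h2 : y * v * y⁻¹ * v⁻¹ ∈ O := by
          rw [mul_assoc, mul_assoc, ← mul_assoc v]
          exact O.mul_mem hyO ((Subgroup.mem_normalizer_iff.mp (hON (hAC hv.1)) _).mp (O.inv_mem hyO))
        have h3 : orderOf (y * v * y⁻¹ * v⁻¹) ∣ 2 := orderOf_dvd_of_pow_eq_one (H.closed.elem.2 _ h1)
        rcases (Nat.dvd_prime Nat.prime_two).mp h3 with h | h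
        · rw [orderOf_eq_one_iff, mul_inv_eq_one, mul_inv_eq_iff_eq_mul] at h
          exact h
        · exact absurd (h ▸ hodd h2) (by decide)
      have h4 : y ∈ oddC A := H.mem_oddC (hcent hE hs hs1 (mem_cc.mp (hE.le hyE)) hyv) (hodd hyO)
      rw [hgen] at h4
      by_contra hy1
      have htop := zpowers_eq_top_of_prime_card (G := Subgroup.zpowers x) (p := r)
        (by rw [Nat.card_zpowers, hx]) (g := ⟨y, h4⟩) fun e => hy1 (congrArg Subtype.val e)
      obtain ⟨i, hi⟩ := (htop ▸ Subgroup.mem_top _ :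
        (⟨x, Subgroup.mem_zpowers x⟩ : Subgroup.zpowers x) ∈ Subgroup.zpowers (⟨y, h4⟩ : Subgroup.zpowers x))
      have hi' : y ^ i = x := congrArg Subtype.val hi
      exact hxE (hi' ▸ E.zpow_mem hyE i)
    rw [← hgen]
    refine H.mem_oddC (hcent hE hs hs1 hos' fun v hv => ?_) (hodd hoO)
    have h1 : o * v * o⁻¹ * v⁻¹ = 1 := by
      refine key _ ?_ (E.mul_mem ((Subgroup.mem_normalizer_iff.mp hoE v).mp hv.2) (E.inv_mem hv.2))
      rw [mul_assoc, mul_assoc, ← mul_assoc v]
      exact O.mul_mem hoO ((Subgroup.mem_normalizer_iff.mp (hON (hAC hv.1)) _).mp (O.inv_mem hoO))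
    rwa [mul_inv_eq_one, mul_inv_eq_iff_eq_mul] at h1
  have hxN : Subgroup.zpowers x ≤ Subgroup.normalizer (A : Set L) := by
    rw [Subgroup.zpowers_le]
    exact Subgroup.centralizer_le_normalizer _ (oddC_le A hxR)
  have hCN : C = Subgroup.normalizer (A : Set L) := by
    refine le_antisymm (fun c hc => ?_) hNleC
    obtain ⟨o, ho, n, hn, e⟩ := hfac ⟨c, hc⟩
    have e' : (o : L) * n = c := congrArg Subtype.val e
    exact e' ▸ Subgroup.mul_mem _ (hxN (hOx ⟨o, ho, rfl⟩)) hn
  refine ⟨x, r, hr, hr2, hx, hgen, hCN, le_antisymm (fun g hg => ?_) ?_, ?_, fun s hs hs1 => ?_⟩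
  · -- the normaliser of `⟨x⟩`
    have hle : A.map (MulAut.conj g).toMonoidHom ≤ Subgroup.normalizer (A : Set L) := by
      rintro _ ⟨a, ha, rfl⟩
      rw [← hCN]
      refine Subgroup.mem_centralizer_singleton_iff.mpr ?_
      obtain ⟨i, hi⟩ := (Subgroup.mem_normalizer_iff''.mp hg x).mp (Subgroup.mem_zpowers x)
      have hi' : x ^ i = g⁻¹ * x * g := hi
      show g * a * g⁻¹ * x = x * (g * a * g⁻¹)
      have h2 : a * x ^ i = x ^ i * a :=
        ((show Commute a x from Subgroup.mem_centralizer_singleton_iff.mp (hAC ha)).zpow_right i).eq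
      rw [hi'] at h2
      calc g * a * g⁻¹ * x = g * (a * (g⁻¹ * x * g)) * g⁻¹ := by group
        _ = g * ((g⁻¹ * x * g) * a) * g⁻¹ := by rw [h2]
        _ = x * (g * a * g⁻¹) := by group
    have h3 := H.two_le_A (H.closed.isPGroup.map _) hle
    exact mem_normalizer_of_maps fun a ha => h3 ⟨a, ha, rfl⟩
  · intro n hn
    refine mem_normalizer_of_maps fun z hz => ?_
    obtain ⟨i, rfl⟩ := hz
    refine ⟨i, ?_⟩
    show x ^ i = n * x ^ i * n⁻¹
    rw [((show Commute n x from Subgroup.mem_centralizer_singleton_iff.mp (hNleC hn)).zpow_right i).eq,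
      mul_inv_cancel_right]
  · have hsplit : Nat.card (Subgroup.centralizer (A : Set L)) = 8 * r := by
      rw [← H.card, ← hR, ← Nat.card_prod]
      refine (Nat.card_eq_of_bijective (fun p : A × oddC A => (⟨p.1 * p.2, Subgroup.mul_mem _
        (H.le_centralizer p.1.2) (oddC_le A p.2.2)⟩ : Subgroup.centralizer (A : Set L)))
        ⟨fun p q h => ?_, fun c => ?_⟩).symm
      · have h' : (p.1 : L) * p.2 = q.1 * q.2 := congrArg Subtype.val h
        have h1 : (q.1 : L)⁻¹ * p.1 = q.2 * (p.2 : L)⁻¹ := by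
          rw [inv_mul_eq_iff_eq_mul, ← mul_assoc, ← h', mul_inv_cancel_right]
        have h2 : orderOf ((q.1 : L)⁻¹ * p.1) ∣ 2 :=
          orderOf_dvd_of_pow_eq_one (H.closed.elem.2 _ (A.mul_mem (A.inv_mem q.1.2) p.1.2))
        have h3 : (q.1 : L)⁻¹ * p.1 = 1 := by
          rcases (Nat.dvd_prime Nat.prime_two).mp h2 with h | h
          · exact orderOf_eq_one_iff.mp h
          · rw [h1] at h
            have := (oddC_odd A).of_dvd_nat (Subgroup.orderOf_dvd_natCard _
              ((oddC A).mul_mem q.2.2 ((oddC A).inv_mem p.2.2)))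
            exact absurd (h ▸ this) (by decide)
        have h4 : (p.1 : L) = q.1 := (inv_mul_eq_one.mp h3).symm
        rw [h4] at h'
        exact Prod.ext (Subtype.ext h4) (Subtype.ext (mul_left_cancel h'))
      · obtain ⟨a, ha, z, hz, e⟩ := H.split c.2
        exact ⟨(⟨a, ha⟩, ⟨z, hz⟩), Subtype.ext e⟩
    have h1 := ((Subgroup.centralizer (A : Set L)).subgroupOf (Subgroup.normalizer (A : Set L))).card_mul_index
    rw [Nat.card_congr (Subgroup.subgroupOfEquivOfLe (Subgroup.centralizer_le_normalizer (A : Set L))).toEquiv,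
      hsplit, show ((Subgroup.centralizer (A : Set L)).subgroupOf (Subgroup.normalizer (A : Set L))).index = 21
        from H.relIndex] at h1
    rw [← h1]
    ring
  · obtain ⟨E, hE, h12, hxE, -, -, hM⟩ := hcomp' s hs hs1
    exact ⟨E, hE, h12, hxE, hM⟩

end EightHyp

end CfsgLib.S3Simple
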