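import Cfsg.Agent.Lib.S3Simple.Eight.Core
import Cfsg.Agent.Lib.S3Simple.ModuleLemma

/-!
5.2: the core of `C(t)` is trivial.

Blueprint: `blueprint/S3Free.md`, 5.2.
-/

set_option autoImplicit false
set_option linter.unusedSectionVars false
set_option linter.style.haveILetI false

namespace CfsgLib.S3Simple

open Cfsg CfsgLib.Comp CfsgLib.AfterFT.CoreSep

universe u

variable {L : Type u} [Group L] [Finite L] {S : Sylow 2 L} {A : Subgroup L}

namespace EightHyp

variable (H : EightHyp S A)
include H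

set_option maxHeartbeats 800000 in
/-- 5.2. -/
theorem core_eq_bot {t : L} (ht : t ∈ A) (ht1 : t ≠ 1) : centralizerPPrimeCore 2 t = ⊥ := by
  classical
  haveI : Fact (Nat.Prime 2) := ⟨Nat.prime_two⟩
  by_contra hne
  let O : Subgroup ↥(cc t) := pPrimeCore 2 ↥(cc t)
  have hOn : O.Normal := (inferInstance : (pPrimeCore 2 ↥(cc t)).Normal)
  have hOodd : Odd (Nat.card O) := Nat.coprime_two_right.mp (card_pPrimeCore_coprime 2)
  haveI : Nontrivial O := (Subgroup.nontrivial_iff_ne_bot _).mpr fun e => hne (by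
    show (pPrimeCore 2 ↥(cc t)).map (cc t).subtype = ⊥
    rw [show pPrimeCore 2 ↥(cc t) = ⊥ from e, Subgroup.map_bot])
  haveI : Group.IsSolvable O := oddSolv _ hOodd
  -- a prime dividing the order of the abelianisation
  have hab : Nat.card (Abelianization O) ≠ 1 := by
    intro e
    rw [Nat.card_eq_one_iff_unique] at e
    haveI := e.1
    have : commutator O = ⊤ := QuotientGroup.subsingleton_iff.mp e.1
    exact (Group.IsSolvable.commutator_lt_top_of_nontrivial (G := O)).ne this
  obtain ⟨p, hp, hpd⟩ := Nat.exists_prime_and_dvd hab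
  haveI : Fact p.Prime := ⟨hp⟩
  have hp2 : p ≠ 2 := by
    rintro rfl
    have h1 : Nat.card (Abelianization O) ∣ Nat.card O :=
      Subgroup.card_dvd_of_surjective Abelianization.of QuotientGroup.mk_surjective
    exact (Nat.not_even_iff_odd.mpr hOodd) (even_iff_two_dvd.mpr (hpd.trans h1))
  -- the kernel `N` of the largest quotient of exponent `p`
  set N : Subgroup ↥(cc t) := ⁅O, O⁆ ⊔ Subgroup.closure ((fun x => x ^ p) '' (O : Set ↥(cc t))) with hN
  have hNO : N ≤ O := by
    refine sup_le (Subgroup.commutator_le_self O) ((Subgroup.closure_le _).mpr ?_)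
    rintro _ ⟨x, hx, rfl⟩
    exact O.pow_mem hx p
  haveI hNn : N.Normal := by
    haveI : (Subgroup.closure ((fun x => x ^ p) '' (O : Set ↥(cc t)))).Normal := ⟨fun x hx g => by
      have h1 : MulAut.conj g x ∈ (Subgroup.closure ((fun x => x ^ p) '' (O : Set ↥(cc t)))).map
          (MulAut.conj g).toMonoidHom := ⟨x, hx, rfl⟩
      rw [MonoidHom.map_closure] at h1
      refine Subgroup.closure_mono ?_ h1
      rintro _ ⟨_, ⟨y, hy, rfl⟩, rfl⟩
      exact ⟨g * y * g⁻¹, hOn.conj_mem y hy g, conj_pow⟩⟩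
    infer_instance
  have hNne : ¬ O ≤ N := by
    intro hle
    have hsurj : Function.Surjective (powMonoidHom p : Abelianization O →* Abelianization O) := by
      rw [← MonoidHom.range_eq_top, eq_top_iff]
      intro y _
      obtain ⟨x, rfl⟩ := QuotientGroup.mk_surjective y
      have key : N ≤ ((powMonoidHom p : Abelianization O →* Abelianization O).range.comap
          Abelianization.of).map O.subtype := by
        refine sup_le ?_ ((Subgroup.closure_le _).mpr ?_)
        · rw [Subgroup.commutator_le]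
          intro a ha b hb
          refine ⟨⟨a, ha⟩ * ⟨b, hb⟩ * ⟨a, ha⟩⁻¹ * ⟨b, hb⟩⁻¹, ⟨1, ?_⟩, rfl⟩
          rw [map_one, map_mul, map_mul, map_mul, map_inv, map_inv,
            mul_comm (Abelianization.of (⟨a, ha⟩ : O)) (Abelianization.of ⟨b, hb⟩), mul_inv_cancel_right,
            mul_inv_cancel]
        · rintro _ ⟨a, ha, rfl⟩
          exact ⟨⟨a, ha⟩ ^ p, ⟨Abelianization.of ⟨a, ha⟩, (map_pow _ _ _).symm⟩, rfl⟩
      obtain ⟨x', hx', he⟩ := key (hle x.2)
      rw [show x' = x from Subtype.ext he] at hx'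
      exact hx'
    have hinj := Finite.injective_iff_surjective.mpr hsurj
    obtain ⟨z, hz⟩ := exists_prime_orderOf_dvd_card' (G := Abelianization O) p hpd
    have h1 : z = 1 := hinj (by
      show z ^ p = (1 : Abelianization O) ^ p
      rw [one_pow, ← hz, pow_orderOf_eq_one])
    rw [h1, orderOf_one] at hz
    exact hp.one_lt.ne hz
  -- the module
  let π := QuotientGroup.mk' N
  set M' : Subgroup (↥(cc t) ⧸ N) := O.map π with hM'
  haveI : M'.Normal := hOn.map π (QuotientGroup.mk'_surjective N)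
  have hMc : ∀ a b : M', a * b = b * a := by
    rintro ⟨_, a, ha, rfl⟩ ⟨_, b, hb, rfl⟩
    refine Subtype.ext ?_
    show π a * π b = π b * π a
    rw [← map_mul, ← map_mul]
    refine QuotientGroup.eq.mpr ?_
    rw [show (a * b)⁻¹ * (b * a) = b⁻¹ * a⁻¹ * (b⁻¹)⁻¹ * (a⁻¹)⁻¹ by group]
    exact Subgroup.mem_sup_left (Subgroup.commutator_mem_commutator (O.inv_mem hb) (O.inv_mem ha))
  letI : CommGroup M' := { (inferInstance : Group M') with mul_comm := hMc }
  have hMp : ∀ m : M', m ^ p = 1 := by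
    rintro ⟨_, a, ha, rfl⟩
    refine Subtype.ext ?_
    rw [SubmonoidClass.coe_pow]
    show π a ^ p = 1
    rw [← map_pow]
    exact (QuotientGroup.eq_one_iff _).mpr (Subgroup.mem_sup_right (Subgroup.subset_closure ⟨a, ha, rfl⟩))
  let act0 : ↥(cc t) →* MulAut M' := (MulAut.conjNormal).comp π
  have hact0 : ∀ (g : ↥(cc t)) (m : M'), ((act0 g m : M') : ↥(cc t) ⧸ N) = π g * m * (π g)⁻¹ := fun g m => rfl
  have hker : pPrimeCore 2 ↥(cc t) ≤ act0.ker := fun o ho => by
    refine MonoidHom.mem_ker.mpr (MulEquiv.ext fun m => Subtype.ext ?_)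
    rw [hact0, MulAut.one_apply]
    have h := congrArg Subtype.val (hMc ⟨π o, o, ho, rfl⟩ m)
    show π o * (m : ↥(cc t) ⧸ N) * (π o)⁻¹ = m
    rw [show π o * (m : ↥(cc t) ⧸ N) = m * π o from h, mul_inv_cancel_right]
  let act1 : qq t →* MulAut M' := QuotientGroup.lift _ act0 hker
  obtain ⟨E, hE⟩ := H.exists_atT ht ht1
  -- fixed points of `A` are trivial
  have hA8 : Nat.card A = 2 ^ 3 := by rw [H.card]; norm_num
  have hfix : ∀ m : M', (∀ a, ∀ ha : a ∈ A, act0 ⟨a, H.closed.mem_cc ht ha⟩ m = m) → m = 1 := by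
    rintro ⟨_, k, hk, rfl⟩ hm
    have hAsolv : Group.IsSolvable (A.subgroupOf (cc t)) :=
      Group.isSolvable_of_comm fun a b => Subtype.ext (Subtype.ext (H.comm a.2 b.2))
    have hcop : (Nat.card (A.subgroupOf (cc t))).Coprime (Nat.card O) := by
      rw [Nat.card_congr (Subgroup.subgroupOfEquivOfLe (H.closed.le_cc ht)).toEquiv, hA8]
      exact (Nat.coprime_two_left.mpr hOodd).pow_left 3
    obtain ⟨c, hc, hcN⟩ := coprime_fixed_quotient (A := A.subgroupOf (cc t)) (K := O) (N := N)
      (by rw [Subgroup.normalizer_eq_top_iff.mpr hOn]; exact le_top) hcop (Or.inl hAsolv) hNO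
      (by rw [Subgroup.normalizer_eq_top_iff.mpr hNn]; exact le_top)
      (by rw [Subgroup.normalizer_eq_top_iff.mpr hNn]; exact le_top) hk (fun a ha => by
        have h := congrArg Subtype.val (hm a ha)
        rw [hact0] at h
        have h' : π a * π k * (π a)⁻¹ = π k := h
        rw [← map_inv, ← map_mul, ← map_mul] at h'
        have h2 := QuotientGroup.eq.mp h'.symm
        have h3 := hNn.conj_mem _ h2 k
        rwa [mul_inv_cancel_left] at h3)
    have hc1 : (c : L) ∈ oddC A ⊓ centralizerPPrimeCore 2 t := by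
      refine ⟨H.mem_oddC (fun a ha => ?_) (odd_order_core ⟨c, hc.1, rfl⟩), c, hc.1, rfl⟩
      exact congrArg Subtype.val (hc.2 ⟨a, H.closed.mem_cc ht ha⟩ ha)
    rw [H.oddC_inf_core ht ht1, Subgroup.mem_bot] at hc1
    have hc0 : c = 1 := Subtype.ext hc1
    rw [hc0, mul_one] at hcN
    exact Subtype.ext ((QuotientGroup.eq_one_iff _).mpr (by simpa using N.inv_mem hcN))
  have hall : ∀ m : M', m = 1 := by
    by_cases hp3 : p = 3
    · subst hp3
      intro m
      refine hfix m fun a ha => Subtype.ext ?_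
      rw [hact0]
      have hfree : ¬ Involves (Equiv.Perm (Fin 3)) (↥(cc t) ⧸ N) := free_quotient (free_subgroup H.hyp.free _) N
      obtain ⟨j, -, hj⟩ := (Nat.dvd_prime_pow Nat.prime_two).mp (orderOf_dvd_of_pow_eq_one
        (show (π ⟨a, H.closed.mem_cc ht ha⟩) ^ 2 ^ 1 = 1 by
          rw [pow_one, ← map_pow, show (⟨a, H.closed.mem_cc ht ha⟩ : ↥(cc t)) ^ 2 = 1 from
            Subtype.ext (H.closed.elem.2 a ha), map_one]))
      have hM3 : IsPGroup 3 M' := fun m => ⟨1, by rw [pow_one]; exact hMp m⟩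
      have h := two_centralizes_three hfree hj hM3 (by
        rw [Subgroup.normalizer_eq_top_iff.mpr (inferInstance : M'.Normal)]
        exact Subgroup.mem_top _)
      rw [← h (m : ↥(cc t) ⧸ N) m.2, mul_inv_cancel_right]
    obtain ⟨F, iF, iFt, n, D, ⟨e⟩⟩ := hE.model
    let act : Matrix.ProjectiveSpecialLinearGroup (Fin 2) F →* MulAut M' :=
      (act1.comp E.subtype).comp e.symm.toMonoidHom
    set T' : Subgroup (Matrix.ProjectiveSpecialLinearGroup (Fin 2) F) :=
      ((imA A t ⊓ E).subgroupOf E).map e.toMonoidHom with hT'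
    have hT4 : Nat.card T' = 4 := by
      rw [hT', Subgroup.card_map_of_injective (f := e.toMonoidHom) e.injective,
        Nat.card_congr (Subgroup.subgroupOfEquivOfLe inf_le_right).toEquiv, hE.inter]
    have hklein : IsKleinFour T' := by
      refine ⟨hT4, ?_⟩
      have hd : Monoid.exponent T' ∣ 2 := Monoid.exponent_dvd_of_forall_pow_eq_one fun x => by
        obtain ⟨z, ⟨⟨a, ha, hae⟩, -⟩, hzx⟩ := x.2
        refine Subtype.ext ?_
        rw [SubmonoidClass.coe_pow, ← hzx, OneMemClass.coe_one]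
        show e z ^ 2 = 1
        rw [← map_pow, show z ^ 2 = 1 from Subtype.ext (by
          rw [SubmonoidClass.coe_pow]
          show (E.subtype z) ^ 2 = 1
          rw [← hae, ← map_pow, show a ^ 2 = 1 from Subtype.ext (H.closed.elem.2 _ ha), map_one]), map_one]
      rcases (Nat.dvd_prime Nat.prime_two).mp hd with h | h
      · haveI := Monoid.exp_eq_one_iff.mp h
        rw [Nat.card_of_subsingleton (1 : T')] at hT4
        omega
      · exact h
    refine no_fpf_four D.1 D.2 hp hp2 hp3 hMp act T' hklein fun m hm => hfix m fun a ha => ?_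
    have hV : ∀ b, ∀ hb : b ∈ Vsub A t E, act0 ⟨b, H.closed.mem_cc ht (Vsub_le A t E hb)⟩ m = m := by
      intro b hb
      have hbE := ((mem_Vsub (H.closed.mem_cc ht (Vsub_le A t E hb))).mp hb).2
      have h1 := hm (e ⟨_, hbE⟩) ⟨⟨_, hbE⟩, ⟨mem_imA (Vsub_le A t E hb) _, hbE⟩, rfl⟩
      have h2 : act (e ⟨_, hbE⟩) = act0 ⟨b, H.closed.mem_cc ht (Vsub_le A t E hb)⟩ := by
        show act1 (E.subtype (e.symm (e ⟨_, hbE⟩))) = _
        rw [e.symm_apply_apply]
        rfl
      rw [h2] at h1
      exact h1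
    rcases H.Vsub_cases ht ht1 hE ha with h | h
    · exact hV a h
    · have h1 := hV _ h
      have h2 : act0 ⟨t, H.closed.mem_cc ht ht⟩ = 1 := by
        refine MulEquiv.ext fun m => Subtype.ext ?_
        rw [hact0, MulAut.one_apply]
        obtain ⟨k, hk, hkm⟩ := m.2
        rw [← hkm, ← map_inv, ← map_mul, ← map_mul]
        refine congrArg π (Subtype.ext ?_)
        show t * (k : L) * t⁻¹ = k
        rw [← AfterFT.CoreSep.mem_cc.mp k.2, mul_inv_cancel_right]
      rw [show (⟨t * a, H.closed.mem_cc ht (Vsub_le A t E h)⟩ : ↥(cc t)) =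
        ⟨t, H.closed.mem_cc ht ht⟩ * ⟨a, H.closed.mem_cc ht ha⟩ from rfl, map_mul, h2, one_mul] at h1
      exact h1
  exact hNne fun o ho => (QuotientGroup.eq_one_iff o).mp (congrArg Subtype.val (hall ⟨π o, o, ho, rfl⟩))

end EightHyp

end CfsgLib.S3Simple
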