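import Cfsg.Agent.Lib.S3Simple.Eight.Three
import Cfsg.Agent.S0343

/-!
5.4: with a trivial odd core of `C(A)` the centraliser of an involution is `2 × L₂(q)`, and the order `q³(q³+1)(q-1)`
contradicts the order `q` of the Sylow 3-subgroups.

Blueprint: `blueprint/S3Free.md`, 5.4.
-/

set_option autoImplicit false
set_option linter.unusedSectionVars false
set_option linter.style.haveILetI false

namespace CfsgLib.S3Simple

open Cfsg CfsgLib.Comp CfsgLib.AfterFT.CoreSep

universe u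

variable {L : Type u} [Group L] [Finite L]

namespace EightHyp

variable {S : Sylow 2 L} {A : Subgroup L} (H : EightHyp S A)
include H

theorem false_of_oddC_bot (h0 : oddC A = ⊥) : False := by
  classical
  haveI : Fact (Nat.Prime 2) := ⟨Nat.prime_two⟩
  haveI : Fact (Nat.Prime 3) := ⟨Nat.prime_three⟩
  haveI := H.hyp.simple
  obtain ⟨g, hgN, hgt⟩ := H.exists_seven
  obtain ⟨t, ht, ht1⟩ : ∃ t ∈ A, t ≠ 1 := by
    haveI : Nontrivial A := Finite.one_lt_card_iff_nontrivial.mp (H.card.symm ▸ by norm_num)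
    obtain ⟨⟨t, ht⟩, ht1⟩ := exists_ne (1 : A)
    exact ⟨t, ht, fun e => ht1 (Subtype.ext e)⟩
  obtain ⟨E, hE⟩ := H.exists_atL ht ht1
  set N := Subgroup.normalizer (A : Set L) with hN
  have hCA : Subgroup.centralizer (A : Set L) ≤ A := fun c hc => by
    obtain ⟨a, ha, r, hr, rfl⟩ := H.split hc
    rw [h0, Subgroup.mem_bot] at hr
    rwa [hr, mul_one]
  have hCeq : Subgroup.centralizer (A : Set L) = A := le_antisymm hCA H.le_centralizer
  have hN168 : Nat.card N = 168 := by
    have h := ((Subgroup.centralizer (A : Set L)).subgroupOf N).card_mul_index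
    rw [Nat.card_congr (Subgroup.subgroupOfEquivOfLe (Subgroup.centralizer_le_normalizer (A : Set L))).toEquiv,
      show ((Subgroup.centralizer (A : Set L)).subgroupOf N).index = 21 from H.relIndex, hCeq, H.card] at h
    exact h.symm
  -- the stabiliser of `t` in `N(A)`
  have h7 : 7 ≤ ((cc t).subgroupOf N).index := by
    have hcA : Nat.card {a : A // a ≠ 1} = 7 := by
      haveI : Fintype A := Fintype.ofFinite _
      rw [Nat.card_eq_fintype_card, Fintype.card_subtype_compl, Fintype.card_subtype_eq,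
        ← Nat.card_eq_fintype_card, H.card]
    let orb : ↥N ⧸ (cc t).subgroupOf N → {a : A // a ≠ 1} := Quotient.lift
      (fun n => ⟨⟨(n : L) * t * (n : L)⁻¹, (Subgroup.mem_normalizer_iff.mp n.2 t).mp ht⟩,
        fun e => ht1 (conj_eq_one_iff.mp (congrArg Subtype.val e))⟩) fun a b hab => by
        have h : (a : L)⁻¹ * b ∈ cc t := (QuotientGroup.leftRel_apply.mp hab : a⁻¹ * b ∈ (cc t).subgroupOf N)
        refine Subtype.ext (Subtype.ext ?_)
        show (a : L) * t * (a : L)⁻¹ = b * t * (b : L)⁻¹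
        have h' := mem_cc.mp h
        calc (a : L) * t * (a : L)⁻¹ = a * (t * ((a : L)⁻¹ * b)) * (b : L)⁻¹ := by group
          _ = a * (((a : L)⁻¹ * b) * t) * (b : L)⁻¹ := by rw [h']
          _ = b * t * (b : L)⁻¹ := by group
    have horb : Function.Surjective orb := by
      rintro ⟨⟨w, hw⟩, hw1⟩
      obtain ⟨i, hi⟩ := hgt t ht ht1 w hw fun e => hw1 (Subtype.ext e)
      exact ⟨QuotientGroup.mk ⟨g ^ i, N.pow_mem hgN i⟩, Subtype.ext (Subtype.ext hi)⟩
    calc 7 = _ := hcA.symm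
      _ ≤ Nat.card (↥N ⧸ (cc t).subgroupOf N) := Nat.card_le_card_of_surjective orb horb
      _ = _ := (Subgroup.index_eq_card _).symm
  obtain ⟨k, hkN, hkE, htr, -⟩ := hE.kappa
  set Z := A ⊔ Subgroup.zpowers k with hZdef
  have hZle : Z ≤ N ⊓ cc t := sup_le (le_inf Subgroup.le_normalizer (H.A_le_cc ht))
    (Subgroup.zpowers_le.mpr ⟨hkN, hE.le hkE⟩)
  have hcard24 : Nat.card ↥(N ⊓ cc t) ≤ 24 := by
    have h := ((cc t).subgroupOf N).card_mul_index
    rw [show Nat.card ((cc t).subgroupOf N) = Nat.card ↥(N ⊓ cc t) from by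
      rw [← Subgroup.inf_subgroupOf_left,
        Nat.card_congr (Subgroup.subgroupOfEquivOfLe inf_le_left).toEquiv], hN168] at h
    have := Nat.mul_le_mul_left (Nat.card ↥(N ⊓ cc t)) h7
    omega
  have hkA : k ∉ A := fun hk => by
    haveI : Nontrivial ↥(A ⊓ E) := Finite.one_lt_card_iff_nontrivial.mp (hE.inter.symm ▸ by norm_num)
    obtain ⟨v, hv⟩ := exists_ne (1 : ↥(A ⊓ E))
    let f : Fin 2 → ↥(A ⊓ E) := ![1, v]
    have hs : Function.Surjective f := fun w => by
      by_cases hw : w = 1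
      · exact ⟨0, hw.symm⟩
      · obtain ⟨i, hi⟩ := htr v v.2 (fun e => hv (Subtype.ext e)) w w.2 fun e => hw (Subtype.ext e)
        rw [H.comm (A.pow_mem hk i) v.2.1, mul_inv_cancel_right] at hi
        exact ⟨1, Subtype.ext hi⟩
    have := Nat.card_le_card_of_surjective f hs
    rw [Nat.card_fin, hE.inter] at this
    omega
  have hZcard : 24 ≤ Nat.card Z := by
    have h8 : 8 ∣ Nat.card Z := H.card ▸ Subgroup.card_dvd_of_le le_sup_left
    have hne : Nat.card Z ≠ 8 := fun e => hkA ((Subgroup.eq_of_le_of_card_ge (le_sup_left : A ≤ Z)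
      (e.trans H.card.symm).le).symm ▸ Subgroup.mem_sup_right (Subgroup.mem_zpowers k))
    have hne16 : Nat.card Z ≠ 16 := fun e => by
      have := H.card_two_le (IsPGroup.of_card (G := ↥Z) (p := 2) (n := 4) (e.trans (by norm_num)))
      omega
    have hpos : 0 < Nat.card Z := Nat.card_pos
    omega
  have hZeq : Z = N ⊓ cc t := Subgroup.eq_of_le_of_card_ge hZle (hcard24.trans hZcard)
  -- `C(t) = ⟨t⟩ × E`
  have hAtE : ∀ a ∈ A, a ∈ Subgroup.zpowers t ⊔ E := fun a ha => by
    rcases H.mem_zpowers_of_two hE ht ht1 ha with h | h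
    · exact Subgroup.mem_sup_right h
    · have := Subgroup.mul_mem_sup (Subgroup.mem_zpowers t) h
      rwa [← mul_assoc, H.sq_eq ht, one_mul] at this
  have hZtE : Z ≤ Subgroup.zpowers t ⊔ E :=
    sup_le hAtE (Subgroup.zpowers_le.mpr (Subgroup.mem_sup_right hkE))
  have hcc : cc t = Subgroup.zpowers t ⊔ E := by
    refine le_antisymm (fun c hc => ?_) (sup_le (Subgroup.zpowers_le.mpr (H.A_le_cc ht ht)) hE.le)
    obtain ⟨e, he, hec⟩ := H.frattini_cc hE ht ht1 hc
    have h := hZtE (hZeq ▸ ⟨hec, (cc t).mul_mem (hE.le he) hc⟩ : e * c ∈ Z)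
    have h' := Subgroup.mul_mem _ (Subgroup.mem_sup_right (S := Subgroup.zpowers t) (E.inv_mem he)) h
    rwa [inv_mul_cancel_left] at h'
  -- the isomorphism with `2 × L₂(q)`
  obtain ⟨F, i1, i2, m, D, ⟨f⟩⟩ := hE.model
  haveI := D.charP
  have htE : t ∉ E := fun h => by
    obtain ⟨F', i1', i2', m', D', ⟨f'⟩⟩ := hE.model
    have hz : (⟨t, h⟩ : E) ∈ Subgroup.center E :=
      Subgroup.mem_center_iff.mpr fun y => Subtype.ext (mem_cc.mp (hE.le y.2))
    haveI := D'.charP
    have hb1 : f' ⟨t, h⟩ ≠ 1 := fun e => ht1 (congrArg Subtype.val (f'.injective (e.trans (map_one f').symm)))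
    have hb2 : f' ⟨t, h⟩ * f' ⟨t, h⟩ = 1 := by
      rw [← map_mul, show (⟨t, h⟩ : E) * ⟨t, h⟩ = 1 from Subtype.ext (H.sq_eq ht), map_one]
    have htop : Subgroup.centralizer {f' ⟨t, h⟩} = ⊤ := eq_top_iff.mpr fun y _ => by
      obtain ⟨y, rfl⟩ := f'.surjective y
      rw [Subgroup.mem_centralizer_singleton_iff, ← map_mul, ← map_mul, Subgroup.mem_center_iff.mp hz y]
    have h1 := ReeTori.card_cent_invol D' hb1 hb2
    rw [htop, Subgroup.card_top] at h1
    have h2 := ReeTori.card_PSL D'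
    obtain ⟨-, h27⟩ := D'.mod
    rw [h1] at h2
    have h3 : 3 * 3 ≤ (Fintype.card F') ^ 2 - 1 := by
      have := Nat.pow_le_pow_left h27 2
      omega
    have := Nat.mul_le_mul_left (Fintype.card F') h3
    omega
  have htord : orderOf t = 2 := orderOf_eq_prime (H.closed.elem.2 t ht) ht1
  let z2 : Multiplicative (ZMod 2) ≃* Subgroup.zpowers t :=
    mulEquivOfPrimeCardEq (p := 2) (by simp) (by rw [Nat.card_zpowers, htord])
  let ι : Subgroup.zpowers t × E →* ↥(cc t) :=
    { toFun := fun p => ⟨p.1 * p.2, (cc t).mul_mem ((Subgroup.zpowers_le.mpr (H.A_le_cc ht ht)) p.1.2) (hE.le p.2.2)⟩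
      map_one' := Subtype.ext (by simp)
      map_mul' := fun p q => Subtype.ext (by
        obtain ⟨i, hi⟩ := Subgroup.mem_zpowers_iff.mp q.1.2
        show (p.1 : L) * q.1 * ((p.2 : L) * q.2) = (p.1 : L) * p.2 * ((q.1 : L) * q.2)
        have hc : (p.2 : L) * q.1 = q.1 * p.2 :=
          hi ▸ ((show Commute (p.2 : L) t from mem_cc.mp (hE.le p.2.2)).zpow_right i).eq
        rw [mul_assoc, ← mul_assoc (q.1 : L), ← hc, mul_assoc (p.2 : L), ← mul_assoc]) }
  have hι : Function.Bijective ι := by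
    refine ⟨(injective_iff_map_eq_one ι).mpr fun p hp => ?_, fun c => ?_⟩
    · have h : (p.1 : L) * p.2 = 1 := congrArg Subtype.val hp
      have h1 : (p.1 : L) = 1 := by
        by_contra hne
        have : (p.1 : L) = t := by
          have hmem := p.1.2
          rw [← mem_powers_iff_mem_zpowers] at hmem
          obtain ⟨i, hi⟩ := hmem
          have hi' : t ^ i = (p.1 : L) := hi
          rcases Nat.even_or_odd' i with ⟨j, rfl | rfl⟩
          · rw [pow_mul, H.closed.elem.2 t ht, one_pow] at hi'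
            exact absurd hi'.symm hne
          · rw [pow_succ, pow_mul, H.closed.elem.2 t ht, one_pow, one_mul] at hi'
            exact hi'.symm
        rw [this, mul_eq_one_iff_eq_inv] at h
        exact htE (h ▸ E.inv_mem p.2.2)
      rw [h1, one_mul] at h
      exact Prod.ext (Subtype.ext h1) (Subtype.ext h)
    · have hmem : (c : L) ∈ ((Subgroup.zpowers t ⊔ E : Subgroup L) : Set L) := hcc ▸ c.2
      rw [Subgroup.coe_mul_of_left_le_normalizer_right _ _
        (Subgroup.zpowers_le.mpr (hE.norm (H.A_le_cc ht ht))), Set.mem_mul] at hmem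
      obtain ⟨a, ha, b, hb, e⟩ := hmem
      exact ⟨(⟨a, ha⟩, ⟨b, hb⟩), Subtype.ext e⟩
  have hC : Nonempty (Subgroup.centralizer ({t} : Set L) ≃*
      Multiplicative (ZMod 2) × Matrix.ProjectiveSpecialLinearGroup (Fin 2) F) :=
    ⟨(MulEquiv.ofBijective ι hι).symm.trans (z2.symm.prodCongr f)⟩
  have hab : ∀ P : Sylow 2 L, ∀ a b : P, a * b = b * a := fun P a b => by
    obtain ⟨x, hx⟩ := MulAction.exists_smul_eq L S P
    have hm : ∀ y : P, (MulAut.conj x)⁻¹ (y : L) ∈ A := fun y => by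
      have hy := y.2
      conv at hy => arg 1; rw [← hx]
      rw [← H.S_eq]
      exact Subgroup.mem_pointwise_smul_iff_inv_smul_mem.mp hy
    exact Subtype.ext ((MulAut.conj x)⁻¹.injective (by
      push_cast
      rw [map_mul, map_mul, H.comm (hm a) (hm b)]))
  rcases Cfsg.Agent.S0343.result hab (F := F) (by rw [D.hq]; exact (Nat.le_self_pow (by omega) 3)) t htord hC
    with ⟨n, hn, hqn, hcardL⟩ | ⟨hq45, -⟩
  swap
  · obtain ⟨-, h27⟩ := D.mod
    omega
  rw [D.hq] at hqn
  rw [← hqn] at hcardL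
  -- a Sylow 3-subgroup of `E`
  let P : Sylow 3 ↥E := default
  set U := (P : Subgroup ↥E).map E.subtype with hU
  obtain ⟨j, hj⟩ := IsPGroup.iff_card.mp P.2
  have hUc : Nat.card U = 3 ^ j := by rw [hU, Subgroup.card_map_of_injective E.subtype_injective, hj]
  set n3 := 2 * m + 1 with hn3
  have hEc : 2 * Nat.card E = 3 ^ n3 * ((3 ^ n3) ^ 2 - 1) := by
    rw [Nat.card_congr f.toEquiv, ReeTori.card_PSL D, D.hq]
  have hcop : ¬ 3 ∣ (3 ^ n3) ^ 2 - 1 := by
    have : 3 ∣ (3 ^ n3) ^ 2 := dvd_pow (dvd_pow_self 3 (by omega)) (by omega)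
    have : 0 < (3 ^ n3) ^ 2 := by positivity
    omega
  have hjn : n3 ≤ j ∧ j ≤ n3 := by
    have h := (P : Subgroup ↥E).card_mul_index
    rw [hj] at h
    constructor
    · have h1 : 3 ^ n3 ∣ 3 ^ j * (2 * (P : Subgroup ↥E).index) := ⟨_, by rw [← hEc, ← h]; ring⟩
      refine (Nat.pow_dvd_pow_iff_le_right (by norm_num)).mp ((Nat.Coprime.dvd_of_dvd_mul_right ?_) h1)
      exact (Nat.Coprime.mul_right (by norm_num) (Nat.prime_three.coprime_iff_not_dvd.mpr P.not_dvd_index)).pow_left _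
    · have h1 : 3 ^ j ∣ 3 ^ n3 * ((3 ^ n3) ^ 2 - 1) := by
        rw [← hEc, ← h]
        exact ⟨2 * (P : Subgroup ↥E).index, by ring⟩
      exact (Nat.pow_dvd_pow_iff_le_right (by norm_num)).mp
        (((Nat.prime_three.coprime_iff_not_dvd.mpr hcop).pow_left j).dvd_of_dvd_mul_right h1)
  have hjeq : j = n3 := le_antisymm hjn.2 hjn.1
  subst hjeq
  have hU1 : U ≠ ⊥ := fun e => by
    rw [e, Subgroup.card_bot] at hUc
    have : 3 ≤ 3 ^ (2 * m + 1) := Nat.le_self_pow (by omega) 3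
    omega
  obtain ⟨-, hNU, -⟩ := H.three_local hE ht ht1 (Subgroup.map_subtype_le _) (P.2.map _) hU1
  obtain ⟨Q, hQ⟩ := (P.2.map E.subtype).exists_le_sylow
  have hQdvd : 3 ^ (2 * n3 + 1) ∣ Nat.card (Q : Subgroup L) := by
    rw [Sylow.card_eq_multiplicity]
    refine pow_dvd_pow 3 ?_
    rw [← Nat.Prime.pow_dvd_iff_le_factorization Nat.prime_three Nat.card_pos.ne']
    refine (pow_dvd_pow 3 (show 2 * n3 + 1 ≤ n3 * 3 by omega)).trans ?_
    rw [hcardL, pow_mul]
    exact dvd_mul_of_dvd_left (dvd_mul_right _ _) _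
  have hlt : U < (Q : Subgroup L) := lt_of_le_of_ne hQ fun e => by
    rw [← e, hUc] at hQdvd
    have := (Nat.pow_dvd_pow_iff_le_right (show 1 < 3 by norm_num)).mp hQdvd
    omega
  haveI : Group.IsNilpotent (Q : Subgroup L) := Q.2.isNilpotent
  have hgrow : U.subgroupOf Q < Subgroup.normalizer ((U.subgroupOf Q : Subgroup ↥(Q : Subgroup L)) : Set ↥(Q : Subgroup L)) :=
    Group.normalizerCondition_of_isNilpotent _ (lt_top_iff_ne_top.mpr fun e =>
      hlt.2 (Subgroup.subgroupOf_eq_top.mp e))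
  set W := (Subgroup.normalizer ((U.subgroupOf Q : Subgroup ↥(Q : Subgroup L)) : Set ↥(Q : Subgroup L))).map
    (Q : Subgroup L).subtype with hW
  have hWle : W ≤ Subgroup.normalizer (U : Set L) := by
    rintro _ ⟨w, hw, rfl⟩
    refine mem_normalizer_of_maps fun u hu => ?_
    exact (Subgroup.mem_normalizer_iff.mp hw ⟨u, hQ hu⟩).mp hu
  have hWdvd : 3 ^ (n3 + 1) ∣ Nat.card W := by
    rw [hW, Subgroup.card_map_of_injective (Subgroup.subtype_injective _)]
    obtain ⟨l, hl⟩ := IsPGroup.iff_card.mp (Q.2.to_subgroup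
      (Subgroup.normalizer ((U.subgroupOf Q : Subgroup ↥(Q : Subgroup L)) : Set ↥(Q : Subgroup L))))
    rw [hl]
    refine pow_dvd_pow 3 ?_
    have h2 : Nat.card (U.subgroupOf (Q : Subgroup L)) < _ := Set.Finite.card_lt_card (Set.toFinite _) hgrow
    change Nat.card (U.subgroupOf (Q : Subgroup L)) < Nat.card (Subgroup.normalizer
      ((U.subgroupOf Q : Subgroup ↥(Q : Subgroup L)) : Set ↥(Q : Subgroup L))) at h2
    rw [Nat.card_congr (Subgroup.subgroupOfEquivOfLe hQ).toEquiv, hUc, hl] at h2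
    exact (Nat.pow_lt_pow_iff_right (by norm_num)).mp h2
  have hdvd : 3 ^ (n3 + 1) ∣ Nat.card ↥(cc t ⊓ Subgroup.normalizer (U : Set L)) := by
    have h1 := hWdvd.trans (Subgroup.card_dvd_of_le hWle)
    rw [← ((cc t).subgroupOf (Subgroup.normalizer (U : Set L))).card_mul_index,
      ← Subgroup.inf_subgroupOf_right, Nat.card_congr (Subgroup.subgroupOfEquivOfLe inf_le_right).toEquiv] at h1
    refine ((Nat.prime_three.coprime_iff_not_dvd.mpr ?_).pow_left _).dvd_of_dvd_mul_right h1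
    rw [Subgroup.inf_subgroupOf_right]
    exact hNU
  have h2E : Nat.card ↥(cc t) = 2 * Nat.card E := by
    rw [← Nat.card_eq_of_bijective ι hι, Nat.card_prod, Nat.card_zpowers, htord]
  have h3 : 3 ^ (n3 + 1) ∣ 3 ^ n3 * ((3 ^ n3) ^ 2 - 1) := by
    rw [← hEc, ← h2E]
    exact hdvd.trans (Subgroup.card_dvd_of_le inf_le_left)
  rw [pow_succ] at h3
  exact hcop (Nat.dvd_of_mul_dvd_mul_left (by positivity) h3)

end EightHyp

end CfsgLib.S3Simple
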