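import Cfsg.Agent.Lib.S3Simple.Eight.Setup

/-!
`C(A) = A × R₀`, and the component of `C(t)` modulo core with its element `κ_t` for the non-identity elements of `A`.

Blueprint: `blueprint/S3Free.md`, section 5.
-/

set_option autoImplicit false
set_option linter.unusedSectionVars false
set_option linter.style.haveILetI false

namespace CfsgLib.S3Simple

open Cfsg CfsgLib.Comp CfsgLib.AfterFT.CoreSep

universe u

variable {L : Type u} [Group L] [Finite L]

/-- The odd core of `C(A)`. -/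
def oddC (A : Subgroup L) : Subgroup L :=
  (pPrimeCore 2 ↥(Subgroup.centralizer (A : Set L))).map (Subgroup.centralizer (A : Set L)).subtype

/-- The image of `oddC A` in `C(t)` modulo core. -/
abbrev imR (A : Subgroup L) (t : L) : Subgroup (qq t) := ((oddC A).subgroupOf (cc t)).map (ff t)

theorem oddC_le (A : Subgroup L) : oddC A ≤ Subgroup.centralizer (A : Set L) := Subgroup.map_subtype_le _

theorem oddC_odd (A : Subgroup L) : Odd (Nat.card (oddC A)) := by
  rw [oddC, Subgroup.card_map_of_injective (Subgroup.subtype_injective _)]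
  exact Nat.coprime_two_right.mp (card_pPrimeCore_coprime 2)

/-- The component at `t` with its element `κ`. -/
structure AtT (A : Subgroup L) (t : L) (E : Subgroup (qq t)) : Prop where
  comp : IsComponent E
  normal : E.Normal
  center : Subgroup.center ↥E = ⊥
  unique : ∀ E' : Subgroup (qq t), IsComponent E' → E' = E
  inter : Nat.card ↥(imA A t ⊓ E) = 4
  cent : Nat.card (Subgroup.centralizer (E : Set (qq t))) = 2
  model : ∃ (F : Type) (_ : Field F) (_ : Fintype F) (m : ℕ), ReeTori.QData F m ∧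
    Nonempty (↥E ≃* Matrix.ProjectiveSpecialLinearGroup (Fin 2) F)
  kappa : ∃ k ∈ Subgroup.normalizer (A : Set L), ∃ hk : k ∈ cc t, ff t ⟨k, hk⟩ ∈ E ∧
    (∀ v ∈ imA A t ⊓ E, v ≠ 1 → ∀ w ∈ imA A t ⊓ E, w ≠ 1 →
      ∃ i : ℕ, ff t ⟨k, hk⟩ ^ i * v * (ff t ⟨k, hk⟩ ^ i)⁻¹ = w) ∧
    ∀ r ∈ imR A t, ff t ⟨k, hk⟩ * r = r * ff t ⟨k, hk⟩

namespace EightHyp

variable {S : Sylow 2 L} {A : Subgroup L} (H : EightHyp S A)
include H

theorem le_centralizer : A ≤ Subgroup.centralizer (A : Set L) := fun _ ha _ hb => H.comm hb ha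

/-- `C(A)` is the product of `A` and its odd core. -/
theorem split {x : L} (hx : x ∈ Subgroup.centralizer (A : Set L)) : ∃ a ∈ A, ∃ r ∈ oddC A, a * r = x := by
  haveI : Fact (Nat.Prime 2) := ⟨Nat.prime_two⟩
  set C := Subgroup.centralizer (A : Set L) with hC
  let P : Sylow 2 C := S.subtype H.S_le_centralizer
  have hPA : ∀ p ∈ (P : Subgroup C), (p : L) ∈ A := fun p hp => H.S_eq ▸ hp
  have hN : Subgroup.normalizer ((P : Subgroup C) : Set C) ≤ Subgroup.centralizer ((P : Subgroup C) : Set C) :=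
    fun g _ p hp => Subtype.ext (g.2 p (hPA p hp))
  have hcompl := MonoidHom.ker_transferSylow_isComplement' P hN
  obtain ⟨⟨⟨k, hk⟩, ⟨p, hp⟩⟩, hkp⟩ := hcompl.2 ⟨x, hx⟩
  refine ⟨p, hPA p hp, k, ⟨k, le_pPrimeCore (Nat.coprime_comm.mp (Nat.prime_two.coprime_iff_not_dvd.mpr
    (hcompl.index_eq_card ▸ P.not_dvd_index))) hk, rfl⟩, ?_⟩
  have hkp' : (k : L) * p = x := congrArg Subtype.val hkp
  rw [← hkp']
  exact k.2 p (hPA p hp)

theorem mem_oddC {x : L} (hx : x ∈ Subgroup.centralizer (A : Set L)) (ho : Odd (orderOf x)) : x ∈ oddC A := by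
  obtain ⟨a, ha, r, hr, rfl⟩ := H.split hx
  obtain ⟨j, hj⟩ := ho
  have hcomm : Commute a r := oddC_le A hr a ha
  have h2 : (a * r) ^ 2 ∈ oddC A := by
    rw [hcomm.mul_pow, H.closed.elem.2 a ha, one_mul]
    exact pow_mem hr 2
  have h1 : ((a * r) ^ 2) ^ (j + 1) = a * r := by
    rw [← pow_mul, show 2 * (j + 1) = (2 * j + 1) + 1 by ring, pow_succ, ← hj, pow_orderOf_eq_one, one_mul]
  exact h1 ▸ pow_mem h2 (j + 1)

/-- `N(A)` normalises the odd core of `C(A)`. -/
theorem normalizer_le : Subgroup.normalizer (A : Set L) ≤ Subgroup.normalizer (oddC A : Set L) := by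
  intro g hg
  refine mem_normalizer_of_maps fun x hx => H.mem_oddC (fun a ha => ?_) ?_
  · have h := oddC_le A hx (g⁻¹ * a * g) ((Subgroup.mem_normalizer_iff''.mp hg a).mp ha)
    calc a * (g * x * g⁻¹) = g * (g⁻¹ * a * g * x) * g⁻¹ := by group
      _ = g * (x * (g⁻¹ * a * g)) * g⁻¹ := by rw [h]
      _ = g * x * g⁻¹ * a := by group
  · rw [show g * x * g⁻¹ = MulAut.conj g x from rfl, MulEquiv.orderOf_eq]
    exact (oddC_odd A).of_dvd_nat (Subgroup.orderOf_dvd_natCard _ hx)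

theorem oddC_le_cc {t : L} (ht : t ∈ A) : oddC A ≤ cc t := fun _ hr =>
  AfterFT.CoreSep.mem_cc.mpr (oddC_le A hr t ht).symm

theorem imR_centralizes {t : L} (_ht : t ∈ A) {r v : qq t} (hr : r ∈ imR A t) (hv : v ∈ imA A t) :
    r * v = v * r := by
  obtain ⟨x, hx, rfl⟩ := hr
  obtain ⟨a, ha, rfl⟩ := hv
  rw [← map_mul, ← map_mul]
  exact congrArg _ (Subtype.ext (oddC_le A hx a ha).symm)

theorem imR_odd (t : L) : Odd (Nat.card (imR A t)) := by
  refine (oddC_odd A).of_dvd_nat ((Subgroup.card_map_dvd _ _).trans ?_)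
  exact Subgroup.card_comap_dvd_of_injective (oddC A) (cc t).subtype (cc t).subtype_injective

/-- The Sylow subgroup of `C(t)` modulo core. -/
theorem red_at {t : L} (ht : t ∈ A) (ht1 : t ≠ 1) :
    ∃ T : Sylow 2 (qq t), (T : Subgroup (qq t)) = imA A t ∧ Red T :=
  H.bar_red (H.closed.le_cc ht) (H.hyp.cc_ne_top ht1)

/-- The data at a non-identity element of `A`. -/
theorem exists_atT {t : L} (ht : t ∈ A) (ht1 : t ≠ 1) : ∃ E, AtT A t E := by
  haveI : Fact (Nat.Prime 2) := ⟨Nat.prime_two⟩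
  obtain ⟨E, hE, -⟩ := H.exists_comp ht ht1
  obtain ⟨T, hT, R⟩ := H.red_at ht ht1
  have D := R.redComp hE
  haveI := D.normal
  have hTcl := R.closed
  obtain ⟨V, kb, hV⟩ := R.ctx.exists_compBlock hTcl hE (R.not_le_centralizer hE)
  have hVeq : V = imA A t ⊓ E := by
    rw [← hT]
    exact Subgroup.eq_of_le_of_card_ge hV.V_le (D.inter.trans_le hV.four_le)
  obtain ⟨w, hw⟩ := bar_surjective 2 kb
  obtain ⟨w', hw', hwe⟩ := exists_centralizing_lift
    (H.closed.isPGroup.of_equiv (Subgroup.subgroupOfEquivOfLe (H.closed.le_cc ht)).symm) w (by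
      rw [hw]
      have := hV.k_norm
      rw [hT] at this
      exact this)
  rw [hw] at hwe
  have hwN : (w' : L) ∈ Subgroup.normalizer (A : Set L) := mem_normalizer_of_maps fun a ha =>
    (Subgroup.mem_normalizer_iff.mp hw' ⟨a, H.closed.mem_cc ht ha⟩).mp ha
  refine ⟨E, hE, D.normal, D.center, D.unique, by rw [← hT]; exact D.inter, D.cent, D.model,
    (w' : L), hwN, w'.2, ?_, ?_, ?_⟩
  · show ff t w' ∈ E
    rw [hwe]
    exact hV.k_mem
  · intro v hv hv1 x hx hx1
    show ∃ i : ℕ, ff t w' ^ i * v * (ff t w' ^ i)⁻¹ = x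
    rw [hwe]
    exact hV.trans v (hVeq ▸ hv) hv1 x (hVeq ▸ hx) hx1
  · -- the commutator is an element of odd order of the component centralising its Sylow subgroup
    intro r hr
    show ff t w' * r = r * ff t w'
    haveI := component_isSimple hE
    set c := ff t w' * r * (ff t w')⁻¹ * r⁻¹ with hc
    have hcX : c ∈ imR A t := by
      obtain ⟨x, hx, rfl⟩ := hr
      refine ⟨w' * x * w'⁻¹ * x⁻¹, ?_, ?_⟩
      · exact (oddC A).mul_mem ((Subgroup.mem_normalizer_iff.mp (H.normalizer_le hwN) (x : L)).mp hx)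
          ((oddC A).inv_mem hx)
      · rw [hc, map_mul, map_mul, map_mul, map_inv, map_inv]
    have hcE : c ∈ E := by
      have h1 : ff t w' ∈ E := by rw [hwe]; exact hV.k_mem
      rw [hc, mul_assoc (ff t w'), mul_assoc (ff t w')]
      exact E.mul_mem h1 (D.normal.conj_mem _ (E.inv_mem h1) r)
    obtain ⟨P, hP⟩ := CfsgLib.CharPLocal.exists_sylow_subnormal T hE.1
    let TQ : Sylow 2 (↥E ⧸ Subgroup.center ↥E) := P.mapSurjective (QuotientGroup.mk'_surjective _)
    obtain ⟨k', hk'⟩ := exists_twoLocal (R.ctx.comp_listed hE) TQ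
    set q : ↥E ⧸ Subgroup.center ↥E := QuotientGroup.mk' _ ⟨c, hcE⟩ with hq
    have hqT : q ∈ (TQ : Subgroup (↥E ⧸ Subgroup.center ↥E)) := by
      refine hk'.cent q ?_
      rintro _ ⟨p, hp, rfl⟩ -
      rw [hq, ← map_mul, ← map_mul]
      refine congrArg _ (Subtype.ext ?_)
      have hpT : (p : qq t) ∈ imA A t := hT ▸ (hP.le ⟨p, hp, rfl⟩).1
      exact H.imR_centralizes ht hcX hpT
    obtain ⟨j, hj⟩ := TQ.2 ⟨q, hqT⟩
    have hqo : Odd (orderOf q) := by
      refine ((H.imR_odd t).of_dvd_nat (Subgroup.orderOf_dvd_natCard _ hcX)).of_dvd_nat ?_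
      rw [hq]
      refine (orderOf_map_dvd (QuotientGroup.mk' (Subgroup.center ↥E)) (⟨c, hcE⟩ : ↥E)).trans ?_
      rw [← Subgroup.orderOf_coe]
    have hq1 : q = 1 := orderOf_eq_one_iff.mp (Nat.dvd_one.mp
      ((Nat.Coprime.pow_left j (Nat.coprime_two_left.mpr hqo)).gcd_eq_one ▸
        Nat.dvd_gcd (orderOf_dvd_of_pow_eq_one (congrArg Subtype.val hj :)) dvd_rfl))
    have hc1 : (⟨c, hcE⟩ : ↥E) = 1 := by
      have h := (QuotientGroup.eq_one_iff _).mp hq1
      rwa [D.center, Subgroup.mem_bot] at h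
    have hc1' : c = 1 := congrArg Subtype.val hc1
    rw [hc, mul_inv_eq_one, mul_inv_eq_iff_eq_mul] at hc1'
    exact hc1'

/-- Modulo the core of `C(t)` the odd core of `C(A)` is cyclic. -/
theorem imR_cyclic {t : L} (ht : t ∈ A) (ht1 : t ≠ 1) : IsCyclic (imR A t) := by
  haveI : Fact (Nat.Prime 2) := ⟨Nat.prime_two⟩
  obtain ⟨E, hA⟩ := H.exists_atT ht ht1
  obtain ⟨T, hT, R⟩ := H.red_at ht ht1
  haveI := component_isSimple hA.comp
  have hn : imR A t ≤ Subgroup.normalizer (E : Set (qq t)) := fun x _ => by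
    rw [Subgroup.normalizer_eq_top_iff.mpr hA.normal]
    exact Subgroup.mem_top x
  let f : imR A t →* MulAut (↥E ⧸ Subgroup.center ↥E) := (actQ E).comp (Subgroup.inclusion hn)
  have hfx : ∀ x : imR A t, f x = actQ E ⟨x, hn x.2⟩ := fun x => by
    show ((actQ E).comp (Subgroup.inclusion hn)) x = _
    rw [MonoidHom.comp_apply]
    congr 1
  have hf : Function.Injective f := by
    refine (injective_iff_map_eq_one f).mpr fun x hx => Subtype.ext ?_
    rw [hfx] at hx
    have h1 := centralizes_of_actQ hA.comp (hn x.2) hx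
    have h2 : orderOf (x : qq t) ∣ 2 := (Subgroup.orderOf_dvd_natCard _ h1).trans hA.cent.dvd
    have h3 : Odd (orderOf (x : qq t)) := (H.imR_odd t).of_dvd_nat (Subgroup.orderOf_dvd_natCard _ x.2)
    rcases (Nat.dvd_prime Nat.prime_two).mp h2 with e | e
    · exact orderOf_eq_one_iff.mp e
    · rw [e] at h3
      exact absurd h3 (by decide)
  obtain ⟨P, hP⟩ := CfsgLib.CharPLocal.exists_sylow_subnormal T hA.comp.1
  haveI : IsCyclic f.range := oddFix_cyclic (R.ctx.comp_listed hA.comp)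
    (P.mapSurjective (QuotientGroup.mk'_surjective _)) f.range
    ((H.imR_odd t).of_dvd_nat (Subgroup.card_range_dvd f)) (by
      rintro _ ⟨x, rfl⟩ q hq -
      obtain ⟨p, hp, rfl⟩ : q ∈ (P : Subgroup ↥E).map (QuotientGroup.mk' (Subgroup.center ↥E)) := hq
      rw [hfx, actQ_apply]
      refine congrArg _ (Subtype.ext ?_)
      have hpT : (p : qq t) ∈ imA A t := hT ▸ (hP.le ⟨p, hp, rfl⟩).1
      show (x : qq t) * p * (x : qq t)⁻¹ = p
      rw [H.imR_centralizes ht x.2 hpT, mul_inv_cancel_right])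
  exact isCyclic_of_injective f.rangeRestrict fun a b e => hf (congrArg Subtype.val e)

end EightHyp

end CfsgLib.S3Simple
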