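import Cfsg.Agent.Lib.S3Simple.Defs
import Mathlib.GroupTheory.Transfer

/-!
The transfer criterion used in 5.3: a homomorphism of a Sylow subgroup to an abelian group that is constant on
the fused powers of an element of order `p` kills it in a simple group.

Blueprint: `blueprint/S3Free.md`, 5.3.
-/

set_option autoImplicit false
set_option linter.unusedSectionVars false
set_option linter.style.haveILetI false

namespace CfsgLib.S3Simple

universe u v

/-- A homomorphism of a Sylow subgroup constant on the conjugates of the powers of an element of order `p` kills it. -/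
theorem transfer_invariant {L : Type u} [Group L] [Finite L] [IsSimpleGroup L] (hna : ¬ IsMulCommutative L)
    {p : ℕ} [hp : Fact p.Prime] (P : Sylow p L) {Q : Type v} [CommGroup Q] (φ : ↥(P : Subgroup L) →* Q)
    {x : L} (hxP : x ∈ (P : Subgroup L)) (hx : x ^ p = 1)
    (hinv : ∀ (g : L) (k : ℕ) (hga : g * x ^ k * g⁻¹ ∈ (P : Subgroup L)),
      φ ⟨g * x ^ k * g⁻¹, hga⟩ = φ ⟨x, hxP⟩ ^ k) : φ ⟨x, hxP⟩ = 1 := by
  classical
  have htriv : MonoidHom.transfer φ x = 1 := by
    rcases (MonoidHom.transfer φ).normal_ker.eq_bot_or_eq_top with e | e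
    · refine absurd ?_ hna
      exact ⟨⟨fun a b => (MonoidHom.ker_eq_bot_iff _).mp e (by rw [map_mul, map_mul, mul_comm])⟩⟩
    · exact MonoidHom.mem_ker.mp (e ▸ Subgroup.mem_top x)
  haveI := Fintype.ofFinite (L ⧸ (P : Subgroup L))
  haveI := Fintype.ofFinite (Quotient (MulAction.orbitRel (Subgroup.zpowers x) (L ⧸ (P : Subgroup L))))
  rw [MonoidHom.transfer_eq_prod_quotient_orbitRel_zpowers_quot] at htriv
  have hterm : ∀ q : Quotient (MulAction.orbitRel (Subgroup.zpowers x) (L ⧸ (P : Subgroup L))),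
      φ ⟨q.out.out⁻¹ * x ^ Function.minimalPeriod (x • ·) q.out * q.out.out,
        QuotientGroup.out_conj_pow_minimalPeriod_mem (P : Subgroup L) x q.out⟩ =
      φ ⟨x, hxP⟩ ^ Function.minimalPeriod (x • ·) q.out := by
    intro q
    have h := hinv q.out.out⁻¹ (Function.minimalPeriod (x • ·) q.out) (by
      rw [inv_inv]
      exact QuotientGroup.out_conj_pow_minimalPeriod_mem (P : Subgroup L) x q.out)
    refine Eq.trans ?_ h
    exact congrArg φ (Subtype.ext (by simp))
  rw [Finset.prod_congr rfl (fun q _ => hterm q), Finset.prod_pow_eq_pow_sum,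
    ← Subgroup.index_eq_sum_minimalPeriod (P : Subgroup L) x] at htriv
  have h1 : φ ⟨x, hxP⟩ ^ p = 1 := by
    rw [← map_pow, show (⟨x, hxP⟩ : ↥(P : Subgroup L)) ^ p = 1 from Subtype.ext hx, map_one]
  have h2 : orderOf (φ ⟨x, hxP⟩) ∣ Nat.gcd p (P : Subgroup L).index :=
    Nat.dvd_gcd (orderOf_dvd_of_pow_eq_one h1) (orderOf_dvd_of_pow_eq_one htriv)
  rw [(hp.out.coprime_iff_not_dvd.mpr P.not_dvd_index).gcd_eq_one, Nat.dvd_one] at h2
  exact orderOf_eq_one_iff.mp h2

end CfsgLib.S3Simple
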