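import Cfsg.Agent.Lib.S3Simple.Eight.Three
import Cfsg.Agent.Lib.S3Simple.Eight.Transfer

/-!
5.3 for the primes other than `7`: a non-trivial odd core of `C(A)` gives an element of order `r` that transfer
removes from the simple group.  For `r ≠ 3` its subgroup is a Sylow subgroup with centralising normaliser; for
`r = 3` its Sylow subgroup is `U⟨x⟩` of order `81` with `J = U`, and `x` is not fused to another coset of `U`.

Blueprint: `blueprint/S3Free.md`, 5.3.
-/

set_option autoImplicit false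
set_option linter.unusedSectionVars false
set_option linter.style.haveILetI false

namespace CfsgLib.S3Simple

open Cfsg CfsgLib.Comp CfsgLib.AfterFT.CoreSep

universe u

variable {L : Type u} [Group L] [Finite L]

theorem comp_sylow_three {A : Subgroup L} {t : L} {E : Subgroup L} (_hE : AtL A t E) {F : Type} [Field F]
    [Fintype F] {m : ℕ} (D : ReeTori.QData F m) (f : ↥E ≃* Matrix.ProjectiveSpecialLinearGroup (Fin 2) F)
    (P : Sylow 3 ↥E) : Nat.card P = 3 ^ (2 * m + 1) ∧ ∀ a ∈ (P : Subgroup ↥E), ∀ b ∈ (P : Subgroup ↥E), a * b = b * a := by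
  haveI : Fact (Nat.Prime 3) := ⟨Nat.prime_three⟩
  haveI := D.charP
  let P' : Sylow 3 (Matrix.ProjectiveSpecialLinearGroup (Fin 2) F) := P.mapSurjective (f := f.toMonoidHom) f.surjective
  obtain ⟨g, hg⟩ := MulAction.exists_smul_eq (Matrix.ProjectiveSpecialLinearGroup (Fin 2) F) P' (PSL2.uSylow (F := F) 3)
  refine ⟨?_, fun a ha b hb => ?_⟩
  · have h1 : Nat.card P = Nat.card P' := (Subgroup.card_map_of_injective (K := (P : Subgroup ↥E)) (f := f.toMonoidHom) f.injective).symm
    rw [h1, Sylow.card_eq_multiplicity, ← (PSL2.uSylow (F := F) 3).card_eq_multiplicity]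
    exact (DicksonFull.card_uSylow 3).trans D.hq
  · have h : ∀ y ∈ (P : Subgroup ↥E), MulAut.conj g (f y) ∈ ((PSL2.uSylow (F := F) 3 : Sylow 3 _) : Subgroup _) := by
      intro y hy
      rw [← hg, Sylow.coe_subgroup_smul]
      exact Subgroup.smul_mem_pointwise_smul _ _ _ ⟨y, hy, rfl⟩
    obtain ⟨a', ha'⟩ := h a ha
    obtain ⟨b', hb'⟩ := h b hb
    refine f.injective ((MulAut.conj g).injective ?_)
    rw [map_mul, map_mul, map_mul, map_mul, ← ha', ← hb', ← map_mul, ← map_mul, mul_comm]

namespace EightHyp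

variable {S : Sylow 2 L} {A : Subgroup L} (H : EightHyp S A)
include H

/-- The odd core is not generated by an element of order prime to `21`. -/
theorem other_false {x : L} {r : ℕ} (F : FieldHyp A x r) (h3 : r ≠ 3) (h7 : r ≠ 7) : False := by
  classical
  haveI : Fact r.Prime := ⟨F.prime⟩
  haveI := H.hyp.simple
  set R := Subgroup.zpowers x with hR
  have hRp : IsPGroup r R := IsPGroup.of_card (n := 1) (by rw [hR, Nat.card_zpowers, F.order, pow_one])
  obtain ⟨P, hP⟩ := hRp.exists_le_sylow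
  have h168 : ¬ r ∣ 168 := by
    intro h
    have h8 : r ∣ 2 ^ 3 * (3 * 7) := h
    rcases F.prime.dvd_mul.mp h8 with h' | h'
    · exact F.ne_two ((Nat.prime_dvd_prime_iff_eq F.prime Nat.prime_two).mp (F.prime.dvd_of_dvd_pow h'))
    · rcases F.prime.dvd_mul.mp h' with h'' | h''
      · exact h3 ((Nat.prime_dvd_prime_iff_eq F.prime Nat.prime_three).mp h'')
      · exact h7 ((Nat.prime_dvd_prime_iff_eq F.prime (by norm_num)).mp h'')
  have hPR : (P : Subgroup L) = R := by
    by_contra hne
    have hlt : R < (P : Subgroup L) := lt_of_le_of_ne hP (Ne.symm hne)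
    haveI : Group.IsNilpotent (P : Subgroup L) := P.2.isNilpotent
    have hgrow := Group.normalizerCondition_of_isNilpotent (R.subgroupOf (P : Subgroup L))
      (lt_top_iff_ne_top.mpr fun e => hlt.2 (Subgroup.subgroupOf_eq_top.mp e))
    have h1 := Set.Finite.card_lt_card (Set.toFinite _) hgrow
    set N' := Subgroup.normalizer ((R.subgroupOf (P : Subgroup L) : Subgroup _) : Set ↥(P : Subgroup L))
    change Nat.card (R.subgroupOf (P : Subgroup L)) < Nat.card N' at h1
    rw [Nat.card_congr (Subgroup.subgroupOfEquivOfLe hP).toEquiv, hR, Nat.card_zpowers, F.order] at h1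
    obtain ⟨j, hj⟩ := IsPGroup.iff_card.mp (P.2.to_subgroup N')
    have hdvd : Nat.card N' ∣ 168 * r := by
      rw [← F.card, ← Subgroup.card_map_of_injective (K := N') (P : Subgroup L).subtype_injective]
      refine Subgroup.card_dvd_of_le ?_
      rw [← F.normalizer]
      rintro _ ⟨n, hn, rfl⟩
      exact mem_normalizer_of_maps fun y hy => (Subgroup.mem_normalizer_iff.mp hn ⟨y, hP hy⟩).mp hy
    rw [hj] at h1 hdvd
    have h2 : 2 ≤ j := by
      by_contra h
      have := Nat.pow_le_pow_right F.prime.pos (show j ≤ 1 by omega)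
      rw [pow_one] at this
      omega
    have h3' : r * r ∣ 168 * r := (by rw [← pow_two]; exact (pow_dvd_pow r h2).trans hdvd)
    exact h168 (Nat.dvd_of_mul_dvd_mul_right F.prime.pos h3')
  haveI : IsCyclic R := ⟨⟨⟨x, Subgroup.mem_zpowers x⟩, fun ⟨y, i, hi⟩ => ⟨i, Subtype.ext hi⟩⟩⟩
  letI : CommGroup R := IsCyclic.commGroup
  let φ : ↥(P : Subgroup L) →* R := (MulEquiv.subgroupCongr hPR).toMonoidHom
  have hxP : x ∈ (P : Subgroup L) := hP (Subgroup.mem_zpowers x)
  have h := transfer_invariant H.hyp.nonabelian P φ hxP (by rw [← F.order, pow_orderOf_eq_one]) fun g k hga => by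
    refine Subtype.ext ?_
    show g * x ^ k * g⁻¹ = ((φ ⟨x, hxP⟩ ^ k : R) : L)
    rw [SubmonoidClass.coe_pow]
    show g * x ^ k * g⁻¹ = x ^ k
    by_cases hk : r ∣ k
    · obtain ⟨c, rfl⟩ := hk
      rw [pow_mul, ← F.order, pow_orderOf_eq_one, one_pow, mul_one, mul_inv_cancel]
    obtain ⟨l, hl⟩ := exists_pow_eq_self_of_coprime (x := x) (n := k) (by
      rw [F.order]
      exact Nat.coprime_comm.mp (F.prime.coprime_iff_not_dvd.mpr hk))
    have hgx : g * x * g⁻¹ ∈ R := by
      rw [← hl, ← conj_pow]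
      exact R.pow_mem (hPR ▸ hga) l
    have hgN : g ∈ Subgroup.normalizer (R : Set L) := mem_normalizer_of_maps fun y hy => by
      obtain ⟨i, rfl⟩ := hy
      show g * x ^ i * g⁻¹ ∈ R
      rw [← conj_zpow]
      exact R.zpow_mem hgx i
    rw [hR, F.normalizer, ← F.centralizer, Subgroup.mem_centralizer_singleton_iff] at hgN
    rw [((show Commute g x from hgN).pow_right k).eq, mul_inv_cancel_right]
  have h1 : x = 1 := congrArg Subtype.val h
  have := F.order
  rw [h1, orderOf_one] at this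
  exact F.prime.one_lt.ne this

set_option maxHeartbeats 1000000 in
/-- The odd core is not generated by an element of order `3`. -/
theorem three_false {x : L} (F : FieldHyp A x 3) : False := by
  classical
  haveI : Fact (Nat.Prime 3) := ⟨Nat.prime_three⟩
  haveI := H.hyp.simple
  obtain ⟨t, ht, ht1⟩ : ∃ t ∈ A, t ≠ 1 := by
    haveI : Nontrivial A := Finite.one_lt_card_iff_nontrivial.mp (H.card.symm ▸ by norm_num)
    obtain ⟨⟨t, ht⟩, ht1⟩ := exists_ne (1 : A)
    exact ⟨t, ht, fun e => ht1 (Subtype.ext e)⟩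
  obtain ⟨E, hE, h12, hxE, K, i1, i2, m, D, hm, ⟨f⟩⟩ := F.comp t ht ht1
  have hxN : x ∈ Subgroup.normalizer (A : Set L) := by
    rw [← F.normalizer]
    exact Subgroup.le_normalizer (Subgroup.mem_zpowers x)
  have hxt : x * t = t * x := by
    have h : t ∈ Subgroup.centralizer ({x} : Set L) := F.centralizer ▸ Subgroup.le_normalizer ht
    exact (Subgroup.mem_centralizer_singleton_iff.mp h).symm
  have hxcc : x ∈ cc t := mem_cc.mpr hxt
  -- the index of `E` in `C(t)`
  set d := E.relIndex (cc t) with hd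
  have hd6 : d ≤ 6 := by
    set N := Subgroup.normalizer (A : Set L) with hN
    obtain ⟨g, hgN, hgt⟩ := H.exists_seven
    have h7 : 7 ≤ ((cc t).subgroupOf N).index := by
      have hcA : Nat.card {a : A // a ≠ 1} = 7 := by
        haveI : Fintype A := Fintype.ofFinite _
        rw [Nat.card_eq_fintype_card, Fintype.card_subtype_compl, Fintype.card_subtype_eq,
          ← Nat.card_eq_fintype_card, H.card]
      let orb : ↥N ⧸ (cc t).subgroupOf N → {a : A // a ≠ 1} := Quotient.lift
        (fun n => ⟨⟨(n : L) * t * (n : L)⁻¹, (Subgroup.mem_normalizer_iff.mp n.2 t).mp ht⟩,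
          fun e => ht1 (conj_eq_one_iff.mp (congrArg Subtype.val e))⟩) fun a b hab => by
          have h : (a : L)⁻¹ * b ∈ cc t := (QuotientGroup.leftRel_apply.mp hab : a⁻¹ * b ∈ (cc t).subgroupOf N)
          refine Subtype.ext (Subtype.ext ?_)
          show (a : L) * t * (a : L)⁻¹ = b * t * (b : L)⁻¹
          have h' := mem_cc.mp h
          calc (a : L) * t * (a : L)⁻¹ = a * (t * ((a : L)⁻¹ * b)) * (b : L)⁻¹ := by group
            _ = a * (((a : L)⁻¹ * b) * t) * (b : L)⁻¹ := by rw [h']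
            _ = b * t * (b : L)⁻¹ := by group
      have horb : Function.Surjective orb := by
        rintro ⟨⟨w, hw⟩, hw1⟩
        obtain ⟨i, hi⟩ := hgt t ht ht1 w hw fun e => hw1 (Subtype.ext e)
        exact ⟨QuotientGroup.mk ⟨g ^ i, N.pow_mem hgN i⟩, Subtype.ext (Subtype.ext hi)⟩
      calc 7 = _ := hcA.symm
        _ ≤ Nat.card (↥N ⧸ (cc t).subgroupOf N) := Nat.card_le_card_of_surjective orb horb
        _ = _ := (Subgroup.index_eq_card _).symm
    set M := N ⊓ cc t with hM
    have hMcard : Nat.card M ≤ 72 := by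
      have h := ((cc t).subgroupOf N).card_mul_index
      rw [← Subgroup.inf_subgroupOf_left, Nat.card_congr (Subgroup.subgroupOfEquivOfLe inf_le_left).toEquiv,
        Subgroup.inf_subgroupOf_left, F.card] at h
      change Nat.card M * ((cc t).subgroupOf N).index = 168 * 3 at h
      have := Nat.mul_le_mul_left (Nat.card M) h7
      omega
    have hd' : d ≤ E.relIndex M := by
      refine Nat.card_le_card_of_surjective
        (Subgroup.quotientSubgroupOfEmbeddingOfLE E (inf_le_right : M ≤ cc t)) ?_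
      rintro ⟨c⟩
      obtain ⟨e, he, hec⟩ := H.frattini_cc hE ht ht1 c.2
      refine ⟨QuotientGroup.mk ⟨e * c, hec, (cc t).mul_mem (hE.le he) c.2⟩, ?_⟩
      rw [Subgroup.quotientSubgroupOfEmbeddingOfLE_apply_mk]
      refine QuotientGroup.eq.mpr ?_
      rw [Subgroup.mem_subgroupOf]
      show (e * c)⁻¹ * (c : L) ∈ E
      have h := (Subgroup.mem_normalizer_iff''.mp (hE.norm c.2) e⁻¹).mp (E.inv_mem he)
      simpa [mul_assoc] using h
    have hEM : E ⊓ M = E ⊓ Subgroup.centralizer ({x} : Set L) := by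
      rw [F.centralizer, hM, inf_comm N, ← inf_assoc, inf_eq_left.mpr hE.le]
    have h := (E.subgroupOf M).card_mul_index
    rw [← Subgroup.inf_subgroupOf_right, Nat.card_congr (Subgroup.subgroupOfEquivOfLe inf_le_right).toEquiv,
      Subgroup.inf_subgroupOf_right, hEM, h12] at h
    change 12 * E.relIndex M = Nat.card M at h
    omega
  -- a Sylow subgroup of `C(t)` containing `x`
  let U0 : Sylow 3 ↥E := default
  obtain ⟨P0, hP0⟩ := ((U0.2.map E.subtype).comap_of_injective (cc t).subtype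
    (cc t).subtype_injective).exists_le_sylow
  obtain ⟨P1, hP1⟩ := (IsPGroup.of_card (G := ↥(Subgroup.zpowers (⟨x, hxcc⟩ : ↥(cc t)))) (n := 1)
    (by rw [Nat.card_zpowers, Subgroup.orderOf_mk, F.order, pow_one])).exists_le_sylow
  obtain ⟨a, ha⟩ := MulAction.exists_smul_eq ↥(cc t) P0 P1
  set P := (P1 : Subgroup ↥(cc t)).map (cc t).subtype with hP
  have hPp : IsPGroup 3 P := P1.2.map _
  have hPcc : P ≤ cc t := Subgroup.map_subtype_le _
  have hxP : x ∈ P := ⟨⟨x, hxcc⟩, hP1 (Subgroup.mem_zpowers _), rfl⟩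
  set U := P ⊓ E with hU
  have hPE : P ≤ Subgroup.normalizer (E : Set L) := hPcc.trans hE.norm
  have hEp : IsPGroup 3 U := hPp.to_le inf_le_left
  have hUmap : ∀ u ∈ (U0 : Subgroup ↥E), (a : L) * u * (a : L)⁻¹ ∈ U := by
    intro u hu
    refine ⟨⟨a * ⟨u, hE.le u.2⟩ * a⁻¹, ?_, rfl⟩, (Subgroup.mem_normalizer_iff.mp (hE.norm a.2) u).mp u.2⟩
    rw [← ha, Sylow.coe_subgroup_smul]
    exact Subgroup.smul_mem_pointwise_smul _ _ _ (hP0 ⟨u, hu, rfl⟩)
  obtain ⟨U1, hU1⟩ := (hEp.comap_of_injective E.subtype E.subtype_injective).exists_le_sylow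
  obtain ⟨hc0, -⟩ := comp_sylow_three hE D f U0
  obtain ⟨hc1, hcomm1⟩ := comp_sylow_three hE D f U1
  have hm1 : m = 1 := by omega
  subst hm1
  have hUc : Nat.card U = 27 := by
    refine le_antisymm ?_ ?_
    · rw [← Nat.card_congr (Subgroup.subgroupOfEquivOfLe (inf_le_right : U ≤ E)).toEquiv]
      exact (Subgroup.card_le_of_le hU1).trans hc1.le
    · refine le_trans hc0.ge (Nat.card_le_card_of_injective (fun u : U0 => (⟨_, hUmap u.1 u.2⟩ : U)) fun u v h => ?_)
      exact Subtype.ext (Subtype.ext (mul_left_cancel (mul_right_cancel (congrArg Subtype.val h))))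
  have hU1eq : (U1 : Subgroup ↥E) = U.subgroupOf E := (Subgroup.eq_of_le_of_card_ge hU1 (hc1.trans_le
    (le_of_eq ((Nat.card_congr (Subgroup.subgroupOfEquivOfLe (inf_le_right : U ≤ E)).toEquiv).trans hUc).symm))).symm
  have hUab : ∀ u ∈ U, ∀ v ∈ U, u * v = v * u := fun u hu v hv =>
    congrArg Subtype.val (hcomm1 ⟨u, hu.2⟩ (hU1 hu) ⟨v, hv.2⟩ (hU1 hv))
  have hUne : U ≠ ⊥ := fun e => by
    rw [e, Subgroup.card_bot] at hUc
    omega
  have hUP : U ≤ P := inf_le_left
  have hUn : P ≤ Subgroup.normalizer (U : Set L) := fun p hp => mem_normalizer_of_maps fun u hu =>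
    ⟨P.mul_mem (P.mul_mem hp hu.1) (P.inv_mem hp), (Subgroup.mem_normalizer_iff.mp (hPE hp) u).mp hu.2⟩
  obtain ⟨j, hj⟩ := IsPGroup.iff_card.mp hPp
  have hxU : x ∉ U := fun h => hxE h.2
  have hP81 : Nat.card P = 81 := by
    have h1 : U < P := lt_of_le_of_ne hUP fun e => hxU (e.symm ▸ hxP)
    have h2 : 27 < Nat.card P := hUc ▸ Set.Finite.card_lt_card (Set.toFinite _) h1
    have h3 : Nat.card P ∣ 3 ^ 3 * (E.subgroupOf (cc t)).index := by
      have hdiv : Nat.card P ∣ Nat.card E * (E.subgroupOf (cc t)).index := by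
        rw [← Nat.card_congr (Subgroup.subgroupOfEquivOfLe hE.le).toEquiv, Subgroup.card_mul_index]
        exact Subgroup.card_dvd_of_le hPcc
      have hEc : Nat.card E = 3 ^ 3 * 364 := by
        haveI := D.charP
        have h := ReeTori.card_PSL D
        rw [← Nat.card_congr f.toEquiv, D.hq] at h
        norm_num at h
        omega
      rw [hEc, mul_assoc, mul_comm 364, ← mul_assoc, hj] at hdiv
      rw [hj]
      exact ((show Nat.Coprime 3 364 by norm_num).pow_left j).dvd_of_dvd_mul_right hdiv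
    change Nat.card P ∣ 3 ^ 3 * d at h3
    rw [hj] at h2 h3 ⊢
    have hj4 : 4 ≤ j := by
      by_contra hlt
      have := Nat.pow_le_pow_right (show 0 < 3 by norm_num) (show j ≤ 3 by omega)
      omega
    have hj5 : j ≤ 4 := by
      by_contra hlt
      have h4 : 3 ^ 3 * 3 ^ 2 ∣ 3 ^ 3 * d := (pow_dvd_pow 3 (show 3 + 2 ≤ j by omega)).trans h3
      have hd0 : 0 < d := Nat.pos_of_ne_zero Subgroup.index_ne_zero_of_finite
      have := Nat.le_of_dvd hd0 (Nat.dvd_of_mul_dvd_mul_left (by norm_num) h4)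
      omega
    rw [show j = 4 by omega]
    norm_num
  -- `U` is the only abelian subgroup of index three
  have huniq : ∀ B : Subgroup L, B ≤ P → (∀ b ∈ B, ∀ c ∈ B, b * c = c * b) → 27 ≤ Nat.card B → B = U := by
    intro B hBP hBab hBc
    by_contra hne
    have hBU : ¬ B ≤ U := fun h => hne (Subgroup.eq_of_le_of_card_ge h (hUc.trans_le hBc))
    set Z := B ⊓ U
    have hZ9 : 9 ≤ Nat.card Z := by
      have h1 : Nat.card B * Nat.card U ≤ Nat.card P * Nat.card Z := by
        let g : B × U → P := fun q => ⟨q.1 * q.2, P.mul_mem (hBP q.1.2) (hUP q.2.2)⟩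
        haveI : Fintype (B × U) := Fintype.ofFinite _
        haveI : Fintype P := Fintype.ofFinite _
        haveI : Fintype Z := Fintype.ofFinite _
        rw [← Nat.card_prod, Nat.card_eq_fintype_card, Nat.card_eq_fintype_card, Nat.card_eq_fintype_card,
          mul_comm, ← Finset.card_univ, ← Finset.card_univ (α := P)]
        refine Finset.card_le_mul_card_image_of_maps_to (f := g) (fun q _ => Finset.mem_univ _) _ fun p _ => ?_
        by_cases hp : ∃ q, g q = p
        · obtain ⟨q0, rfl⟩ := hp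
          refine (Finset.card_le_card_of_injOn (t := (Finset.univ : Finset Z)) (fun q => (if h : ((q0.1 : L)⁻¹ * q.1) ∈ Z then ⟨_, h⟩ else 1))
            (fun q _ => Finset.mem_univ _) fun q hq q' hq' hqq => ?_)
          have hz : ∀ q : B × U, g q = g q0 → (q0.1 : L)⁻¹ * q.1 ∈ Z := fun q hq => by
            have hq : (q.1 : L) * q.2 = q0.1 * q0.2 := congrArg Subtype.val hq
            refine ⟨B.mul_mem (B.inv_mem q0.1.2) q.1.2, ?_⟩
            rw [show (q0.1 : L)⁻¹ * q.1 = q0.2 * (q.2 : L)⁻¹ by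
              rw [inv_mul_eq_iff_eq_mul, ← mul_assoc, ← hq, mul_inv_cancel_right]]
            exact U.mul_mem q0.2.2 (U.inv_mem q.2.2)
          have hq0 : g q = g q0 := (Finset.mem_filter.mp hq).2
          have hq0' : g q' = g q0 := (Finset.mem_filter.mp hq').2
          simp only [dif_pos (hz q hq0), dif_pos (hz q' hq0'), Subtype.mk.injEq, mul_right_inj] at hqq
          have hv : (q.1 : L) * q.2 = q'.1 * q'.2 := congrArg Subtype.val (hq0.trans hq0'.symm)
          rw [hqq] at hv
          exact Prod.ext (Subtype.ext hqq) (Subtype.ext (mul_left_cancel hv))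
        · refine le_of_eq_of_le (Finset.card_eq_zero.mpr (Finset.filter_eq_empty_iff.mpr fun q _ h => hp ⟨q, h⟩))
            (Nat.zero_le _)
      rw [hUc, hP81] at h1
      omega
    have hcen : Z ≤ E ⊓ Subgroup.centralizer ({x} : Set L) := by
      intro z hz
      refine ⟨hz.2.2, ?_⟩
      -- `z` centralises `B ⊔ U = P`
      set W := (B ⊔ U) with hW
      have hWP : W = P := by
        have hlt : U < W := lt_of_le_of_ne le_sup_right fun e => hBU (e.symm ▸ le_sup_left)
        refine Subgroup.eq_of_le_of_card_ge (sup_le hBP hUP) ?_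
        have h1 : 27 < Nat.card W := hUc ▸ Set.Finite.card_lt_card (Set.toFinite _) hlt
        obtain ⟨i, hi⟩ := IsPGroup.iff_card.mp (hPp.to_le (sup_le hBP hUP : W ≤ P))
        rw [hP81]
        rw [hi] at h1 ⊢
        have : 4 ≤ i := by
          by_contra hlt'
          have := Nat.pow_le_pow_right (show 0 < 3 by norm_num) (show i ≤ 3 by omega)
          omega
        exact le_trans (by norm_num) (Nat.pow_le_pow_right (show 0 < 3 by norm_num) this)
      have hle : W ≤ Subgroup.centralizer ({z} : Set L) := sup_le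
        (fun b hb => Subgroup.mem_centralizer_singleton_iff.mpr (hBab b hb z hz.1))
        (fun u hu => Subgroup.mem_centralizer_singleton_iff.mpr (hUab u hu z hz.2))
      exact Subgroup.mem_centralizer_singleton_iff.mpr
        (Subgroup.mem_centralizer_singleton_iff.mp (hle (hWP.symm ▸ hxP))).symm
    have hZdvd : Nat.card Z ∣ 12 := h12 ▸ Subgroup.card_dvd_of_le hcen
    obtain ⟨i, hi⟩ := IsPGroup.iff_card.mp (hEp.to_le (inf_le_right : Z ≤ U))
    rw [hi] at hZdvd hZ9
    have h2 : 2 ≤ i := by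
      by_contra h
      have := Nat.pow_le_pow_right (show 0 < 3 by norm_num) (show i ≤ 1 by omega)
      omega
    exact absurd ((pow_dvd_pow 3 h2).trans hZdvd) (by norm_num)
  -- `P` is a Sylow subgroup
  obtain ⟨-, hNU, hfac⟩ := H.three_local hE ht ht1 (inf_le_right : U ≤ E) hEp hUne
  obtain ⟨Q, hQ⟩ := hPp.exists_le_sylow
  have hQP : (Q : Subgroup L) = P := by
    by_contra hne
    have hlt : P < (Q : Subgroup L) := lt_of_le_of_ne hQ (Ne.symm hne)
    haveI : Group.IsNilpotent (Q : Subgroup L) := Q.2.isNilpotent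
    have hgrow := Group.normalizerCondition_of_isNilpotent (P.subgroupOf (Q : Subgroup L))
      (lt_top_iff_ne_top.mpr fun e => hlt.2 (Subgroup.subgroupOf_eq_top.mp e))
    have h1 := Set.Finite.card_lt_card (Set.toFinite _) hgrow
    set N' := Subgroup.normalizer ((P.subgroupOf (Q : Subgroup L) : Subgroup _) : Set ↥(Q : Subgroup L))
    change Nat.card (P.subgroupOf (Q : Subgroup L)) < Nat.card N' at h1
    rw [Nat.card_congr (Subgroup.subgroupOfEquivOfLe hQ).toEquiv, hP81] at h1
    set W := N'.map (Q : Subgroup L).subtype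
    have hWU : W ≤ Subgroup.normalizer (U : Set L) := by
      rintro _ ⟨n, hn, rfl⟩
      have hnP : ∀ p ∈ P, (n : L) * p * (n : L)⁻¹ ∈ P := fun p hp =>
        (Subgroup.mem_normalizer_iff.mp hn ⟨p, hQ hp⟩).mp hp
      have h : U.map (MulAut.conj (n : L)).toMonoidHom = U := by
        refine huniq _ ?_ ?_ ?_
        · rintro _ ⟨u, hu, rfl⟩
          exact hnP u (hUP hu)
        · rintro _ ⟨u, hu, rfl⟩ _ ⟨v, hv, rfl⟩
          rw [← map_mul, ← map_mul, hUab u hu v hv]
        · rw [Subgroup.card_map_of_injective (MulAut.conj (n : L)).injective, hUc]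
      exact mem_normalizer_of_maps fun u hu => h ▸ ⟨u, hu, rfl⟩
    obtain ⟨i, hi⟩ := IsPGroup.iff_card.mp (Q.2.to_subgroup N')
    rw [hi] at h1
    have hi5 : 5 ≤ i := by
      by_contra h
      have := Nat.pow_le_pow_right (show 0 < 3 by norm_num) (show i ≤ 4 by omega)
      omega
    have hdvd : 3 ^ 5 ∣ Nat.card ↥(cc t ⊓ Subgroup.normalizer (U : Set L)) := by
      have h2 : 3 ^ 5 ∣ Nat.card (Subgroup.normalizer (U : Set L)) := by
        refine (pow_dvd_pow 3 hi5).trans ?_
        rw [← hi, ← Subgroup.card_map_of_injective (K := N') (Q : Subgroup L).subtype_injective]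
        exact Subgroup.card_dvd_of_le hWU
      rw [← ((cc t).subgroupOf (Subgroup.normalizer (U : Set L))).card_mul_index,
        ← Subgroup.inf_subgroupOf_right, Nat.card_congr (Subgroup.subgroupOfEquivOfLe inf_le_right).toEquiv] at h2
      refine ((Nat.prime_three.coprime_iff_not_dvd.mpr ?_).pow_left _).dvd_of_dvd_mul_right h2
      rw [Subgroup.inf_subgroupOf_right]
      exact hNU
    have h2 : Nat.card P1 = 81 := by
      rw [← hP81, hP, Subgroup.card_map_of_injective (cc t).subtype_injective]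
    rw [Sylow.card_eq_multiplicity] at h2
    have h3 : (Nat.card ↥(cc t)).factorization 3 = 4 := Nat.pow_right_injective (le_refl 2 |>.trans (by norm_num)) (h2.trans (by norm_num))
    have := (Nat.Prime.pow_dvd_iff_le_factorization Nat.prime_three Nat.card_pos.ne').mp
      (hdvd.trans (Subgroup.card_dvd_of_le inf_le_left))
    omega
  -- `Z(J(P)) = U`
  have hJ : centerThompsonAOf (Q : Subgroup L) = U := by
    have hJU : thompsonSubgroupAOf (Q : Subgroup L) = U := by
      have hset : maxAbelianSubgroups ↥(Q : Subgroup L) = {U.subgroupOf (Q : Subgroup L)} := by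
        have hUmc : IsMulCommutative (U.subgroupOf (Q : Subgroup L)) :=
          ⟨⟨fun u v => Subtype.ext (Subtype.ext (hUab _ u.2 _ v.2))⟩⟩
        have hUcard : Nat.card (U.subgroupOf (Q : Subgroup L)) = 27 :=
          (Nat.card_congr (Subgroup.subgroupOfEquivOfLe (hQP ▸ hUP)).toEquiv).trans hUc
        have hsub : ∀ B : Subgroup ↥(Q : Subgroup L), IsMulCommutative B → 27 ≤ Nat.card B →
            B = U.subgroupOf (Q : Subgroup L) := by
          intro B hB hBc
          have h := huniq (B.map (Q : Subgroup L).subtype) (hQP ▸ Subgroup.map_subtype_le B)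
            (by
              rintro _ ⟨b, hb, rfl⟩ _ ⟨c, hc, rfl⟩
              exact congrArg (fun z : B => ((z : ↥(Q : Subgroup L)) : L)) (hB.is_comm.comm ⟨b, hb⟩ ⟨c, hc⟩))
            (hBc.trans_eq (Subgroup.card_map_of_injective (Subgroup.subtype_injective _)).symm)
          rw [← h, Subgroup.subgroupOf, Subgroup.comap_map_eq_self_of_injective (Subgroup.subtype_injective _)]
        ext B
        refine ⟨fun ⟨hB, hmax⟩ => hsub B hB (hUcard ▸ hmax _ hUmc), ?_⟩
        rintro rfl
        refine ⟨hUmc, fun B hB => ?_⟩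
        by_contra hlt
        push Not at hlt
        rw [hsub B hB (by omega)] at hlt
        omega
      rw [thompsonSubgroupAOf, thompsonSubgroupA, hset, sSup_singleton, Subgroup.map_subgroupOf_eq_of_le (hQP ▸ hUP)]
    rw [centerThompsonAOf, hJU, inf_eq_left]
    exact fun u hu v hv => hUab v hv u hu
  have hxQ : x ∈ (Q : Subgroup L) := hQP ▸ hxP
  set U' := U.subgroupOf (Q : Subgroup L) with hU'
  haveI : U'.Normal := ⟨fun u hu q => (Subgroup.mem_normalizer_iff.mp (hUn (hQP ▸ q.2)) u).mp hu⟩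
  have hqc : Nat.card (↥(Q : Subgroup L) ⧸ U') = 3 := by
    have h := U'.card_mul_index
    rw [hU', Nat.card_congr (Subgroup.subgroupOfEquivOfLe (hQP ▸ hUP)).toEquiv, hUc] at h
    rw [← Subgroup.index_eq_card]
    have hQc : Nat.card (Q : Subgroup L) = 81 := (congrArg (fun W : Subgroup L => Nat.card W) hQP).trans hP81
    rw [hQc] at h
    change 27 * U'.index = 81 at h
    omega
  haveI : IsCyclic (↥(Q : Subgroup L) ⧸ U') := isCyclic_of_prime_card hqc
  letI : CommGroup (↥(Q : Subgroup L) ⧸ U') := IsCyclic.commGroup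
  let φ := QuotientGroup.mk' U'
  -- the automorphisms of `U` induced by `E`
  set NE := E ⊓ Subgroup.normalizer (U : Set L) with hNE
  have hUNE : U ≤ NE := le_inf inf_le_right Subgroup.le_normalizer
  have hidx : ¬ 3 ∣ (U.subgroupOf NE).index := fun h => by
    apply U1.not_dvd_index
    rw [hU1eq]
    exact h.trans ⟨NE.relIndex E, (Subgroup.relIndex_mul_relIndex U NE E hUNE inf_le_left).symm⟩
  let ψ := U.normalizerMonoidHom
  have hψ : ∀ (w : L) (hw : w ∈ Subgroup.normalizer (U : Set L)), ψ ⟨w, hw⟩ = 1 → w ∈ Subgroup.centralizer (U : Set L) := by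
    intro w hw h u hu
    have h1 : w * u * w⁻¹ = u := congrArg (fun α : MulAut U => ((α ⟨u, hu⟩ : U) : L)) h
    exact (mul_inv_eq_iff_eq_mul.mp h1).symm
  have hψC : ∀ c, ∀ hc : c ∈ Subgroup.centralizer (U : Set L),
      ψ ⟨c, Subgroup.centralizer_le_normalizer _ hc⟩ = 1 := fun c hc => MulEquiv.ext fun u => Subtype.ext (by
    show c * (u : L) * c⁻¹ = u
    rw [← hc u u.2, mul_inv_cancel_right])
  have hxC : x ∉ Subgroup.centralizer (U : Set L) := fun h => by
    have hle : U ≤ E ⊓ Subgroup.centralizer ({x} : Set L) := fun u hu =>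
      ⟨hu.2, Subgroup.mem_centralizer_singleton_iff.mpr (h u hu)⟩
    have := Subgroup.card_dvd_of_le hle
    rw [hUc, h12] at this
    norm_num at this
  have hinv : ∀ (g : L) (k : ℕ) (hga : g * x ^ k * g⁻¹ ∈ (Q : Subgroup L)),
      φ ⟨g * x ^ k * g⁻¹, hga⟩ = φ ⟨x, hxQ⟩ ^ k := by
    intro g k hga
    have hctl := zj_controls H.hyp.free (by norm_num : (3 : ℕ) ≠ 2) Q {x ^ k}
      (Set.singleton_subset_iff.mpr (pow_mem hxQ k))
    rw [hJ] at hctl
    obtain ⟨mm, hmm, heq⟩ := hctl.2 g (by rw [Set.image_singleton]; exact Set.singleton_subset_iff.mpr hga)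
    have he := heq (x ^ k) rfl
    obtain ⟨c, hc, hd'⟩ := hfac mm hmm
    -- `d` moves `x` inside its coset of `E`
    obtain ⟨e, he', hed⟩ := H.frattini_cc hE ht ht1 hd'
    rw [← F.centralizer, Subgroup.mem_centralizer_singleton_iff] at hed
    set dd := c * mm with hdd
    set xk := x ^ k with hxk
    have hxkcc : xk ∈ cc t := (cc t).pow_mem hxcc k
    set u' := dd * xk * dd⁻¹ * xk⁻¹ with hu'
    have hu'E : u' ∈ E := by
      have hcom : e * dd * xk = xk * (e * dd) := ((show Commute (e * dd) x from hed).pow_right k).eq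
      have h1 : u' = e⁻¹ * (xk * e * xk⁻¹) := by
        rw [hu']
        calc dd * xk * dd⁻¹ * xk⁻¹ = e⁻¹ * (e * dd * xk) * dd⁻¹ * xk⁻¹ := by group
          _ = e⁻¹ * (xk * (e * dd)) * dd⁻¹ * xk⁻¹ := by rw [hcom]
          _ = _ := by group
      rw [h1]
      exact E.mul_mem (E.inv_mem he') ((Subgroup.mem_normalizer_iff.mp (hE.norm hxkcc) e).mp he')
    have hxkN : xk ∈ Subgroup.normalizer (U : Set L) := Subgroup.pow_mem _ (hUn hxP) k
    have hcN := Subgroup.centralizer_le_normalizer (U : Set L) hc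
    have hu'N : u' ∈ Subgroup.normalizer (U : Set L) :=
      Subgroup.mul_mem _ (Subgroup.mul_mem _ (Subgroup.mul_mem _ (Subgroup.mul_mem _ hcN hmm) hxkN)
        (Subgroup.inv_mem _ (Subgroup.mul_mem _ hcN hmm))) (Subgroup.inv_mem _ hxkN)
    set p := g * xk * g⁻¹ * xk⁻¹ with hp
    have hpP : p ∈ P := P.mul_mem (hQP ▸ hga) (P.inv_mem (P.pow_mem hxP k))
    have hψp : ψ ⟨p, hUn hpP⟩ = ψ ⟨u', hu'N⟩ := by
      have hp' : p = c⁻¹ * u' * (xk * c * xk⁻¹) := by
        rw [hp, he, hu', hdd]
        group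
      have h1 : (⟨p, hUn hpP⟩ : Subgroup.normalizer (U : Set L)) =
          ⟨c, hcN⟩⁻¹ * ⟨u', hu'N⟩ * (⟨xk, hxkN⟩ * ⟨c, hcN⟩ * ⟨xk, hxkN⟩⁻¹) := Subtype.ext hp'
      rw [h1]
      simp only [map_mul, map_inv]
      rw [hψC c hc]
      group
    have hψu : ψ ⟨p, hUn hpP⟩ = 1 := by
      obtain ⟨i, hi⟩ := hPp ⟨p, hpP⟩
      have ho1 : orderOf (ψ ⟨p, hUn hpP⟩) ∣ 3 ^ i := orderOf_dvd_of_pow_eq_one (by
        rw [← map_pow, show (⟨p, hUn hpP⟩ : Subgroup.normalizer (U : Set L)) ^ 3 ^ i = 1 from
          Subtype.ext (congrArg Subtype.val hi :), map_one])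
      let ρ : ↥NE →* MulAut U := ψ.comp (Subgroup.inclusion inf_le_right)
      have hker : U.subgroupOf NE ≤ ρ.ker := fun u hu => MulEquiv.ext fun v => Subtype.ext (by
        show (u : L) * v * (u : L)⁻¹ = v
        rw [hUab u hu v v.2, mul_inv_cancel_right])
      have ho2 : orderOf (ψ ⟨p, hUn hpP⟩) ∣ (U.subgroupOf NE).index := by
        rw [hψp]
        refine dvd_trans ?_ ((Subgroup.index_ker ρ).symm.dvd.trans (Subgroup.index_dvd_of_le hker))
        rw [← Subgroup.orderOf_mk (H := ρ.range) (ψ ⟨u', hu'N⟩) ⟨⟨u', hu'E, hu'N⟩, rfl⟩]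
        exact orderOf_dvd_natCard _
      refine orderOf_eq_one_iff.mp (Nat.dvd_one.mp ?_)
      rw [← Nat.Coprime.gcd_eq_one ((Nat.prime_three.coprime_iff_not_dvd.mpr hidx).pow_left i)]
      exact Nat.dvd_gcd ho1 ho2
    have hpU : p ∈ U := by
      have hpC := hψ p (hUn hpP) hψu
      by_contra hpU
      set W := Subgroup.zpowers p ⊔ U
      have hWc : W ≤ Subgroup.centralizer (U : Set L) :=
        sup_le (Subgroup.zpowers_le.mpr hpC) fun u hu v hv => hUab v hv u hu
      have hWP : W = P := by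
        have hWle : W ≤ P := sup_le (Subgroup.zpowers_le.mpr hpP) hUP
        refine Subgroup.eq_of_le_of_card_ge hWle ?_
        have hlt : U < W := lt_of_le_of_ne le_sup_right fun e =>
          hpU (e.symm ▸ Subgroup.mem_sup_left (Subgroup.mem_zpowers p))
        have h1 : 27 < Nat.card W := hUc ▸ Set.Finite.card_lt_card (Set.toFinite _) hlt
        obtain ⟨i, hi⟩ := IsPGroup.iff_card.mp (hPp.to_le hWle)
        rw [hP81]
        rw [hi] at h1 ⊢
        have : 4 ≤ i := by
          by_contra hlt'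
          have := Nat.pow_le_pow_right (show 0 < 3 by norm_num) (show i ≤ 3 by omega)
          omega
        exact le_trans (by norm_num) (Nat.pow_le_pow_right (show 0 < 3 by norm_num) this)
      exact hxC (hWc (hWP.symm ▸ hxP))
    rw [← map_pow]
    refine ((QuotientGroup.eq (s := U')).mpr ?_).symm
    rw [hU', Subgroup.mem_subgroupOf]
    push_cast
    have h2 : xk⁻¹ * p * xk ∈ U := (Subgroup.mem_normalizer_iff''.mp hxkN p).mp hpU
    rw [hp] at h2
    simpa [mul_assoc] using h2
  have h := transfer_invariant H.hyp.nonabelian Q φ hxQ (by rw [← F.order, pow_orderOf_eq_one]) hinv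
  exact hxU ((QuotientGroup.eq_one_iff (⟨x, hxQ⟩ : ↥(Q : Subgroup L))).mp h)

end EightHyp

end CfsgLib.S3Simple
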