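import Cfsg.Agent.Lib.S3Simple.Eight.SevenPlane
import Cfsg.Agent.Lib.S3Simple.Eight.Transfer

/-!
5.3 for `r = 7`: the fusion of `x` in a Sylow seven-subgroup `P` is controlled by `M = N(⟨n⟩)`, with `n` central in
`P`, and in `M` the element `x` is not fused to another coset of the line `W` of `P`; transfer removes it.

Blueprint: `blueprint/S3Free.md`, 5.3.
-/

set_option autoImplicit false
set_option linter.unusedSectionVars false
set_option linter.style.haveILetI false

namespace CfsgLib.S3Simple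

open Cfsg CfsgLib.Comp CfsgLib.AfterFT.CoreSep commutatorElement

universe u

variable {L : Type u} [Group L] [Finite L]

/-- A soluble group is not the product of a central subgroup and its derived subgroup unless it is abelian. -/
theorem derived_bot_of_central {G : Type u} [Group G] [Finite G] {D Z : Subgroup G} [Group.IsSolvable ↥D] (hZD : Z ≤ D)
    (hcen : ∀ z ∈ Z, ∀ d ∈ D, z * d = d * z) (hgen : D ≤ Z ⊔ ⁅D, D⁆) : ⁅D, D⁆ = ⊥ := by
  set X := ⁅D, D⁆ with hX
  have hXD : X ≤ D := Subgroup.commutator_le_self D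
  have hperf : ⁅X, X⁆ = X := by
    refine le_antisymm (Subgroup.commutator_le_self X) ?_
    have hD : ∀ d ∈ D, ∃ z ∈ Z, ∃ e ∈ X, d = z * e := by
      intro d hd
      have h1 : d ∈ ((Z ⊔ X : Subgroup G) : Set G) := hgen hd
      rw [Subgroup.coe_mul_of_right_le_normalizer_left Z X] at h1
      · obtain ⟨z, hz, e, he, rfl⟩ := h1
        exact ⟨z, hz, e, he, rfl⟩
      · exact fun e he => mem_normalizer_of_maps fun z hz => by
          rw [← hcen z hz e (hXD he), mul_inv_cancel_right]; exact hz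
    rw [hX, Subgroup.commutator_le]
    intro a ha b hb
    obtain ⟨z, hz, e, he, rfl⟩ := hD a ha
    obtain ⟨w, hw, f, hf, rfl⟩ := hD b hb
    have he' : ∀ {c : G}, c ∈ D → Commute z c ∧ Commute w c := fun hc => ⟨hcen z hz _ hc, hcen w hw _ hc⟩
    have hfD := hXD hf
    have heD := hXD he
    have h4 : ⁅z * e, w * f⁆ = ⁅e, f⁆ := by
      rw [commutatorElement_def, commutatorElement_def]
      calc z * e * (w * f) * (z * e)⁻¹ * (w * f)⁻¹ = z * (e * w) * f * e⁻¹ * z⁻¹ * f⁻¹ * w⁻¹ := by group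
        _ = z * (w * e) * f * e⁻¹ * z⁻¹ * f⁻¹ * w⁻¹ := by rw [(he' heD).2.eq]
        _ = z * (w * (e * f * e⁻¹)) * z⁻¹ * f⁻¹ * w⁻¹ := by group
        _ = (w * (e * f * e⁻¹)) * z * z⁻¹ * f⁻¹ * w⁻¹ := by
          rw [(he' (D.mul_mem (hZD hw) (D.mul_mem (D.mul_mem heD hfD) (D.inv_mem heD)))).1.eq]
        _ = w * (e * f * e⁻¹ * f⁻¹) * w⁻¹ := by group
        _ = e * f * e⁻¹ * f⁻¹ := by
          rw [(he' (D.mul_mem (D.mul_mem (D.mul_mem heD hfD) (D.inv_mem heD)) (D.inv_mem hfD))).2.eq,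
            mul_inv_cancel_right]
    rw [h4]
    exact Subgroup.commutator_mem_commutator he hf
  by_contra hne
  haveI : Nontrivial ↥X := X.nontrivial_iff_ne_bot.mpr hne
  haveI : Group.IsSolvable ↥X := Group.isSolvable_of_isSolvable_injective (f := Subgroup.inclusion hXD)
    (Subgroup.inclusion_injective hXD)
  refine (Group.IsSolvable.commutator_lt_top_of_nontrivial ↥X).ne (Subgroup.map_injective X.subtype_injective ?_)
  rw [commutator_def, Subgroup.map_commutator, ← MonoidHom.range_eq_map, Subgroup.range_subtype, hperf]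

namespace EightHyp

variable {S : Sylow 2 L} {A : Subgroup L} (H : EightHyp S A)
include H

/-- An element of order seven centralised by an involution is conjugate to a power of `x`. -/
theorem seven_centralised {x : L} (F : FieldHyp A x 7) {n u : L} (hn : orderOf n = 7) (hu : orderOf u = 2)
    (hun : u * n = n * u) : ∃ (g : L) (k : ℕ), g * x ^ k * g⁻¹ = n := by
  haveI : Fact (Nat.Prime 2) := ⟨Nat.prime_two⟩
  haveI := seven_prime
  obtain ⟨T, hT⟩ := (IsPGroup.of_card (p := 2) (n := 1) (G := Subgroup.zpowers u)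
    (by rw [Nat.card_zpowers, hu, pow_one])).exists_le_sylow
  obtain ⟨a, ha⟩ := MulAction.exists_smul_eq L T S
  set t := a * u * a⁻¹ with htdef
  have ht : t ∈ A := by
    rw [← H.S_eq, ← ha, Sylow.coe_subgroup_smul]
    exact Subgroup.smul_mem_pointwise_smul u (MulAut.conj a) _ (hT (Subgroup.mem_zpowers u))
  have ht1 : t ≠ 1 := fun e => by
    rw [conj_eq_one_iff.mp e, orderOf_one] at hu
    norm_num at hu
  have hxt : x ∈ cc t := mem_cc.mpr (Subgroup.mem_centralizer_singleton_iff.mp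
    (F.centralizer ▸ Subgroup.le_normalizer ht : t ∈ Subgroup.centralizer ({x} : Set L))).symm
  have hnt : a * n * a⁻¹ ∈ cc t := mem_cc.mpr (by
    calc a * n * a⁻¹ * (a * u * a⁻¹) = a * (n * u) * a⁻¹ := by group
      _ = a * (u * n) * a⁻¹ := by rw [hun]
      _ = t * (a * n * a⁻¹) := by rw [htdef]; group)
  have hsyl : ∀ z : ↥(cc t), orderOf z = 7 → ∃ P : Sylow 7 ↥(cc t), (P : Subgroup ↥(cc t)) = Subgroup.zpowers z := by
    intro z hz
    obtain ⟨P, hP⟩ := (IsPGroup.of_card (p := 7) (n := 1) (G := Subgroup.zpowers z)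
      (by rw [Nat.card_zpowers, hz, pow_one])).exists_le_sylow
    refine ⟨P, (Subgroup.eq_of_le_of_card_ge hP ?_).symm⟩
    rw [Nat.card_zpowers, hz, ← Subgroup.card_map_of_injective (K := (P : Subgroup ↥(cc t))) (cc t).subtype_injective]
    exact H.seven_cc F ht ht1 (P.2.map _) (Subgroup.map_subtype_le _)
  obtain ⟨P1, hP1⟩ := hsyl ⟨x, hxt⟩ (by rw [Subgroup.orderOf_mk, F.order])
  obtain ⟨P2, hP2⟩ := hsyl ⟨_, hnt⟩ (by
    rw [Subgroup.orderOf_mk]
    exact (orderOf_injective (MulAut.conj a).toMonoidHom (MulAut.conj a).injective n).trans hn)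
  obtain ⟨c, hc⟩ := MulAction.exists_smul_eq ↥(cc t) P1 P2
  have hm : (⟨_, hnt⟩ : ↥(cc t)) ∈ (P2 : Subgroup ↥(cc t)) := hP2 ▸ Subgroup.mem_zpowers _
  rw [← hc, Sylow.coe_subgroup_smul, hP1] at hm
  obtain ⟨y, hy, hye⟩ := hm
  rw [SetLike.mem_coe, ← mem_powers_iff_mem_zpowers] at hy
  obtain ⟨k, rfl⟩ := hy
  have e : (c : L) * x ^ k * (c : L)⁻¹ = a * n * a⁻¹ := congrArg Subtype.val hye
  refine ⟨a⁻¹ * c, k, ?_⟩
  calc a⁻¹ * c * x ^ k * (a⁻¹ * c)⁻¹ = a⁻¹ * ((c : L) * x ^ k * (c : L)⁻¹) * a := by group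
    _ = n := by rw [e]; group

set_option maxHeartbeats 1000000 in
/-- The odd core is not generated by an element of order `7`. -/
theorem seven_false {x : L} (F : FieldHyp A x 7) : False := by
  classical
  haveI := seven_prime
  haveI := H.hyp.simple
  obtain ⟨R, h, B⟩ := H.seven_base F
  obtain ⟨WR, BR⟩ := H.seven_plane F B B.pgroup le_rfl B.norm
  have hRcomm : ∀ a ∈ R, ∀ b ∈ R, a * b = b * a := fun a ha b hb => congrArg Subtype.val
    (IsPGroup.commutative_of_card_eq_prime_sq (p := 7) (G := R) (by rw [B.card]; norm_num) ⟨a, ha⟩ ⟨b, hb⟩)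
  -- the element `n`
  obtain ⟨r0, hr0, hr0m⟩ := B.moves
  obtain ⟨i0, hi0⟩ := BR.cover r0 hr0
  set n := (x ^ i0)⁻¹ * r0 with hn
  have hhn : h * n ≠ n * h := fun e => hr0m (by
    have e' : Commute h n := e
    have := ((show Commute h x from B.comm).pow_right i0).mul_right e'
    rw [hn, mul_inv_cancel_left] at this
    exact this.eq)
  have hn1 : n ≠ 1 := fun e => hhn (by rw [e, mul_one, one_mul])
  have hnR : n ∈ R := BR.le hi0
  have hn7 : orderOf n = 7 := orderOf_eq_prime (B.exp n hnR) hn1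
  have hWR : WR = Subgroup.zpowers n := by
    refine (Subgroup.eq_of_le_of_card_ge (Subgroup.zpowers_le.mpr hi0) ?_).symm
    have := BR.index
    rw [B.card] at this
    rw [Nat.card_zpowers, hn7]
    omega
  have hNRn : Subgroup.normalizer (R : Set L) ≤ Subgroup.normalizer (Subgroup.zpowers n : Set L) := hWR ▸ BR.norm
  have hxn : x * n = n * x := hRcomm x B.mem n hnR
  have hpown : ∀ {a : L}, a ∈ Subgroup.zpowers n → ∀ {b : L}, b * n = n * b → b * a = a * b := fun {a} ha {b} hb => by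
    obtain ⟨i, rfl⟩ := Subgroup.mem_zpowers_iff.mp ha
    exact ((show Commute b n from hb).zpow_right i).eq
  have hxk : ∀ {k : ℕ}, ¬ 7 ∣ k → ∀ {z : L}, z * x ^ k = x ^ k * z → z * x = x * z := by
    intro k hk z hz
    obtain ⟨l, hl⟩ := exists_pow_eq_self_of_coprime (x := x) (n := k)
      (by rw [B.order]; exact Nat.coprime_comm.mp ((Nat.Prime.coprime_iff_not_dvd (by norm_num)).mpr hk))
    exact hl ▸ ((show Commute z (x ^ k) from hz).pow_right l).eq
  have hx7 : ∀ {k : ℕ}, 7 ∣ k → x ^ k = 1 := fun ⟨c, hc⟩ => by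
    rw [hc, pow_mul, ← B.order, pow_orderOf_eq_one, one_pow]
  -- `n` is not conjugate to a power of `x`
  have hnx : ∀ (g : L) (k : ℕ), g * x ^ k * g⁻¹ ≠ n := by
    intro g k e
    have hk : ¬ 7 ∣ k := fun hk => hn1 (by rw [← e, hx7 hk, mul_one, mul_inv_cancel])
    have hhM : h ∈ Subgroup.normalizer (Subgroup.zpowers n : Set L) := hNRn B.norm
    obtain ⟨i, hi⟩ : ∃ i : ℤ, n ^ i = h * n * h⁻¹ :=
      Subgroup.mem_zpowers_iff.mp ((Subgroup.mem_normalizer_iff.mp hhM n).mp (Subgroup.mem_zpowers n))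
    have hgh : g⁻¹ * h * g ∈ Subgroup.normalizer (Subgroup.zpowers x : Set L) := by
      obtain ⟨l, hl⟩ := exists_pow_eq_self_of_coprime (x := x) (n := k)
        (by rw [B.order]; exact Nat.coprime_comm.mp ((Nat.Prime.coprime_iff_not_dvd (by norm_num)).mpr hk))
      have e1 : g⁻¹ * h * g * x ^ k * (g⁻¹ * h * g)⁻¹ = (x ^ k) ^ i := by
        calc g⁻¹ * h * g * x ^ k * (g⁻¹ * h * g)⁻¹ = g⁻¹ * (h * (g * x ^ k * g⁻¹) * h⁻¹) * g := by group
          _ = g⁻¹ * (g * x ^ k * g⁻¹) ^ i * g := by rw [e, hi]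
          _ = (x ^ k) ^ i := by rw [conj_zpow]; group
      refine mem_normalizer_of_maps fun y hy => ?_
      obtain ⟨j, rfl⟩ := Subgroup.mem_zpowers_iff.mp hy
      rw [← conj_zpow]
      refine Subgroup.zpow_mem _ ?_ j
      have e2 : g⁻¹ * h * g * x * (g⁻¹ * h * g)⁻¹ = ((x ^ k) ^ i) ^ l := by
        rw [← e1, conj_pow, hl]
      rw [e2]
      exact Subgroup.pow_mem _ (Subgroup.zpow_mem _ (Subgroup.npow_mem_zpowers x k) i) l
    rw [F.normalizer, ← F.centralizer, Subgroup.mem_centralizer_singleton_iff] at hgh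
    refine hhn ?_
    have h2 := ((show Commute (g⁻¹ * h * g) x from hgh).pow_right k).eq
    rw [← e]
    calc h * (g * x ^ k * g⁻¹) = g * (g⁻¹ * h * g * x ^ k) * g⁻¹ := by group
      _ = g * (x ^ k * (g⁻¹ * h * g)) * g⁻¹ := by rw [h2]
      _ = g * x ^ k * g⁻¹ * h := by group
  -- a Sylow subgroup above `R` normalised by `h`
  obtain ⟨P0, ⟨hP0p, hRP0, hhP0⟩, hmax⟩ := (Set.toFinite {U : Subgroup L |
    IsPGroup 7 U ∧ R ≤ U ∧ h ∈ Subgroup.normalizer (U : Set L)}).exists_maximal ⟨R, B.pgroup, le_rfl, B.norm⟩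
  obtain ⟨P, hP⟩ : ∃ P : Sylow 7 L, (P : Subgroup L) = P0 := by
    obtain ⟨P, hle⟩ := hP0p.exists_le_sylow
    refine ⟨P, ?_⟩
    by_contra hne
    have hlt : P0 < (P : Subgroup L) := lt_of_le_of_ne hle (Ne.symm hne)
    obtain ⟨WP, BP⟩ := H.seven_plane F B hP0p hRP0 hhP0
    set N := Subgroup.normalizer (P0 : Set L)
    obtain ⟨T⟩ := (inferInstance : Nonempty (Sylow 7 ↥N))
    haveI : Subsingleton (Sylow 7 ↥N) := ⟨BP.unique⟩
    haveI : (T : Subgroup ↥N).Normal := T.normal_of_subsingleton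
    set U := (T : Subgroup ↥N).map N.subtype with hU
    have hall : ∀ W : Subgroup L, IsPGroup 7 W → W ≤ N → W ≤ U := by
      intro W hW hWN w hw
      obtain ⟨T', hT'⟩ := (hW.comap_of_injective N.subtype N.subtype_injective).exists_le_sylow
      exact ⟨⟨w, hWN hw⟩, BP.unique T' T ▸ hT' hw, rfl⟩
    have hP0U : P0 ≤ U := hall P0 hP0p Subgroup.le_normalizer
    have hhU : h ∈ Subgroup.normalizer (U : Set L) := mem_normalizer_of_maps fun y hy => by
      obtain ⟨y, hy, rfl⟩ := hy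
      exact ⟨⟨h, hhP0⟩ * y * ⟨h, hhP0⟩⁻¹, (inferInstance : (T : Subgroup ↥N).Normal).conj_mem y hy _, rfl⟩
    have hUeq : U ≤ P0 := hmax ⟨T.2.map _, hRP0.trans hP0U, hhU⟩ hP0U
    haveI : Group.IsNilpotent (P : Subgroup L) := P.2.isNilpotent
    have hgrow := Group.normalizerCondition_of_isNilpotent (P0.subgroupOf (P : Subgroup L))
      (lt_top_iff_ne_top.mpr fun e => hlt.2 (Subgroup.subgroupOf_eq_top.mp e))
    refine hgrow.2 fun z hz => ?_
    have hzN : (z : L) ∈ N := mem_normalizer_of_maps fun y hy =>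
      (Subgroup.mem_normalizer_iff.mp hz ⟨y, hle hy⟩).mp hy
    exact hUeq (hall _ ((P.2.to_le (inf_le_left : (P : Subgroup L) ⊓ N ≤ P))) inf_le_right ⟨z.2, hzN⟩)
  rw [← hP] at hP0p hRP0 hhP0
  obtain ⟨WP, BP⟩ := H.seven_plane F B hP0p hRP0 hhP0
  set P' := (P : Subgroup L) with hP'
  have hxP : x ∈ P' := hRP0 B.mem
  -- `n` is central in `P`
  have hnP : ∀ p ∈ P', p * n = n * p := by
    set Z := (Subgroup.center ↥P').map P'.subtype with hZ
    have hZcomm : ∀ z ∈ Z, ∀ p ∈ P', p * z = z * p := by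
      rintro _ ⟨z, hz, rfl⟩ p hp
      exact congrArg Subtype.val (Subgroup.mem_center_iff.mp hz ⟨p, hp⟩)
    have hZR : Z ≤ R := fun z hz => B.cent_mem hP0p hRP0 (Subgroup.map_subtype_le _ hz) (hZcomm z hz x hxP).symm
    by_cases hxZ : x ∈ Z
    · have hPR : P' = R := B.cent_eq hP0p hRP0 fun p hp =>
        Subgroup.mem_centralizer_singleton_iff.mpr (hZcomm x hxZ p hp)
      intro p hp
      exact hRcomm p (hPR ▸ hp) n hnR
    · have hZh : ∀ z ∈ Z, h * z * h⁻¹ ∈ Z := by
        rintro _ ⟨z, hz, rfl⟩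
        exact ⟨P'.normalizerMonoidHom ⟨h, hhP0⟩ z, (Subgroup.characteristic_iff_comap_eq.mp inferInstance
          (P'.normalizerMonoidHom ⟨h, hhP0⟩)).ge hz, rfl⟩
      have hZW : Z ≤ WR := BR.max Z (by
        rw [show commutator ↥R = ⊥ from ?_, Subgroup.map_bot]
        · exact bot_le
        · rw [commutator_def, Subgroup.commutator_eq_bot_iff_le_centralizer]
          exact fun a _ b _ => Subtype.ext (hRcomm b b.2 a a.2)) hZR hZh hxZ
      haveI : Nontrivial ↥P' := ⟨⟨⟨x, hxP⟩, 1, fun e => by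
        have := congrArg Subtype.val e
        have ho := B.order
        rw [show x = 1 from this, orderOf_one] at ho
        norm_num at ho⟩⟩
      have hZne : Subgroup.center ↥P' ≠ ⊥ := by
        haveI := hP0p.center_nontrivial
        exact (Subgroup.center ↥P').nontrivial_iff_ne_bot.mp inferInstance
      obtain ⟨z, hz, hz1⟩ := (Subgroup.bot_or_exists_ne_one _).resolve_left hZne
      have hzW : (z : L) ∈ Subgroup.zpowers n := hWR ▸ hZW ⟨z, hz, rfl⟩
      intro p hp
      have e : Subgroup.zpowers (z : L) = Subgroup.zpowers n := Subgroup.eq_of_le_of_card_ge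
        (Subgroup.zpowers_le.mpr hzW) (by
          rw [Nat.card_zpowers, Nat.card_zpowers, hn7,
            orderOf_eq_prime (B.exp (z : L) (hZR ⟨z, hz, rfl⟩)) fun e => hz1 (Subtype.ext e)])
      obtain ⟨i, hi⟩ := Subgroup.mem_zpowers_iff.mp (e ▸ Subgroup.mem_zpowers n : n ∈ Subgroup.zpowers (z : L))
      rw [← hi]
      exact ((show Commute p (z : L) from hZcomm _ ⟨z, hz, rfl⟩ p hp).zpow_right i).eq
  -- fusion of `x` is controlled by the normaliser of `⟨n⟩`
  set M := Subgroup.normalizer (Subgroup.zpowers n : Set L) with hM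
  have hfus : ∀ (g : L) (k : ℕ), ¬ 7 ∣ k → g * x ^ k * g⁻¹ ∈ P' →
      ∃ m ∈ M, m * x ^ k * m⁻¹ = g * x ^ k * g⁻¹ := by
    intro g k hk hgy
    set y := g * x ^ k * g⁻¹ with hy
    set R' := P' ⊓ Subgroup.centralizer ({y} : Set L) with hR'
    have hyR' : y ∈ R' := ⟨hgy, Subgroup.mem_centralizer_singleton_iff.mpr rfl⟩
    have hnR' : n ∈ R' := ⟨hRP0 hnR, Subgroup.mem_centralizer_singleton_iff.mpr (hnP y hgy).symm⟩
    have hR'p : IsPGroup 7 R' := hP0p.to_le inf_le_left
    set R'' := R'.map (MulAut.conj g⁻¹).toMonoidHom with hR''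
    have hR''c : R'' ≤ Subgroup.centralizer ({x} : Set L) := by
      rintro _ ⟨w, hw, rfl⟩
      refine Subgroup.mem_centralizer_singleton_iff.mpr (hxk hk ?_)
      show g⁻¹ * w * g⁻¹⁻¹ * x ^ k = x ^ k * (g⁻¹ * w * g⁻¹⁻¹)
      have := Subgroup.mem_centralizer_singleton_iff.mp hw.2
      calc g⁻¹ * w * g⁻¹⁻¹ * x ^ k = g⁻¹ * (w * y) * g := by rw [hy]; group
        _ = g⁻¹ * (y * w) * g := by rw [this]
        _ = x ^ k * (g⁻¹ * w * g⁻¹⁻¹) := by rw [hy]; group
    have hR''card : Nat.card R'' = Nat.card R' :=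
      Subgroup.card_map_of_injective (MulAut.conj g⁻¹).injective
    have hy7 : orderOf y = 7 := by
      refine orderOf_eq_prime ?_ fun e => hk ?_
      · rw [hy, conj_pow, ← pow_mul, mul_comm, pow_mul, ← B.order, pow_orderOf_eq_one, one_pow, mul_one, mul_inv_cancel]
      · rw [hy, conj_eq_one_iff] at e
        exact B.order ▸ orderOf_dvd_of_pow_eq_one e
    have h49 : Nat.card R' = 49 := by
      refine le_antisymm (hR''card ▸ B.cap (hR'p.map _) hR''c) ?_
      have hlt : Subgroup.zpowers y < R' := lt_of_le_of_ne (Subgroup.zpowers_le.mpr hyR') fun e => by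
        obtain ⟨j, hj⟩ := mem_powers_iff_mem_zpowers.mpr (e ▸ hnR' : n ∈ Subgroup.zpowers y)
        have hj' : y ^ j = n := hj
        rw [hy, conj_pow, ← pow_mul] at hj'
        exact hnx g _ hj'
      have h1 := Set.Finite.card_lt_card (Set.toFinite _) hlt
      change Nat.card (Subgroup.zpowers y) < Nat.card R' at h1
      rw [Nat.card_zpowers, hy7] at h1
      obtain ⟨j, hj⟩ := IsPGroup.iff_card.mp hR'p
      rw [hj] at h1 ⊢
      calc (49 : ℕ) = 7 ^ 2 := by norm_num
        _ ≤ 7 ^ j := Nat.pow_le_pow_right (by norm_num) (by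
          by_contra hlt'
          have := Nat.pow_le_pow_right (show 0 < 7 by norm_num) (show j ≤ 1 by omega)
          omega)
    obtain ⟨c, hc, hcR⟩ := B.conj (hR'p.map _) hR''c (hR''card.trans h49)
    set g' := g * c⁻¹ with hg'
    have hg'y : g' * x ^ k * g'⁻¹ = y := by
      have h2 := ((show Commute c x from Subgroup.mem_centralizer_singleton_iff.mp hc).pow_right k).eq
      calc g' * x ^ k * g'⁻¹ = g * c⁻¹ * (x ^ k * c) * g⁻¹ := by rw [hg']; group
        _ = g * c⁻¹ * (c * x ^ k) * g⁻¹ := by rw [h2]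
        _ = y := by rw [hy]; group
    have hg'R : ∀ w ∈ R', g'⁻¹ * w * g' ∈ R := fun w hw => by
      have h3 := hcR _ (Subgroup.mem_map_of_mem _ hw)
      have e : g'⁻¹ * w * g' = c * (g⁻¹ * w * g⁻¹⁻¹) * c⁻¹ := by rw [hg']; group
      rw [e]; exact h3
    refine ⟨g', ?_, hg'y⟩
    set n' := g'⁻¹ * n * g' with hn'
    by_cases hn'n : n' ∈ Subgroup.zpowers n
    · have : g'⁻¹ ∈ M := mem_normalizer_of_maps fun z hz => by
        obtain ⟨i, rfl⟩ := Subgroup.mem_zpowers_iff.mp hz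
        rw [← conj_zpow]
        refine Subgroup.zpow_mem _ ?_ i
        rwa [inv_inv]
      simpa using M.inv_mem this
    -- otherwise `R' = P = R`
    have hsup : R ≤ Subgroup.zpowers n ⊔ Subgroup.zpowers n' := by
      have hle : Subgroup.zpowers n ⊔ Subgroup.zpowers n' ≤ R :=
        sup_le (Subgroup.zpowers_le.mpr hnR) (Subgroup.zpowers_le.mpr (hg'R n hnR'))
      have hlt : Subgroup.zpowers n < Subgroup.zpowers n ⊔ Subgroup.zpowers n' :=
        lt_of_le_of_ne le_sup_left fun e => hn'n (e ▸ Subgroup.mem_sup_right (Subgroup.mem_zpowers n'))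
      have h1 := Set.Finite.card_lt_card (Set.toFinite _) hlt
      change Nat.card (Subgroup.zpowers n) < Nat.card ↥(Subgroup.zpowers n ⊔ Subgroup.zpowers n') at h1
      rw [Nat.card_zpowers, hn7] at h1
      obtain ⟨j, hj⟩ := IsPGroup.iff_card.mp (B.pgroup.to_le hle)
      refine (Subgroup.eq_of_le_of_card_ge hle ?_).ge
      rw [hj] at h1
      rw [B.card, hj]
      calc (49 : ℕ) = 7 ^ 2 := by norm_num
        _ ≤ 7 ^ j := Nat.pow_le_pow_right (by norm_num) (by
          by_contra hlt'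
          have := Nat.pow_le_pow_right (show 0 < 7 by norm_num) (show j ≤ 1 by omega)
          omega)
    have hR'P : R' = P' := by
      by_contra hne
      have hlt : R' < P' := lt_of_le_of_ne inf_le_left hne
      haveI : Group.IsNilpotent ↥P' := hP0p.isNilpotent
      obtain ⟨w, hw, hwR⟩ := SetLike.exists_of_lt (Group.normalizerCondition_of_isNilpotent (R'.subgroupOf P')
        (lt_top_iff_ne_top.mpr fun e => hlt.2 (Subgroup.subgroupOf_eq_top.mp e)))
      set w' := g'⁻¹ * (w : L) * g' with hw'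
      have hR'' : R = R'.map (MulAut.conj g'⁻¹).toMonoidHom := (Subgroup.eq_of_le_of_card_ge (by
        rintro _ ⟨z, hz, rfl⟩
        have := hg'R z hz
        simpa using this) (by
        rw [Subgroup.card_map_of_injective (MulAut.conj g'⁻¹).injective, h49, B.card])).symm
      have hw'N : w' ∈ Subgroup.normalizer (R : Set L) := mem_normalizer_of_maps fun z hz => by
        rw [hR''] at hz
        obtain ⟨z, hz, rfl⟩ := hz
        have h4 : (w : L) * z * (w : L)⁻¹ ∈ R' := (Subgroup.mem_normalizer_iff.mp hw ⟨z, hlt.le hz⟩).mp hz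
        have e : w' * (MulAut.conj g'⁻¹).toMonoidHom z * w'⁻¹ = g'⁻¹ * ((w : L) * z * (w : L)⁻¹) * g' := by
          show w' * (g'⁻¹ * z * g'⁻¹⁻¹) * w'⁻¹ = _
          rw [hw']; group
        rw [e]; exact hg'R _ h4
      have hw'n' : w' * n' = n' * w' := by
        calc w' * n' = g'⁻¹ * ((w : L) * n) * g' := by rw [hw', hn']; group
          _ = g'⁻¹ * (n * (w : L)) * g' := by rw [hnP w w.2]
          _ = n' * w' := by rw [hw', hn']; group
      obtain ⟨m, hm⟩ := hP0p w
      have hw'm : w' ^ 7 ^ m = 1 := by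
        have h5 : (w : L) ^ 7 ^ m = 1 := congrArg Subtype.val hm
        rw [hw']
        simpa [h5] using (conj_pow (i := 7 ^ m) (a := g'⁻¹) (b := (w : L)))
      have hw'n : w' * n = n * w' := by
        have hmem := (Subgroup.mem_normalizer_iff.mp (hNRn hw'N) n).mp (Subgroup.mem_zpowers n)
        rw [← mem_powers_iff_mem_zpowers] at hmem
        obtain ⟨j, hj⟩ := hmem
        have hj' : n ^ j = w' * n * w'⁻¹ := hj
        have hiter : ∀ i : ℕ, w' ^ i * n * (w' ^ i)⁻¹ = n ^ (j ^ i) := by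
          intro i
          induction i with
          | zero => simp
          | succ i ih =>
            calc w' ^ (i + 1) * n * (w' ^ (i + 1))⁻¹ = w' * (w' ^ i * n * (w' ^ i)⁻¹) * w'⁻¹ := by
                  rw [pow_succ']; group
              _ = n ^ (j ^ (i + 1)) := by rw [ih, ← conj_pow, ← hj', ← pow_mul, pow_succ']
        have h6 := hiter (7 ^ m)
        rw [hw'm] at h6
        simp only [one_mul, inv_one, mul_one] at h6
        have h7 : j ^ 7 ^ m % 7 = 1 := by
          have h8 : n ^ 1 = n ^ (j ^ 7 ^ m) := by rw [pow_one]; exact h6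
          rw [pow_eq_pow_iff_modEq, hn7] at h8
          exact h8.symm
        have hj1 : j % 7 = 1 := by
          have hred : ∀ i : ℕ, j ^ 7 ^ i % 7 = j % 7 := by
            intro i
            induction i with
            | zero => simp
            | succ i ih =>
              rw [pow_succ, pow_mul, Nat.pow_mod, ih]
              exact (by decide : ∀ a < 7, a ^ 7 % 7 = a) _ (Nat.mod_lt _ (by norm_num))
          rw [← hred m]; exact h7
        have : n ^ j = n := by
          conv_rhs => rw [← pow_one n]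
          rw [pow_eq_pow_iff_modEq, hn7]
          exact hj1
        rw [this] at hj'
        exact (mul_inv_eq_iff_eq_mul.mp hj'.symm)
      have hw'R : R ≤ Subgroup.centralizer ({w'} : Set L) := hsup.trans (sup_le
        (Subgroup.zpowers_le.mpr (Subgroup.mem_centralizer_singleton_iff.mpr hw'n.symm))
        (Subgroup.zpowers_le.mpr (Subgroup.mem_centralizer_singleton_iff.mpr hw'n'.symm)))
      have hU : R ⊔ Subgroup.zpowers w' = R := by
        refine B.cent_eq ?_ le_sup_left (sup_le B.le (Subgroup.zpowers_le.mpr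
          (Subgroup.mem_centralizer_singleton_iff.mpr
            (Subgroup.mem_centralizer_singleton_iff.mp (hw'R B.mem)).symm)))
        exact IsPGroup.to_sup_of_normal_left' B.pgroup (zpowers_isPGroup (p := 7) (n := m) hw'm)
          (Subgroup.zpowers_le.mpr hw'N)
      have : w' ∈ R := hU ▸ Subgroup.mem_sup_right (Subgroup.mem_zpowers w')
      rw [hR''] at this
      obtain ⟨z, hz, hze⟩ := this
      refine hwR ?_
      have : z = (w : L) := by
        have hze' : g'⁻¹ * z * g'⁻¹⁻¹ = g'⁻¹ * (w : L) * g' := hze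
        rw [inv_inv] at hze'
        exact mul_left_cancel (mul_right_cancel hze')
      show (w : L) ∈ R'
      exact this ▸ hz
    have hPR : R = P' := Subgroup.eq_of_le_of_card_ge hRP0 (by rw [← hR'P, h49, B.card])
    refine hNRn ?_
    have h9 : g'⁻¹ ∈ Subgroup.normalizer (R : Set L) := mem_normalizer_of_maps fun z hz => by
      rw [inv_inv]
      exact hg'R z (hR'P ▸ hPR ▸ hz)
    simpa using (Subgroup.normalizer (R : Set L)).inv_mem h9
  -- inside `M`
  have hCn : ∀ {m : L}, m ∈ M → ∀ {z : L}, z * n = n * z → (m * z * m⁻¹) * n = n * (m * z * m⁻¹) := by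
    intro m hm z hz
    have h1 := hpown ((Subgroup.mem_normalizer_iff''.mp hm n).mp (Subgroup.mem_zpowers n)) hz
    calc m * z * m⁻¹ * n = m * (z * (m⁻¹ * n * m)) * m⁻¹ := by group
      _ = m * ((m⁻¹ * n * m) * z) * m⁻¹ := by rw [h1]
      _ = n * (m * z * m⁻¹) := by group
  have hodd : Odd (Nat.card (Subgroup.centralizer ({n} : Set L))) := by
    rw [← Nat.not_even_iff_odd, even_iff_two_dvd]
    intro h2
    haveI : Fact (Nat.Prime 2) := ⟨Nat.prime_two⟩
    obtain ⟨⟨u, huC⟩, hu⟩ := exists_prime_orderOf_dvd_card' (G := Subgroup.centralizer ({n} : Set L)) 2 h2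
    rw [Subgroup.orderOf_mk] at hu
    obtain ⟨g, k, e⟩ := H.seven_centralised F hn7 hu (Subgroup.mem_centralizer_singleton_iff.mp huC)
    exact hnx g k e
  have hxM : x ∈ M := mem_normalizer_of_maps fun z hz => by
    rw [hpown hz hxn, mul_inv_cancel_right]; exact hz
  have hnM : n ∈ M := Subgroup.le_normalizer (Subgroup.mem_zpowers n)
  have hhM : h ∈ M := hNRn B.norm
  have hPM : P' ≤ M := fun p hp => mem_normalizer_of_maps fun z hz => by
    rw [hpown hz (hnP p hp), mul_inv_cancel_right]; exact hz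
  set D := Subgroup.normalClosure ({⟨x, hxM⟩, ⟨n, hnM⟩} : Set ↥M) with hD
  have hDC : ∀ d ∈ D, (d : L) * n = n * d := by
    let K : Subgroup ↥M := (Subgroup.centralizer ({n} : Set L)).subgroupOf M
    haveI : K.Normal := ⟨fun z hz m => Subgroup.mem_centralizer_singleton_iff.mpr
      (hCn m.2 (Subgroup.mem_centralizer_singleton_iff.mp hz))⟩
    have hle : D ≤ K := Subgroup.normalClosure_le_normal (by
      rintro z (rfl | rfl)
      · exact Subgroup.mem_centralizer_singleton_iff.mpr hxn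
      · exact Subgroup.mem_centralizer_singleton_iff.mpr rfl)
    exact fun d hd => Subgroup.mem_centralizer_singleton_iff.mp (hle hd)
  haveI hDsol : Group.IsSolvable ↥D := oddSolv _ (hodd.of_dvd_nat (by
    rw [← Subgroup.card_map_of_injective (K := D) M.subtype_injective]
    refine Subgroup.card_dvd_of_le ?_
    rintro _ ⟨d, hd, rfl⟩
    exact Subgroup.mem_centralizer_singleton_iff.mpr (hDC d hd)))
  set Zn := Subgroup.zpowers (⟨n, hnM⟩ : ↥M) with hZn
  haveI hZnn : Zn.Normal := ⟨fun z hz m => by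
    obtain ⟨i, rfl⟩ := Subgroup.mem_zpowers_iff.mp hz
    have := (Subgroup.mem_normalizer_iff.mp m.2 (n ^ i)).mp (Subgroup.zpow_mem _ (Subgroup.mem_zpowers n) i)
    obtain ⟨j, hj⟩ := Subgroup.mem_zpowers_iff.mp this
    exact Subgroup.mem_zpowers_iff.mpr ⟨j, Subtype.ext (by
      rw [SubgroupClass.coe_zpow, Subgroup.coe_mul, Subgroup.coe_mul, Subgroup.coe_inv, SubgroupClass.coe_zpow]
      exact hj)⟩⟩
  haveI hDn : D.Normal := Subgroup.normalClosure_normal
  have hxD : (⟨x, hxM⟩ : ↥M) ∈ D := Subgroup.subset_normalClosure (by simp)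
  have hnD : (⟨n, hnM⟩ : ↥M) ∈ D := Subgroup.subset_normalClosure (by simp)
  set D1 := Zn ⊔ ⁅D, D⁆ with hD1
  haveI hD1n : D1.Normal := Subgroup.sup_normal _ _
  have hxD1 : (⟨x, hxM⟩ : ↥M) ∉ D1 := by
    intro hmem
    have hgen : D ≤ D1 := Subgroup.normalClosure_le_normal (by
      rintro z (rfl | rfl)
      · exact hmem
      · exact Subgroup.mem_sup_left (Subgroup.mem_zpowers _))
    have hb := derived_bot_of_central (D := D) (Z := Zn) (Subgroup.zpowers_le.mpr hnD) (fun z hz d hd => by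
      obtain ⟨i, rfl⟩ := Subgroup.mem_zpowers_iff.mp hz
      exact ((show Commute d (⟨n, hnM⟩ : ↥M) from Subtype.ext (hDC d hd)).zpow_right i).eq.symm) hgen
    rw [hD1, hb, sup_bot_eq] at hmem
    obtain ⟨i, hi⟩ := Subgroup.mem_zpowers_iff.mp hmem
    have hi' : n ^ i = x := congrArg Subtype.val hi
    exact BR.not_mem (hWR ▸ hi' ▸ Subgroup.zpow_mem _ (Subgroup.mem_zpowers n) i)
  set Q := P' ⊓ D.map M.subtype with hQ
  have hQp : IsPGroup 7 Q := hP0p.to_le inf_le_left
  have hRQ : R ≤ Q := by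
    intro r hr
    obtain ⟨i, hi⟩ := BR.cover r hr
    rw [hWR] at hi
    obtain ⟨j, hj⟩ := Subgroup.mem_zpowers_iff.mp hi
    refine ⟨hRP0 hr, (⟨x, hxM⟩ : ↥M) ^ i * ⟨n, hnM⟩ ^ j, D.mul_mem (D.pow_mem hxD i) (D.zpow_mem hnD j), ?_⟩
    show (M.subtype ((⟨x, hxM⟩ : ↥M) ^ i * ⟨n, hnM⟩ ^ j)) = r
    rw [map_mul, map_pow, map_zpow, Subgroup.subtype_apply, Subgroup.subtype_apply, hj, mul_inv_cancel_left]
  have hDmap : ∀ m ∈ M, ∀ z ∈ D.map M.subtype, m * z * m⁻¹ ∈ D.map M.subtype := by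
    rintro m hm _ ⟨z, hz, rfl⟩
    exact ⟨⟨m, hm⟩ * z * ⟨m, hm⟩⁻¹, hDn.conj_mem z hz _, rfl⟩
  have hhQ : h ∈ Subgroup.normalizer (Q : Set L) := mem_normalizer_of_maps fun z hz =>
    ⟨(Subgroup.mem_normalizer_iff.mp hhP0 z).mp hz.1, hDmap h hhM z hz.2⟩
  obtain ⟨WQ, BQ⟩ := H.seven_plane F B hQp hRQ hhQ
  -- `Q` is a Sylow subgroup of `D`: Frattini
  have hfrat : ∀ m : ↥M, ∃ d ∈ D, ∃ k : ↥M, (k : L) ∈ Subgroup.normalizer (Q : Set L) ∧ m = d * k := by
    set Q0 := Q.comap (M.subtype.comp D.subtype) with hQ0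
    have hQ0p : IsPGroup 7 Q0 := hQp.comap_of_injective _ (M.subtype_injective.comp D.subtype_injective)
    have hQc : ∀ K : Subgroup ↥D, IsPGroup 7 K → Nat.card K ≤ Nat.card Q0 := by
      intro K hK
      let PM : Sylow 7 ↥M := P.subtype hPM
      obtain ⟨PK, hPK⟩ := (hK.map D.subtype).exists_le_sylow
      obtain ⟨m, hm⟩ := MulAction.exists_smul_eq ↥M PK PM
      refine Nat.card_le_card_of_injective (fun z : K => (⟨⟨m * ((z : ↥D) : ↥M) * m⁻¹, hDn.conj_mem _ (z : ↥D).2 m⟩, ?_⟩ : Q0))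
        fun z z' e => ?_
      · refine ⟨?_, ⟨_, hDn.conj_mem _ (z : ↥D).2 m, rfl⟩⟩
        have h1 : m * ((z : ↥D) : ↥M) * m⁻¹ ∈ (PM : Subgroup ↥M) := by
          rw [← hm, Sylow.coe_subgroup_smul]
          exact Subgroup.smul_mem_pointwise_smul _ (MulAut.conj m) _ (hPK ⟨z, z.2, rfl⟩)
        exact h1
      · have e1 := congrArg (fun w : Q0 => ((w : ↥D) : ↥M)) e
        exact Subtype.ext (Subtype.ext (mul_left_cancel (mul_right_cancel e1)))
    obtain ⟨T, hT⟩ := hQ0p.exists_le_sylow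
    have hTQ : (T : Subgroup ↥D) = Q0 := (Subgroup.eq_of_le_of_card_ge hT (hQc _ T.2)).symm
    intro m
    have hm : m ∈ Subgroup.normalizer ((T : Subgroup ↥D).map D.subtype : Set ↥M) ⊔ D := by
      rw [Sylow.normalizer_sup_eq_top T]; exact Subgroup.mem_top m
    obtain ⟨k, hk, d, hd, rfl⟩ : ∃ k ∈ Subgroup.normalizer ((T : Subgroup ↥D).map D.subtype : Set ↥M),
        ∃ d ∈ D, k * d = m := by
      have h1 : m ∈ ((Subgroup.normalizer ((T : Subgroup ↥D).map D.subtype : Set ↥M) ⊔ D : Subgroup ↥M) : Set ↥M) := hm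
      rw [Subgroup.mul_normal] at h1
      obtain ⟨k, hk, d, hd, e⟩ := h1
      exact ⟨k, hk, d, hd, e⟩
    refine ⟨k * d * k⁻¹, hDn.conj_mem d hd k, k, ?_, by group⟩
    refine mem_normalizer_of_maps fun z hz => ?_
    obtain ⟨y, hy, rfl⟩ := hz.2
    have h2 : y ∈ (T : Subgroup ↥D).map D.subtype := ⟨⟨y, hy⟩, hTQ ▸ hz, rfl⟩
    obtain ⟨w, hw, hwe⟩ := (Subgroup.mem_normalizer_iff.mp hk y).mp h2
    rw [hTQ] at hw
    have hw' : M.subtype (D.subtype w) ∈ Q := hw
    rw [hwe] at hw'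
    exact hw'
  -- the subgroup `L0`
  set L0 := D1 ⊔ WQ.subgroupOf M with hL0
  have hWQD : WQ.subgroupOf M ≤ D := fun z hz => by
    obtain ⟨y, hy, hye⟩ := (BQ.le hz).2
    exact (show y = z from Subtype.ext hye) ▸ hy
  have hD1D : D1 ≤ D := sup_le (Subgroup.zpowers_le.mpr hnD) (Subgroup.commutator_le_self D)
  have hL0D : L0 ≤ D := sup_le hD1D hWQD
  have hDD : ∀ a ∈ D, ∀ b ∈ D, a * b * a⁻¹ * b⁻¹ ∈ L0 := fun a ha b hb =>
    Subgroup.mem_sup_left (Subgroup.mem_sup_right (Subgroup.commutator_mem_commutator ha hb))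
  haveI hL0n : L0.Normal := ⟨fun z hz m => by
    obtain ⟨d, hd, k, hk, rfl⟩ := hfrat m
    have hkz : k * z * k⁻¹ ∈ L0 := by
      have hle : L0 ≤ L0.comap (MulAut.conj k).toMonoidHom := by
        refine sup_le (fun w hw => Subgroup.mem_sup_left (hD1n.conj_mem w hw k)) fun w hw => Subgroup.mem_sup_right ?_
        exact (Subgroup.mem_normalizer_iff.mp (BQ.norm hk) _).mp hw
      exact hle hz
    have h1 := mul_mem (hDD d hd _ (hDn.conj_mem z (hL0D hz) k)) hkz
    have e : d * k * z * (d * k)⁻¹ = d * (k * z * k⁻¹) * d⁻¹ * (k * z * k⁻¹)⁻¹ * (k * z * k⁻¹) := by group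
    rw [e]; exact h1⟩
  set q := QuotientGroup.mk' L0
  have hqx : ∀ m : ↥M, q (m * ⟨x, hxM⟩ * m⁻¹) = q ⟨x, hxM⟩ := by
    intro m
    obtain ⟨d, hd, k, hk, rfl⟩ := hfrat m
    have h1 : q (k * ⟨x, hxM⟩ * k⁻¹) = q ⟨x, hxM⟩ := by
      rw [← mul_inv_eq_one, ← map_inv, ← map_mul]
      exact (QuotientGroup.eq_one_iff _).mpr (Subgroup.mem_sup_right (BQ.move k hk))
    have h2 : q d * q ⟨x, hxM⟩ * (q d)⁻¹ = q ⟨x, hxM⟩ := by
      rw [← mul_inv_eq_one, ← map_inv, ← map_mul, ← map_mul, ← map_inv, ← map_mul]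
      exact (QuotientGroup.eq_one_iff _).mpr (hDD d hd _ hxD)
    rw [show d * k * ⟨x, hxM⟩ * (d * k)⁻¹ = d * (k * ⟨x, hxM⟩ * k⁻¹) * d⁻¹ by group, map_mul, map_mul, h1, map_inv,
      h2]
  have hL0Q : ∀ z : ↥M, z ∈ L0 → (z : L) ∈ Q → (z : L) ∈ WP := by
    intro z hz hzQ
    have hzW : (z : L) ∈ WQ := by
      have h1 : z ∈ ((D1 ⊔ WQ.subgroupOf M : Subgroup ↥M) : Set ↥M) := hz
      rw [Subgroup.normal_mul] at h1
      obtain ⟨a, ha, w, hw, rfl⟩ := h1
      have haQ : (a : L) ∈ Q := by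
        have := Q.mul_mem hzQ (Q.inv_mem (BQ.le hw))
        simpa using this
      set K := Q ⊓ D1.map M.subtype with hK
      have hK' : K ≤ WQ := by
        refine BQ.max K ?_ inf_le_left (fun y hy => ?_) ?_
        · refine le_inf (Subgroup.map_subtype_le _) ?_
          rw [commutator_def, Subgroup.map_commutator, ← MonoidHom.range_eq_map, Subgroup.range_subtype]
          calc ⁅Q, Q⁆ ≤ ⁅D.map M.subtype, D.map M.subtype⁆ := Subgroup.commutator_mono inf_le_right inf_le_right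
            _ = (⁅D, D⁆).map M.subtype := (Subgroup.map_commutator _ _ _).symm
            _ ≤ D1.map M.subtype := Subgroup.map_mono le_sup_right
        · obtain ⟨y', hy', rfl⟩ := hy.2
          exact ⟨(Subgroup.mem_normalizer_iff.mp hhQ _).mp hy.1, ⟨⟨h, hhM⟩ * y' * ⟨h, hhM⟩⁻¹, hD1n.conj_mem y' hy' _, rfl⟩⟩
        · rintro ⟨-, y, hy, hye⟩
          exact hxD1 ((show y = ⟨x, hxM⟩ from Subtype.ext hye) ▸ hy)
      exact WQ.mul_mem (hK' ⟨haQ, a, ha, rfl⟩) hw
    obtain ⟨i, hi⟩ := BP.cover z hzQ.1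
    have hK2 : (WP ⊓ Q : Subgroup L) ≤ WQ := BQ.max _ (le_inf (fun y hy => BP.comm (by
        rw [commutator_def, Subgroup.map_commutator, ← MonoidHom.range_eq_map, Subgroup.range_subtype] at hy ⊢
        exact Subgroup.commutator_mono inf_le_left inf_le_left hy)) (Subgroup.map_subtype_le _)) inf_le_right
      (fun y hy => ⟨(Subgroup.mem_normalizer_iff.mp (BP.norm hhP0) y).mp hy.1,
        (Subgroup.mem_normalizer_iff.mp hhQ y).mp hy.2⟩) fun hm => BP.not_mem hm.1
    have hxQ : x ∈ Q := hRQ B.mem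
    have h3 := hK2 ⟨hi, Q.mul_mem (Q.inv_mem (Q.pow_mem hxQ i)) hzQ⟩
    have h4 : x ^ i ∈ WQ := by
      have := WQ.mul_mem hzW (WQ.inv_mem h3)
      simpa using this
    rw [hx7 ((B.pow_mem_iff BQ.not_mem).mp h4), inv_one, one_mul] at hi
    exact hi
  -- transfer
  set W' := WP.subgroupOf P' with hW'
  haveI : W'.Normal := ⟨fun w hw p => (Subgroup.mem_normalizer_iff.mp (BP.norm (Subgroup.le_normalizer p.2)) w).mp hw⟩
  have hqc : Nat.card (↥P' ⧸ W') = 7 := by
    have h1 := W'.card_mul_index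
    rw [hW', Nat.card_congr (Subgroup.subgroupOfEquivOfLe BP.le).toEquiv] at h1
    rw [← Subgroup.index_eq_card]
    have := BP.index
    have hpos : 0 < Nat.card WP := Nat.card_pos
    rw [← this] at h1
    exact Nat.eq_of_mul_eq_mul_left hpos h1
  haveI : IsCyclic (↥P' ⧸ W') := isCyclic_of_prime_card hqc
  letI : CommGroup (↥P' ⧸ W') := IsCyclic.commGroup
  let φ := QuotientGroup.mk' W'
  have hinv : ∀ (g : L) (k : ℕ) (hga : g * x ^ k * g⁻¹ ∈ P'), φ ⟨g * x ^ k * g⁻¹, hga⟩ = φ ⟨x, hxP⟩ ^ k := by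
    intro g k hga
    rw [← map_pow]
    by_cases hk : 7 ∣ k
    · refine congrArg φ (Subtype.ext ?_)
      rw [SubmonoidClass.coe_pow]
      show g * x ^ k * g⁻¹ = x ^ k
      rw [hx7 hk, mul_one, mul_inv_cancel]
    obtain ⟨m, hm, hme⟩ := hfus g k hk hga
    set ym : ↥M := ⟨m, hm⟩ * ⟨x, hxM⟩ ^ k * ⟨m, hm⟩⁻¹ with hym
    have hymD : ym ∈ D := hDn.conj_mem _ (D.pow_mem hxD k) _
    have hymv : (ym : L) = g * x ^ k * g⁻¹ := by
      rw [← hme, hym, Subgroup.coe_mul, Subgroup.coe_mul, Subgroup.coe_inv, SubmonoidClass.coe_pow]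
    have hd : (⟨x, hxM⟩ : ↥M) ^ k * ym⁻¹ ∈ L0 := by
      rw [← QuotientGroup.eq_one_iff]
      show q _ = 1
      rw [map_mul, map_inv, map_pow, mul_inv_eq_one, hym, map_mul, map_mul, map_pow, map_inv]
      have := hqx ⟨m, hm⟩
      rw [map_mul, map_mul, map_inv] at this
      rw [← conj_pow, this]
    have hyQ : (ym : L) ∈ Q := ⟨hymv ▸ hga, ym, hymD, rfl⟩
    have hdQ : (((⟨x, hxM⟩ : ↥M) ^ k * ym⁻¹ : ↥M) : L) ∈ Q := by
      rw [Subgroup.coe_mul, Subgroup.coe_inv, SubmonoidClass.coe_pow]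
      exact Q.mul_mem (Q.pow_mem (hRQ B.mem) k) (Q.inv_mem hyQ)
    have hW := hL0Q _ hd hdQ
    rw [Subgroup.coe_mul, Subgroup.coe_inv, SubmonoidClass.coe_pow, hymv] at hW
    refine (QuotientGroup.eq (s := W')).mpr ?_
    rw [hW', Subgroup.mem_subgroupOf, Subgroup.coe_mul, Subgroup.coe_inv, SubmonoidClass.coe_pow]
    show (g * x ^ k * g⁻¹)⁻¹ * x ^ k ∈ WP
    have h5 := (Subgroup.mem_normalizer_iff''.mp (BP.norm (Subgroup.le_normalizer hga)) _).mp hW
    have e : (g * x ^ k * g⁻¹)⁻¹ * x ^ k =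
        (g * x ^ k * g⁻¹)⁻¹ * (x ^ k * (g * x ^ k * g⁻¹)⁻¹) * (g * x ^ k * g⁻¹) := by group
    rw [e]; exact h5
  have hfin := transfer_invariant H.hyp.nonabelian P φ hxP (by rw [← B.order, pow_orderOf_eq_one]) hinv
  exact BP.not_mem ((QuotientGroup.eq_one_iff (⟨x, hxP⟩ : ↥P')).mp hfin)

end EightHyp

end CfsgLib.S3Simple
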