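import Cfsg.Agent.Lib.S3Simple.Eight.Last
import Cfsg.Agent.Lib.S3Simple.Eight.Primes
import Cfsg.Agent.Lib.S3Simple.Eight.Seven

/-!
The configuration of section 5 does not occur.

Blueprint: `blueprint/S3Free.md`, section 5.
-/

set_option autoImplicit false
set_option linter.unusedSectionVars false
set_option linter.style.haveILetI false

namespace CfsgLib.S3Simple

open Cfsg

universe u

theorem eightKilled : EightKilled.{u} := by
  intro L _ _ S A h hA _ _ hc hblk hrel hcen
  have H : EightHyp S A := ⟨h, hA, hc, hblk, hrel, hcen⟩
  by_cases h0 : oddC A = ⊥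
  · exact H.false_of_oddC_bot h0
  obtain ⟨x, r, F⟩ := H.exists_fieldHyp h0
  by_cases h3 : r = 3
  · subst h3
    exact H.three_false F
  by_cases h7 : r = 7
  · subst h7
    exact H.seven_false F
  exact H.other_false F h3 h7

end CfsgLib.S3Simple
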