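import Cfsg.Agent.Lib.S3Simple.Component
import Cfsg.Agent.Lib.GoldschmidtS3.Basic

/-!
A group without a section `S₃` on the plane over the field with seven elements.

Blueprint: `blueprint/S3Free.md`, 5.3.
-/

set_option autoImplicit false
set_option linter.unusedSectionVars false
set_option linter.style.haveILetI false

namespace CfsgLib.S3Simple

open Cfsg

universe u v

namespace PlaneSeven

variable {V : Type v} [Group V]

theorem orderOf_seven (hexp : ∀ x : V, x ^ 7 = 1) {x : V} (hx : x ≠ 1) : orderOf x = 7 :=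
  haveI : Fact (Nat.Prime 7) := ⟨by norm_num⟩
  orderOf_eq_prime (hexp x) hx

theorem pow_eq_one_iff (hexp : ∀ x : V, x ^ 7 = 1) {x : V} (hx : x ≠ 1) {a : ℕ} : x ^ a = 1 ↔ a % 7 = 0 := by
  rw [← orderOf_dvd_iff_pow_eq_one, orderOf_seven hexp hx, Nat.dvd_iff_mod_eq_zero]

theorem pow_eq_pow (hexp : ∀ x : V, x ^ 7 = 1) {x : V} (hx : x ≠ 1) {a b : ℕ} :
    x ^ a = x ^ b ↔ a % 7 = b % 7 := by
  rw [pow_eq_pow_iff_modEq, orderOf_seven hexp hx]; rfl

theorem eq_one_of_inv (hexp : ∀ x : V, x ^ 7 = 1) {x : V} (hx : x = x⁻¹) : x = 1 := by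
  by_contra h
  have h2 : x ^ 2 = 1 := by rw [pow_two]; exact mul_eq_one_iff_eq_inv.mpr hx
  rw [pow_eq_one_iff hexp h] at h2
  omega

theorem span [Finite V] (hV : Nat.card V = 49) (hexp : ∀ x : V, x ^ 7 = 1) {f n : V} (hf : f ≠ 1)
    (hn : n ∉ Subgroup.zpowers f) (x : V) : ∃ a b : ℕ, x = f ^ a * n ^ b := by
  classical
  have hn1 : n ≠ 1 := fun e => hn (e ▸ one_mem _)
  have hinj : Function.Injective fun k : Fin 7 × Fin 7 => f ^ (k.1 : ℕ) * n ^ (k.2 : ℕ) := by
    intro k l e
    dsimp only at e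
    have h1 : n ^ ((k.2 : ℕ) + 7 - l.2) ∈ Subgroup.zpowers f := by
      have e2 : n ^ (k.2 : ℕ) * (n ^ (l.2 : ℕ))⁻¹ = (f ^ (k.1 : ℕ))⁻¹ * f ^ (l.1 : ℕ) := by
        rw [eq_inv_mul_iff_mul_eq, ← mul_assoc, e, mul_inv_cancel_right]
      rw [pow_sub n (by omega), pow_add, hexp, mul_one, e2]
      exact mul_mem (inv_mem (Subgroup.npow_mem_zpowers f _)) (Subgroup.npow_mem_zpowers f _)
    have h2 : (k.2 : ℕ) = l.2 := by
      by_contra hne
      refine hn ?_
      have hm : ((k.2 : ℕ) + 7 - l.2) % 7 ≠ 0 := by omega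
      obtain ⟨r, hr⟩ : ∃ r, (((k.2 : ℕ) + 7 - l.2) * r) % 7 = 1 := by
        have := (by decide : ∀ t < 7, t ≠ 0 → ∃ r < 7, t * r % 7 = 1) _ (Nat.mod_lt _ (by norm_num)) hm
        obtain ⟨r, -, hr⟩ := this
        exact ⟨r, by rw [Nat.mul_mod, Nat.mod_mod] at hr; rw [Nat.mul_mod, hr]⟩
      have h3 : (n ^ ((k.2 : ℕ) + 7 - l.2)) ^ r = n ^ 1 := by
        rw [← pow_mul, pow_eq_pow hexp hn1, hr]
      rw [← pow_one n, ← h3]
      exact pow_mem h1 r
    rw [h2] at e
    have h3 := (pow_eq_pow hexp hf).mp (mul_right_cancel e)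
    exact Prod.ext (Fin.ext (by omega)) (Fin.ext h2)
  obtain ⟨k, hk⟩ := (Nat.bijective_iff_injective_and_card _).mpr ⟨hinj, by simp [hV]⟩ |>.2 x
  exact ⟨_, _, hk.symm⟩

variable {Γ : Type u} [Group Γ] {act : Γ →* MulAut V}

theorem act_mul_apply (g g' : Γ) (x : V) : act (g * g') x = act g (act g' x) := by
  rw [map_mul]; rfl

/-- The stabiliser of a vector. -/
def stab (act : Γ →* MulAut V) (x : V) : Subgroup Γ where
  carrier := {z | act z x = x}
  mul_mem' {a b} ha hb := by
    show act (a * b) x = x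
    rw [act_mul_apply, show act b x = x from hb]; exact ha
  one_mem' := by show act 1 x = x; rw [map_one]; rfl
  inv_mem' {a} ha := by
    show act a⁻¹ x = x
    conv_lhs => rw [← show act a x = x from ha]
    rw [← act_mul_apply, inv_mul_cancel, map_one]; rfl

/-- The element that negates everything is missing. -/
theorem not_neg (hexp : ∀ x : V, x ^ 7 = 1) {v : V} (hv : v ≠ 1)
    (hline : ∀ (g : Γ) (i : ℕ), act g v = v ^ i → act g v = v) (g : Γ) : act g v ≠ v⁻¹ := fun e => by
  have h6 : v⁻¹ = v ^ 6 := inv_eq_of_mul_eq_one_right (by rw [← pow_succ', hexp])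
  exact hv (eq_one_of_inv hexp ((hline g 6 (e.trans h6)).symm.trans e))

variable [Finite V]

theorem two_part (hinj : Function.Injective act) (hcomm : ∀ x y : V, x * y = y * x) (hV : Nat.card V = 49)
    (hexp : ∀ x : V, x ^ 7 = 1) {v : V} (hv : v ≠ 1)
    (hline : ∀ (g : Γ) (i : ℕ), act g v = v ^ i → act g v = v) {i : Γ} (hi : i ^ 2 = 1) (hi1 : i ≠ 1) :
    (∀ c : Γ, c ^ 2 ≠ i) ∧ ∀ j : Γ, j ^ 2 = 1 → Commute i j → j = 1 ∨ j = i := by
  have hi2 : ∀ x : V, act i (act i x) = x := fun x => by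
    rw [← act_mul_apply, ← pow_two, hi, map_one]; rfl
  obtain ⟨x₀, hx₀⟩ : ∃ x, act i x ≠ x := by
    by_contra hc
    push Not at hc
    exact hi1 (hinj ((MulEquiv.ext hc : act i = 1).trans (map_one act).symm))
  obtain ⟨n, hn1, hn⟩ : ∃ n : V, n ≠ 1 ∧ act i n = n⁻¹ :=
    ⟨x₀ * (act i x₀)⁻¹, fun e => hx₀ (mul_inv_eq_one.mp e).symm, by
      rw [map_mul, map_inv, hi2, mul_inv_rev, inv_inv]⟩
  obtain ⟨f, hf1, hf⟩ : ∃ f : V, f ≠ 1 ∧ act i f = f :=
    ⟨v * act i v, fun e => not_neg hexp hv hline i (inv_eq_of_mul_eq_one_right e).symm, by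
      rw [map_mul, hi2, hcomm]⟩
  have hnf : n ∉ Subgroup.zpowers f := fun hm => by
    obtain ⟨k, rfl⟩ := Subgroup.mem_zpowers_iff.mp hm
    rw [map_zpow, hf] at hn
    exact hn1 (eq_one_of_inv hexp hn)
  have hext : ∀ g g' : Γ, act g f = act g' f → act g n = act g' n → g = g' := fun g g' ef en =>
    hinj (MulEquiv.ext fun x => by
      obtain ⟨a, b, rfl⟩ := span hV hexp hf1 hnf x
      rw [map_mul, map_mul, map_pow, map_pow, map_pow, map_pow, ef, en])
  have hfix : ∀ x, act i x = x → ∃ a : ℕ, x = f ^ a := fun x hx => by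
    obtain ⟨a, b, rfl⟩ := span hV hexp hf1 hnf x
    rw [map_mul, map_pow, map_pow, hf, hn, inv_pow] at hx
    exact ⟨a, by rw [eq_one_of_inv hexp (mul_left_cancel hx).symm, mul_one]⟩
  have hneg : ∀ x, act i x = x⁻¹ → ∃ b : ℕ, x = n ^ b := fun x hx => by
    obtain ⟨a, b, rfl⟩ := span hV hexp hf1 hnf x
    rw [map_mul, map_pow, map_pow, hf, hn, inv_pow, mul_inv_rev, hcomm] at hx
    exact ⟨b, by rw [eq_one_of_inv hexp (mul_left_cancel hx), one_mul]⟩
  refine ⟨fun c hc => ?_, fun j hj hij => ?_⟩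
  · have hci : i * c = c * i := by rw [← hc, ← pow_succ, ← pow_succ']
    obtain ⟨b, hb⟩ := hneg (act c n) (by rw [← act_mul_apply, hci, act_mul_apply, hn, map_inv])
    have h2 : act i n = n ^ (b * b) := by rw [← hc, pow_two, act_mul_apply, hb, map_pow, hb, ← pow_mul]
    rw [hn, inv_eq_of_mul_eq_one_right (show n * n ^ 6 = 1 by rw [← pow_succ', hexp]), pow_eq_pow hexp hn1,
      Nat.mul_mod] at h2
    exact (by decide : ∀ t < 7, (6 : ℕ) % 7 ≠ t * t % 7) _ (Nat.mod_lt b (by norm_num)) h2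
  have hj2 : ∀ x : V, act j (act j x) = x := fun x => by
    rw [← act_mul_apply, ← pow_two, hj, map_one]; rfl
  have hpm : ∀ x : V, x ≠ 1 → (∃ a : ℕ, act j x = x ^ a) → act j x = x ∨ act j x = x⁻¹ := by
    rintro x hx ⟨a, ha⟩
    have h2 := hj2 x
    rw [ha, map_pow, ha, ← pow_mul] at h2
    have h3 := (pow_eq_pow hexp hx).mp (h2.trans (pow_one x).symm)
    rw [Nat.mul_mod] at h3
    rcases (by decide : ∀ t < 7, t * t % 7 = 1 % 7 → t = 1 ∨ t = 6) _ (Nat.mod_lt a (by norm_num)) h3 with h4 | h4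
    · exact Or.inl (by rw [ha]; exact ((pow_eq_pow hexp hx (b := 1)).mpr (by omega)).trans (pow_one x))
    · refine Or.inr ?_
      rw [ha, (pow_eq_pow hexp hx (b := 6)).mpr (by omega)]
      exact (inv_eq_of_mul_eq_one_right (by rw [← pow_succ', hexp])).symm
  have hjf := hpm f hf1 (hfix _ (by rw [← act_mul_apply, hij.eq, act_mul_apply, hf]))
  have hjn := hpm n hn1 (hneg _ (by rw [← act_mul_apply, hij.eq, act_mul_apply, hn, map_inv]))
  rcases hjf with hjf | hjf <;> rcases hjn with hjn | hjn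
  · exact Or.inl (hext _ _ (by rw [hjf, map_one]; rfl) (by rw [hjn, map_one]; rfl))
  · exact Or.inr (hext _ _ (by rw [hjf, hf]) (by rw [hjn, hn]))
  · exfalso
    obtain ⟨a, b, hab⟩ := span hV hexp hf1 hnf v
    refine not_neg hexp hv hline (i * j) ?_
    rw [hab, map_mul, map_pow, map_pow, act_mul_apply, act_mul_apply, hjf, hjn, map_inv, hf, hn, inv_pow, inv_pow,
      mul_inv_rev, hcomm]
  · exfalso
    obtain ⟨a, b, hab⟩ := span hV hexp hf1 hnf v
    refine not_neg hexp hv hline j ?_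
    rw [hab, map_mul, map_pow, map_pow, hjf, hjn, inv_pow, inv_pow, mul_inv_rev, hcomm]

end PlaneSeven

open PlaneSeven in
/-- The plane lemma for `r = 7`. -/
theorem plane {Γ : Type u} [Group Γ] [Finite Γ] {V : Type v} [Group V] (hfree : ¬ Involves (Equiv.Perm (Fin 3)) Γ)
    (act : Γ →* MulAut V) (hinj : Function.Injective act) (hV : Nat.card V = 49) (hexp : ∀ x : V, x ^ 7 = 1)
    {v : V} (hv : v ≠ 1) (hline : ∀ (g : Γ) (i : ℕ), act g v = v ^ i → act g v = v) {h : Γ} (h3 : orderOf h = 3)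
    (hhv : act h v = v) (hst : ∀ g : Γ, act g v = v → g ∈ Subgroup.zpowers h) :
    (∀ P Q : Sylow 7 Γ, P = Q) ∧ ∃ W : Subgroup V, Nat.card W = 7 ∧ v ∉ W ∧
      (∀ g : Γ, W.map (act g).toMonoidHom = W) ∧ ∀ g : Γ, act g v * v⁻¹ ∈ W := by
  classical
  haveI : Fact (Nat.Prime 7) := ⟨by norm_num⟩
  haveI : Fact (Nat.Prime 3) := ⟨Nat.prime_three⟩
  haveI : Fact (Nat.Prime 2) := ⟨Nat.prime_two⟩
  haveI : Finite V := Nat.finite_of_card_ne_zero (by rw [hV]; norm_num)
  have hcomm : ∀ x y : V, x * y = y * x :=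
    IsPGroup.commutative_of_card_eq_prime_sq (p := 7) (by rw [hV]; norm_num)
  have h1 : h ≠ 1 := fun e => by rw [e, orderOf_one] at h3; norm_num at h3
  -- the orbit of `v` meets a line at most once
  set H := Subgroup.zpowers h with hH
  have hH3 : Nat.card H = 3 := by rw [hH, Nat.card_zpowers, h3]
  have hHv : ∀ g ∈ H, act g v = v := fun g hg =>
    (Subgroup.zpowers_le.mpr (show h ∈ stab act v from hhv)) hg
  let F : Γ ⧸ H → V := fun q => act q.out v
  have hq : ∀ (q : Γ ⧸ H) (q' : Γ ⧸ H) (i : ℕ), F q = F q' ^ i → q = q' := by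
    intro q q' i e
    have h2 : act (q'.out⁻¹ * q.out) v = v ^ i := by
      rw [act_mul_apply, show act q.out v = _ from e, ← map_pow (act q'.out), ← act_mul_apply, inv_mul_cancel, map_one]; rfl
    have h4 := hst _ (hline _ i h2)
    rw [← QuotientGroup.out_eq' q, ← QuotientGroup.out_eq' q']
    exact (QuotientGroup.eq.mpr h4).symm
  have hF1 : ∀ q, F q ≠ 1 := fun q e => hv ((act q.out).injective (e.trans (map_one _).symm))
  have hidx : Nat.card (Γ ⧸ H) ≤ 8 := by
    have hle := Nat.card_le_card_of_injective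
      (fun k : (Γ ⧸ H) × Fin 6 => (⟨F k.1 ^ ((k.2 : ℕ) + 1), fun e => by
        rw [pow_eq_one_iff hexp (hF1 k.1)] at e; omega⟩ : {x : V // x ≠ 1}))
      (fun k l e => by
        have e' : F k.1 ^ ((k.2 : ℕ) + 1) = F l.1 ^ ((l.2 : ℕ) + 1) := congrArg Subtype.val e
        obtain ⟨r, hr⟩ : ∃ r, ((k.2 : ℕ) + 1) * r % 7 = 1 := by
          obtain ⟨r, -, hr⟩ := (by decide : ∀ t < 7, t ≠ 0 → ∃ r < 7, t * r % 7 = 1) ((k.2 : ℕ) + 1) (by omega) (by omega)
          exact ⟨r, hr⟩
        have hkl : k.1 = l.1 := hq k.1 l.1 (((l.2 : ℕ) + 1) * r) (by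
          rw [pow_mul, ← e', ← pow_mul, (pow_eq_pow hexp (hF1 k.1) (b := 1)).mpr (by omega), pow_one])
        rw [hkl] at e'
        have := (pow_eq_pow hexp (hF1 l.1)).mp e'
        exact Prod.ext hkl (Fin.ext (by omega)))
    have h48 : Nat.card {x : V // x ≠ 1} = 48 := by
      haveI := Fintype.ofFinite V
      rw [Nat.card_eq_fintype_card, Fintype.card_subtype_compl, Fintype.card_subtype_eq, ← Nat.card_eq_fintype_card, hV]
    rw [h48, Nat.card_prod, Nat.card_eq_fintype_card (α := Fin 6), Fintype.card_fin] at hle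
    omega
  have hcard : Nat.card Γ = Nat.card (Γ ⧸ H) * 3 := by
    rw [H.card_eq_card_quotient_mul_card_subgroup, hH3]
  set m := Nat.card (Γ ⧸ H) with hm
  have hm0 : 0 < m := Nat.card_pos
  -- the Sylow two-subgroup
  have h4 : ¬ 4 ∣ Nat.card Γ := by
    intro hd
    obtain ⟨K, hK⟩ := Sylow.exists_subgroup_card_pow_prime 2 (n := 2) (G := Γ) (by norm_num; exact hd)
    have hsq : ∀ x ∈ K, x ^ 2 = 1 := fun x hx => by
      have h4' : x ^ 4 = 1 := orderOf_dvd_iff_pow_eq_one.mp
        ((Subgroup.orderOf_dvd_natCard K hx).trans (by rw [hK]; norm_num))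
      by_contra hne
      exact (two_part hinj hcomm hV hexp hv hline (i := x ^ 2) (by rw [← pow_mul]; exact h4') hne).1 x rfl
    obtain ⟨x, hx, hx1⟩ : ∃ x ∈ K, x ≠ 1 := K.ne_bot_iff_exists_ne_one.mp (fun e => by
      rw [e, Subgroup.card_bot] at hK; norm_num at hK) |>.elim fun a ha => ⟨a, a.2, fun e => ha (Subtype.ext e)⟩
    have hall : ∀ y ∈ K, y = 1 ∨ y = x := fun y hy =>
      (two_part hinj hcomm hV hexp hv hline (hsq x hx) hx1).2 y (hsq y hy) (by
        have e1 := hsq _ (mul_mem hx hy)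
        have ex : x⁻¹ = x := inv_eq_of_mul_eq_one_right (by rw [← pow_two, hsq x hx])
        have ey : y⁻¹ = y := inv_eq_of_mul_eq_one_right (by rw [← pow_two, hsq y hy])
        have exy : (x * y)⁻¹ = x * y := inv_eq_of_mul_eq_one_right (by rw [← pow_two, e1])
        rw [mul_inv_rev, ex, ey] at exy
        exact exy.symm)
    have hKs : (K : Set Γ) ⊆ {1, x} := fun y hy => hall y hy
    have := Nat.card_mono (Set.toFinite _) hKs
    rw [Nat.card_coe_set_eq, Nat.card_coe_set_eq, Set.ncard_pair (Ne.symm hx1)] at this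
    rw [← Nat.card_coe_set_eq] at this
    erw [hK] at this
    norm_num at this
  rw [hcard] at h4
  -- the fixed points of `h`
  let φ : V →* V :=
    { toFun := fun x => act h x * x⁻¹
      map_one' := by simp
      map_mul' := fun x y => by
        rw [map_mul, mul_inv_rev, hcomm y⁻¹ x⁻¹, mul_assoc, ← mul_assoc (act h y), hcomm (act h y) x⁻¹, mul_assoc,
          ← mul_assoc] }
  have hφ : ∀ x, φ x = act h x * x⁻¹ := fun x => rfl
  have hker : φ.ker = Subgroup.zpowers v ∧ Nat.card φ.range = 7 := by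
    have hle : Subgroup.zpowers v ≤ φ.ker := Subgroup.zpowers_le.mpr (by
      rw [MonoidHom.mem_ker, hφ, hhv, mul_inv_cancel])
    have hd : Nat.card φ.ker ∣ 7 ^ 2 := by
      rw [show (7 : ℕ) ^ 2 = Nat.card V by rw [hV]; norm_num]; exact Subgroup.card_subgroup_dvd_card _
    obtain ⟨k, hk, hk'⟩ := (Nat.dvd_prime_pow (by norm_num)).mp hd
    have hv7 : Nat.card (Subgroup.zpowers v) = 7 := by rw [Nat.card_zpowers, orderOf_seven hexp hv]
    have h7 : 7 ≤ Nat.card φ.ker := hv7 ▸ Subgroup.card_le_of_le hle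
    have hne : φ.ker ≠ ⊤ := fun e => h1 (hinj ((MulEquiv.ext fun x => by
      have : φ x = 1 := MonoidHom.mem_ker.mp (e ▸ Subgroup.mem_top x)
      exact mul_inv_eq_one.mp this : act h = 1).trans (map_one act).symm))
    have h49 : Nat.card φ.ker ≠ 49 := fun e => hne (Subgroup.eq_top_of_card_eq _ (e.trans hV.symm))
    have hker7 : Nat.card φ.ker = 7 := by interval_cases k <;> simp_all
    refine ⟨(Subgroup.eq_of_le_of_card_ge hle (by rw [hv7, hker7])).symm, ?_⟩
    have := φ.ker.card_eq_card_quotient_mul_card_subgroup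
    rw [hker7, hV, Nat.card_congr (QuotientGroup.quotientKerEquivRange φ).toEquiv] at this
    omega
  rcases (show m = 7 ∨ m ≠ 7 from em _) with hm7 | hm7
  · -- a normal Sylow seven-subgroup
    have h21 : Nat.card Γ = 21 := by rw [hcard, hm7]
    have hP7 : ∀ P : Sylow 7 Γ, Nat.card P = 7 := fun P => by
      rw [P.card_eq_multiplicity, h21, show (21 : ℕ) = 3 * 7 from rfl,
        Nat.factorization_mul (by norm_num) (by norm_num), Finsupp.add_apply,
        Nat.Prime.factorization_self (by norm_num), Nat.factorization_eq_zero_of_not_dvd (by norm_num)]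
      norm_num
    have huniq : Nat.card (Sylow 7 Γ) = 1 := by
      obtain ⟨P⟩ := (inferInstance : Nonempty (Sylow 7 Γ))
      have h1' := card_sylow_modEq_one 7 Γ
      have h2' : Nat.card (Sylow 7 Γ) ∣ 3 := by
        have h3' := P.card_dvd_index
        have h4' := (P : Subgroup Γ).card_mul_index
        rw [hP7 P, h21] at h4'
        have h5' : (P : Subgroup Γ).index = 3 := by omega
        rwa [h5'] at h3'
      rcases (Nat.dvd_prime Nat.prime_three).mp h2' with e | e
      · exact e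
      · rw [e] at h1'; exact absurd h1' (by decide)
    have hall : ∀ P Q : Sylow 7 Γ, P = Q := (Nat.card_eq_one_iff_unique.mp huniq).1.elim
    refine ⟨hall, ?_⟩
    obtain ⟨p, hp⟩ := exists_prime_orderOf_dvd_card' (G := Γ) 7 (by rw [h21]; norm_num)
    set P := Subgroup.zpowers p with hP
    have hPc : Nat.card P = 7 := by rw [hP, Nat.card_zpowers, hp]
    obtain ⟨S₀, hS₀⟩ := (IsPGroup.of_card (p := 7) (n := 1) (G := P) (by rw [hPc, pow_one])).exists_le_sylow
    have hS : (S₀ : Subgroup Γ) = P := (Subgroup.eq_of_le_of_card_ge hS₀ (by rw [hPc]; exact (hP7 S₀).le)).symm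
    have hPn : ∀ g : Γ, g⁻¹ * p * g ∈ P := fun g => by
      have := hall (g⁻¹ • S₀) S₀
      rw [← hS, ← this, Sylow.coe_subgroup_smul]
      have h' := Subgroup.smul_mem_pointwise_smul p (MulAut.conj g⁻¹) _ (hS ▸ Subgroup.mem_zpowers p : p ∈ (S₀ : Subgroup Γ))
      simpa using h'
    let W : Subgroup V := (act p).toMonoidHom.eqLocus (MonoidHom.id V)
    have hW : ∀ x, x ∈ W ↔ act p x = x := fun x => Iff.rfl
    have hPW : ∀ x ∈ W, ∀ y ∈ P, act y x = x := fun x hx y hy =>
      (Subgroup.zpowers_le.mpr (show p ∈ stab act x from (hW x).mp hx)) hy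
    have hWinv : ∀ (g : Γ) (x : V), x ∈ W → act g x ∈ W := fun g x hx => by
      rw [hW, ← act_mul_apply, show p * g = g * (g⁻¹ * p * g) by group, act_mul_apply, hPW x hx _ (hPn g)]
    have hvW : v ∉ W := fun hx => by
      have := Subgroup.orderOf_dvd_natCard H (hst p hx)
      rw [hp, hH3] at this
      norm_num at this
    have hW7 : Nat.card W = 7 := by
      have hd : Nat.card W ∣ 7 ^ 2 := by
        rw [show (7 : ℕ) ^ 2 = Nat.card V by rw [hV]; norm_num]; exact Subgroup.card_subgroup_dvd_card _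
      obtain ⟨k, hk, hk'⟩ := (Nat.dvd_prime_pow (by norm_num)).mp hd
      have h49 : Nat.card W ≠ 49 := fun e =>
        hvW (Subgroup.eq_top_of_card_eq _ (e.trans hV.symm) ▸ Subgroup.mem_top v)
      have hne : Nat.card W ≠ 1 := by
        letI : MulAction P V := MulAction.compHom V ((act.comp P.subtype))
        obtain ⟨b, hb, hb1⟩ := (IsPGroup.of_card (p := 7) (n := 1) (G := P)
          (by rw [hPc, pow_one])).exists_fixed_point_of_prime_dvd_card_of_fixed_point V (by rw [hV]; norm_num)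
          (a := (1 : V)) (fun y => map_one (act (y : Γ)))
        intro e
        exact hb1 (Subgroup.mem_bot.mp ((Subgroup.eq_bot_of_card_eq W e) ▸
          (show b ∈ W from hb ⟨p, Subgroup.mem_zpowers p⟩))).symm
      interval_cases k
      · exact absurd (hk'.trans (pow_zero 7)) hne
      · exact hk'.trans (pow_one 7)
      · exact absurd hk' h49
    refine ⟨W, hW7, hvW, fun g => ?_, fun g => ?_⟩
    · refine Subgroup.eq_of_le_of_card_ge ?_ ?_
      · rintro _ ⟨x, hx, rfl⟩; exact hWinv g x hx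
      · rw [Nat.card_congr ((W.equivMapOfInjective _ (act g).injective).symm.toEquiv)]
    let K : Subgroup Γ :=
      { carrier := {z | act z v * v⁻¹ ∈ W}
        mul_mem' := fun {a b} ha hb => by
          show act (a * b) v * v⁻¹ ∈ W
          have e : act (a * b) v * v⁻¹ = act a (act b v * v⁻¹) * (act a v * v⁻¹) := by
            rw [act_mul_apply, map_mul, map_inv, ← mul_assoc, inv_mul_cancel_right]
          rw [e]; exact mul_mem (hWinv a _ hb) ha
        one_mem' := by show act 1 v * v⁻¹ ∈ W; rw [map_one]; simp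
        inv_mem' := fun {a} ha => by
          show act a⁻¹ v * v⁻¹ ∈ W
          have e : act a⁻¹ v * v⁻¹ = act a⁻¹ (act a v * v⁻¹)⁻¹ := by
            rw [mul_inv_rev, inv_inv, map_mul (act a⁻¹), map_inv (act a⁻¹), ← act_mul_apply, inv_mul_cancel, map_one act,
              MulAut.one_apply]
          rw [e]; exact hWinv _ _ (inv_mem ha) }
    have hhK : h ∈ K := by show act h v * v⁻¹ ∈ W; rw [hhv, mul_inv_cancel]; exact one_mem _
    have hpK : p ∈ K := by
      obtain ⟨w, hw, hw1⟩ : ∃ w ∈ W, w ≠ 1 := W.ne_bot_iff_exists_ne_one.mp (fun e => by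
        rw [e, Subgroup.card_bot] at hW7; norm_num at hW7) |>.elim fun a ha => ⟨a, a.2, fun e => ha (Subtype.ext e)⟩
      have hWz : W = Subgroup.zpowers w := (Subgroup.eq_of_le_of_card_ge (Subgroup.zpowers_le.mpr hw)
        (by rw [Nat.card_zpowers, orderOf_seven hexp hw1, hW7])).symm
      obtain ⟨a, c, hc⟩ := span hV hexp hw1 (hWz ▸ hvW) (act p v)
      have hk : ∀ k : ℕ, act (p ^ k) v * (v ^ (c ^ k))⁻¹ ∈ W := by
        intro k
        induction k with
        | zero => simp
        | succ k ih =>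
          have e : act (p ^ (k + 1)) v * (v ^ (c ^ (k + 1)))⁻¹ =
              (w ^ a) ^ (c ^ k) * act p (act (p ^ k) v * (v ^ (c ^ k))⁻¹) := by
            rw [pow_succ' p, act_mul_apply, map_mul (act p), map_inv (act p), map_pow (act p), hc, (Commute.mul_pow (hcomm _ _) _),
              ← pow_mul v, ← pow_succ', mul_inv_rev, hcomm ((w ^ a) ^ c ^ k), mul_assoc, mul_assoc,
              inv_mul_cancel, mul_one]
          rw [e]
          exact mul_mem (pow_mem (pow_mem hw _) _) (hWinv p _ ih)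
      have h7 := hk 7
      rw [orderOf_dvd_iff_pow_eq_one.mp hp.dvd, map_one] at h7
      have hc1 : c ^ 7 % 7 = 1 := by
        by_contra hne
        refine hvW ?_
        obtain ⟨r, hr⟩ : ∃ r, (c ^ 7 + 6) * r % 7 = 1 := by
          obtain ⟨r, -, hr⟩ := (by decide : ∀ t < 7, t ≠ 0 → ∃ r < 7, t * r % 7 = 1) ((c ^ 7 + 6) % 7)
            (Nat.mod_lt _ (by norm_num)) (by omega)
          exact ⟨r, by rw [Nat.mul_mod, Nat.mod_mod] at hr; rw [Nat.mul_mod]; exact hr⟩
        have h8 : v ^ (c ^ 7 + 6) ∈ W := by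
          rw [pow_add, ← inv_eq_of_mul_eq_one_right (show v * v ^ 6 = 1 by rw [← pow_succ', hexp])]
          have := inv_mem h7
          rwa [mul_inv_rev, inv_inv] at this
        have h9 := pow_mem h8 r
        rwa [← pow_mul, (pow_eq_pow hexp hv (b := 1)).mpr (by omega), pow_one] at h9
      have hc2 : c % 7 = 1 := by
        rw [Nat.pow_mod] at hc1
        exact (by decide : ∀ t < 7, t ^ 7 % 7 = 1 → t = 1) _ (Nat.mod_lt c (by norm_num)) hc1
      show act p v * v⁻¹ ∈ W
      rw [hc, (pow_eq_pow hexp hv (b := 1)).mpr (by omega), pow_one, mul_inv_cancel_right]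
      exact pow_mem hw a
    have hK : K = ⊤ := by
      refine Subgroup.eq_top_of_card_eq _ (Nat.dvd_antisymm (Subgroup.card_subgroup_dvd_card K) ?_)
      rw [h21, show (21 : ℕ) = 3 * 7 from rfl]
      exact Nat.Coprime.mul_dvd_of_dvd_of_dvd (by norm_num) (h3 ▸ Subgroup.orderOf_dvd_natCard K hhK)
        (hp ▸ Subgroup.orderOf_dvd_natCard K hpK)
    exact (show g ∈ K from hK ▸ Subgroup.mem_top g)
  -- otherwise `⟨h⟩` is the whole group
  have h18 : Nat.card Γ = 18 → H.Normal := by
    intro hc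
    obtain ⟨i, hi⟩ := exists_prime_orderOf_dvd_card' (G := Γ) 2 (by rw [hc]; norm_num)
    obtain ⟨P, hP⟩ := (IsPGroup.of_card (p := 3) (n := 1) (G := H) (by rw [hH3, pow_one])).exists_le_sylow
    have hP9 : Nat.card P = 9 := by
      rw [P.card_eq_multiplicity, hc, show (18 : ℕ) = 2 * 3 ^ 2 from rfl,
        Nat.factorization_mul (by norm_num) (by norm_num), Finsupp.add_apply, Nat.Prime.factorization_pow (by norm_num),
        Nat.factorization_eq_zero_of_not_dvd (by norm_num)]
      simp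
    have hPi : (P : Subgroup Γ).index = 2 := by
      have := (P : Subgroup Γ).card_mul_index
      rw [hP9, hc] at this; omega
    haveI := Subgroup.normal_of_index_eq_two hPi
    have hci := two_centralizes_three hfree (x := i) (j := 1) (by rw [hi, pow_one]) (P := (P : Subgroup Γ))
      P.isPGroup' (by rw [Subgroup.normalizer_eq_top]; exact Subgroup.mem_top i)
    have hPab : ∀ x ∈ (P : Subgroup Γ), x * h = h * x := fun x hx => congrArg Subtype.val
      (IsPGroup.commutative_of_card_eq_prime_sq (p := 3) (G := (P : Subgroup Γ)) (by rw [hP9]; norm_num)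
        ⟨x, hx⟩ ⟨h, hP (Subgroup.mem_zpowers h)⟩)
    have htop : Subgroup.centralizer ({h} : Set Γ) = ⊤ := by
      refine Subgroup.eq_top_of_card_eq _ (Nat.dvd_antisymm (Subgroup.card_subgroup_dvd_card _) ?_)
      rw [hc, show (18 : ℕ) = 9 * 2 from rfl]
      refine Nat.Coprime.mul_dvd_of_dvd_of_dvd (by norm_num) ?_ ?_
      · exact hP9 ▸ Subgroup.card_dvd_of_le fun x hx =>
          Subgroup.mem_centralizer_singleton_iff.mpr (hPab x hx)
      · exact hi ▸ Subgroup.orderOf_dvd_natCard _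
          (Subgroup.mem_centralizer_singleton_iff.mpr (hci h (hP (Subgroup.mem_zpowers h))).symm)
    exact ⟨fun y hy g => by
      obtain ⟨k, rfl⟩ := Subgroup.mem_zpowers_iff.mp hy
      have hg : Commute g h := Subgroup.mem_centralizer_singleton_iff.mp (htop ▸ Subgroup.mem_top g)
      rw [(hg.zpow_right k).eq, mul_inv_cancel_right]
      exact Subgroup.zpow_mem_zpowers h k⟩
  have hHn : H.Normal := by
    have hm' : m = 1 ∨ m = 2 ∨ m = 3 ∨ m = 5 ∨ m = 6 := by omega
    rcases hm' with e | e | e | e | e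
    · have : H = ⊤ := Subgroup.eq_top_of_card_eq _ (by rw [hH3, hcard, e])
      rw [this]; infer_instance
    · exact Subgroup.normal_of_index_eq_two (by rw [Subgroup.index_eq_card, ← hm, e])
    · refine ⟨fun y hy g => ?_⟩
      rw [IsPGroup.commutative_of_card_eq_prime_sq (p := 3) (by rw [hcard, e]; norm_num) g y, mul_inv_cancel_right]
      exact hy
    · obtain ⟨P, hP⟩ := (IsPGroup.of_card (p := 3) (n := 1) (G := H) (by rw [hH3, pow_one])).exists_le_sylow
      have hPc : Nat.card P = 3 := by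
        rw [P.card_eq_multiplicity, hcard, e, Nat.factorization_mul (by norm_num) (by norm_num), Finsupp.add_apply,
          Nat.Prime.factorization_self Nat.prime_three, Nat.factorization_eq_zero_of_not_dvd (by norm_num)]
        norm_num
      have hHP : H = P := Subgroup.eq_of_le_of_card_ge hP (by rw [hH3]; exact hPc.le)
      have h1' : Nat.card (Sylow 3 Γ) = 1 := by
        have h2' := card_sylow_modEq_one 3 Γ
        have h3' := P.card_dvd_index
        have h4' := (P : Subgroup Γ).card_mul_index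
        rw [hPc, hcard, e] at h4'
        have h5' : (P : Subgroup Γ).index = 5 := by omega
        rw [h5'] at h3'
        rcases (Nat.dvd_prime (by norm_num)).mp h3' with q | q
        · exact q
        · rw [q] at h2'; exact absurd h2' (by decide)
      haveI : Subsingleton (Sylow 3 Γ) := (Nat.card_eq_one_iff_unique.mp h1').1
      rw [hHP]; exact Sylow.normal_of_subsingleton (P := P)
    · exact h18 (by rw [hcard, e])
  have hall : ∀ g : Γ, g ∈ H := fun g => by
    refine hst g ?_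
    have hf : act g v ∈ φ.ker := by
      rw [MonoidHom.mem_ker, hφ, ← act_mul_apply, show h * g = g * (g⁻¹ * h * g) by group, act_mul_apply,
        hHv _ (by simpa using hHn.conj_mem h (Subgroup.mem_zpowers h) g⁻¹), mul_inv_cancel]
    rw [hker.1] at hf
    obtain ⟨i, hi⟩ := mem_powers_iff_mem_zpowers.mpr hf
    exact hline g i hi.symm
  have hΓ : Nat.card Γ = 3 := by
    rw [← hH3, show H = ⊤ from eq_top_iff.mpr fun g _ => hall g, Subgroup.card_top]
  refine ⟨fun P Q => ?_, φ.range, hker.2, ?_, fun g => ?_, fun g => ?_⟩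
  · have hbot : ∀ R : Sylow 7 Γ, (R : Subgroup Γ) = ⊥ := fun R => by
      refine Subgroup.eq_bot_of_card_eq _ ?_
      rw [R.card_eq_multiplicity, hΓ, Nat.factorization_eq_zero_of_not_dvd (by norm_num), pow_zero]
    exact Sylow.ext ((hbot P).trans (hbot Q).symm)
  · rintro ⟨y, hy⟩
    rw [hφ, mul_inv_eq_iff_eq_mul] at hy
    have h3y : act (h ^ 3) y = v ^ 3 * y := by
      rw [pow_succ, pow_succ, pow_one, act_mul_apply, act_mul_apply, hy, map_mul, hhv, hy, map_mul, map_mul, hhv, hy,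
        pow_succ, pow_succ, pow_one, mul_assoc, mul_assoc]
    rw [orderOf_dvd_iff_pow_eq_one.mp h3.dvd, map_one] at h3y
    have := (pow_eq_one_iff hexp hv).mp (mul_eq_right.mp (show v ^ 3 * y = y from h3y.symm))
    norm_num at this
  · refine Subgroup.eq_of_le_of_card_ge ?_ ?_
    · rintro _ ⟨_, ⟨x, rfl⟩, rfl⟩
      refine ⟨act g x, ?_⟩
      obtain ⟨k, rfl⟩ := Subgroup.mem_zpowers_iff.mp (hall g)
      show act h (act (h ^ k) x) * (act (h ^ k) x)⁻¹ = act (h ^ k) (act h x * x⁻¹)
      rw [map_mul, map_inv, ← act_mul_apply, ← act_mul_apply, (Commute.refl h).zpow_right k |>.eq]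
    · rw [Nat.card_congr ((φ.range.equivMapOfInjective _ (act g).injective).symm.toEquiv)]
  · rw [hHv g (hall g), mul_inv_cancel]; exact one_mem _

end CfsgLib.S3Simple
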