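import Cfsg.Agent.Lib.S3Simple.Local
import Cfsg.Agent.Lib.Qd
import Cfsg.Agent.Lib.GoldschmidtS3.Basic
import Cfsg.Agent.Lib.StrongFusion.Functors

/-!
A group without a section `S₃` has none isomorphic to `Qd(p)` for odd `p`; so `ZJ` controls strong fusion.

Blueprint: `blueprint/S3Free.md`, 0 (b).
-/

set_option autoImplicit false
set_option linter.unusedSectionVars false
set_option linter.style.haveILetI false

namespace CfsgLib.S3Simple

open Cfsg Polynomial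

universe u

variable {p : ℕ} [Fact p.Prime]

theorem qd_involves_three (hp2 : p ≠ 2) (hp3 : p ≠ 3) : Involves (Equiv.Perm (Fin 3)) ↥(Cfsg.qd p) := by
  have hp : p.Prime := Fact.out
  have h2 : (2 : ZMod p) ≠ 0 := fun h => by
    have := (ZMod.natCast_eq_zero_iff 2 p).mp (by exact_mod_cast h)
    exact hp2 ((Nat.prime_dvd_prime_iff_eq hp Nat.prime_two).mp this)
  have h3 : (3 : ZMod p) ≠ 0 := fun h => by
    have := (ZMod.natCast_eq_zero_iff 3 p).mp (by exact_mod_cast h)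
    exact hp3 ((Nat.prime_dvd_prime_iff_eq hp Nat.prime_three).mp this)
  obtain ⟨u, v, huv⟩ := FiniteField.exists_root_sum_quadratic (f := (X ^ 2 : (ZMod p)[X]))
    (g := C 3 * X ^ 2 + C 4) (by simp) (by compute_degree!) (by
      rw [ZMod.card]; exact (Nat.odd_iff.mp (hp.odd_of_ne_two hp2)))
  simp only [eval_pow, eval_X, eval_add, eval_mul, eval_C] at huv
  set a := (u - v) / 2 with ha
  set b := v
  have hab : a * a + a * b + b * b = -1 := by
    rw [ha]
    field_simp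
    linear_combination huv
  refine GoldschmidtS3.involves_perm3_iff.mpr ⟨CfsgLib.Qd.el a b (a + b) (-a) 0 0 (by linear_combination -hab),
    CfsgLib.Qd.el 0 (-1) 1 (-1) 0 0 (by ring), ?_, ?_, ?_, ?_⟩
  · refine Exists.elim ((Nat.dvd_prime_pow Nat.prime_two).mp (orderOf_dvd_of_pow_eq_one (n := 2 ^ 2) ?_))
      fun k hk => ⟨k, hk.2⟩
    rw [show (2 : ℕ) ^ 2 = 2 + 2 from rfl, pow_add, pow_two, CfsgLib.Qd.el_mul, CfsgLib.Qd.el_mul, CfsgLib.Qd.el_one]
    apply CfsgLib.Qd.el_congr <;>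
      first | ring1 | linear_combination (a * a + a * b + b * b - 1) * hab
  · refine Exists.elim ((Nat.dvd_prime_pow Nat.prime_three).mp (orderOf_dvd_of_pow_eq_one (n := 3 ^ 1) ?_))
      fun k hk => ⟨k, hk.2⟩
    rw [pow_one, pow_three, CfsgLib.Qd.el_mul, CfsgLib.Qd.el_mul, CfsgLib.Qd.el_one]
    apply CfsgLib.Qd.el_congr <;> ring
  · intro h
    rw [CfsgLib.Qd.el_one] at h
    have h' := congrArg (fun g : Cfsg.qd p =>
      ((g : Matrix.SpecialLinearGroup (Fin 3) (ZMod p)) : Matrix (Fin 3) (Fin 3) (ZMod p)) 1 0) h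
    simp [CfsgLib.Qd.el, CfsgLib.Qd.mat] at h'
  · rw [mul_inv_eq_iff_eq_mul, eq_inv_mul_iff_mul_eq, CfsgLib.Qd.el_mul, CfsgLib.Qd.el_mul]
    apply CfsgLib.Qd.el_congr <;> ring

/-- For `p = 3` the involution `-1` inverts a translation. -/
theorem qd_three_involves_three : Involves (Equiv.Perm (Fin 3)) ↥(Cfsg.qd 3) := by
  haveI : Fact (Nat.Prime 3) := ⟨Nat.prime_three⟩
  refine GoldschmidtS3.involves_perm3_iff.mpr ⟨CfsgLib.Qd.el (-1) 0 0 (-1) 0 0 (by ring),
    CfsgLib.Qd.tr 1 0, ?_, ?_, ?_, ?_⟩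
  · refine Exists.elim ((Nat.dvd_prime_pow Nat.prime_two).mp (orderOf_dvd_of_pow_eq_one (n := 2 ^ 1) ?_))
      fun k hk => ⟨k, hk.2⟩
    rw [pow_one, pow_two, CfsgLib.Qd.el_mul, CfsgLib.Qd.el_one]
    apply CfsgLib.Qd.el_congr <;> ring
  · refine Exists.elim ((Nat.dvd_prime_pow Nat.prime_three).mp (orderOf_dvd_of_pow_eq_one (n := 3 ^ 1) ?_))
      fun k hk => ⟨k, hk.2⟩
    rw [pow_one, pow_three, CfsgLib.Qd.tr_mul, CfsgLib.Qd.tr_mul, ← CfsgLib.Qd.tr_zero]
    congr 1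
  · intro h
    rw [← CfsgLib.Qd.tr_zero] at h
    exact one_ne_zero (CfsgLib.Qd.tr_injective h).1
  · rw [mul_inv_eq_iff_eq_mul, CfsgLib.Qd.tr_inv, CfsgLib.Qd.tr, CfsgLib.Qd.tr, CfsgLib.Qd.el_mul, CfsgLib.Qd.el_mul]
    apply CfsgLib.Qd.el_congr <;> ring

variable {G : Type u} [Group G] [Finite G]

theorem qd_free (hfree : ¬ Involves (Equiv.Perm (Fin 3)) G) (hp2 : p ≠ 2) : ¬ Involves ↥(Cfsg.qd p) G := by
  rintro ⟨K, R, hn, ⟨f⟩⟩
  refine free_quotient (free_subgroup hfree K) (R.subgroupOf K) (GoldschmidtS3.involves_congr f.symm ?_)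
  by_cases hp3 : p = 3
  · subst hp3
    exact qd_three_involves_three
  · exact qd_involves_three hp2 hp3

/-- `ZJ` of a Sylow `p`-subgroup controls strong fusion in it. -/
theorem zj_controls (hfree : ¬ Involves (Equiv.Perm (Fin 3)) G) (hp2 : p ≠ 2) (T : Sylow p G) (A : Set G)
    (hA : A ⊆ (T : Subgroup G)) :
    ControlsStrongFusionOf (Subgroup.normalizer (centerThompsonAOf (T : Subgroup G) : Set G)) (T : Subgroup G) A := by
  rw [← CfsgLib.StrongFusion.inducedFunctor_zjA]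
  exact CfsgLib.StrongFusion.controlsOf_zj hp2 (qd_free hfree hp2) (Or.inl rfl) T
    ⟨le_rfl, fun x _ g hg => hg⟩ hA

end CfsgLib.S3Simple
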