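import Cfsg.Agent.Lib.S3Simple.Generation
import Cfsg.Agent.Lib.S3Simple.Lift
import Cfsg.Agent.Lib.ClassSizesPSL2.Split

/-!
A reduced group whose Sylow 2-subgroup is elementary abelian of order eight: at most one component `L₂(3^(2n+1))`,
whose centraliser has order two; none if some element normalising the Sylow subgroup is transitive on it.

Blueprint: `blueprint/S3Free.md`, section 5.
-/

set_option autoImplicit false
set_option linter.unusedSectionVars false
set_option linter.style.haveILetI false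

namespace CfsgLib.S3Simple

open Cfsg CfsgLib.Comp CfsgLib.AfterFT.CoreSep

universe u

variable {M : Type u} [Group M] [Finite M]

/-- The standing hypotheses with an elementary abelian Sylow 2-subgroup of order eight. -/
structure Red (T : Sylow 2 M) : Prop where
  ctx : Ctx M
  elem : IsElementaryAbelian 2 (T : Subgroup M)
  card : Nat.card (T : Subgroup M) = 8

/-- The properties of the component. -/
structure RedComp (T : Sylow 2 M) (E : Subgroup M) : Prop where
  comp : IsComponent E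
  normal : E.Normal
  center : Subgroup.center ↥E = ⊥
  unique : ∀ E' : Subgroup M, IsComponent E' → E' = E
  inter : Nat.card ↥((T : Subgroup M) ⊓ E) = 4
  cent : Nat.card (Subgroup.centralizer (E : Set M)) = 2
  model : ∃ (F : Type) (_ : Field F) (_ : Fintype F) (m : ℕ), ReeTori.QData F m ∧
    Nonempty (↥E ≃* Matrix.ProjectiveSpecialLinearGroup (Fin 2) F)

namespace Red

variable {T : Sylow 2 M} (R : Red T)
include R

theorem closed : Closed T (T : Subgroup M) where
  le := le_rfl
  elem := R.elem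
  ne_bot := fun h => by
    have := R.card
    rw [h, Subgroup.card_bot] at this
    omega
  closed := ⟨le_rfl, fun _ _ _ hg => hg⟩

theorem comm {a b : M} (ha : a ∈ (T : Subgroup M)) (hb : b ∈ (T : Subgroup M)) : a * b = b * a :=
  R.closed.comm ha hb

/-- Every 2-subgroup is elementary abelian. -/
theorem two_subgroup {W : Subgroup M} (hW : IsPGroup 2 W) : ∀ u ∈ W, ∀ v ∈ W, u * v = v * u := by
  haveI : Fact (Nat.Prime 2) := ⟨Nat.prime_two⟩
  obtain ⟨Q, hQ⟩ := hW.exists_le_sylow
  obtain ⟨g, hg⟩ := MulAction.exists_smul_eq M T Q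
  intro u hu v hv
  have hmem : ∀ x ∈ W, (MulAut.conj g)⁻¹ • x ∈ (T : Subgroup M) := fun x hx => by
    have := hQ hx
    rwa [← hg, Sylow.coe_subgroup_smul, Subgroup.mem_pointwise_smul_iff_inv_smul_mem] at this
  have h := R.comm (hmem u hu) (hmem v hv)
  rw [← smul_mul', ← smul_mul'] at h
  exact MulAction.injective (MulAut.conj g)⁻¹ h

variable {E : Subgroup M}

theorem quot_four (hE : IsComponent E) :
    3 ∣ Nat.card (↥E ⧸ Subgroup.center ↥E) ∧ ∀ Q : Sylow 2 (↥E ⧸ Subgroup.center ↥E), Nat.card Q = 4 := by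
  haveI : Fact (Nat.Prime 2) := ⟨Nat.prime_two⟩
  haveI := component_isSimple hE
  refine (suzuki_or_three (R.ctx.comp_listed hE)).resolve_left fun hs => ?_
  obtain ⟨P⟩ : Nonempty (Sylow 2 ↥E) := inferInstance
  refine suzuki_sylow hs (P.mapSurjective (QuotientGroup.mk'_surjective _)) ⟨⟨?_⟩⟩
  rintro ⟨_, a, ha, rfl⟩ ⟨_, b, hb, rfl⟩
  refine Subtype.ext ?_
  show QuotientGroup.mk' _ a * QuotientGroup.mk' _ b = QuotientGroup.mk' _ b * QuotientGroup.mk' _ a
  rw [← map_mul, ← map_mul, show a * b = b * a from Subtype.ext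
    (R.two_subgroup (P.2.map E.subtype) a ⟨a, ha, rfl⟩ b ⟨b, hb, rfl⟩)]

theorem center_eq_bot (hE : IsComponent E) : Subgroup.center ↥E = ⊥ := by
  haveI : Group.IsPerfect ↥E := hE.2.1
  have hb := CfsgLib.CsPSL.commutator_inf_center_eq_bot (G := ↥E) fun r hr W z hz hzW => by
    by_cases hr2 : r = 2
    · subst hr2
      have h0 : ⁅(W : Subgroup ↥E), (W : Subgroup ↥E)⁆ = ⊥ := by
        rw [Subgroup.commutator_eq_bot_iff_le_centralizer]
        intro u hu v hv
        exact Subtype.ext (R.two_subgroup (W.2.map E.subtype) v ⟨v, hv, rfl⟩ u ⟨u, hu, rfl⟩)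
      exact Subgroup.mem_bot.mp (h0 ▸ hzW)
    · haveI : Fact r.Prime := ⟨hr⟩
      haveI : Fact (Nat.Prime 2) := ⟨Nat.prime_two⟩
      haveI : Group.IsNilpotent ((Subgroup.center ↥E).map E.subtype : Subgroup M) := nilpotent_of_comm (by
        rintro _ ⟨a, ha, rfl⟩ _ ⟨b, -, rfl⟩
        exact congrArg Subtype.val ((Subgroup.mem_center_iff.mp ha b).symm))
      have hsn : ((Subgroup.center ↥E).map E.subtype : Subgroup M).IsSubnormal :=
        (inferInstance : (Subgroup.center ↥E).Normal).isSubnormal.trans' hE.1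
      have h := isSubnormal_nilpotent_le_fitting hsn inferInstance
      rw [fitting_eq_pCore Nat.prime_two R.ctx.core] at h
      have hz2 := h ⟨z, hz, rfl⟩
      have hzr : (z : M) ∈ (W : Subgroup ↥E).map E.subtype :=
        ⟨z, Subgroup.commutator_le_self _ hzW, rfl⟩
      exact Subtype.ext (Subgroup.mem_bot.mp ((disjoint_iff.mp (IsPGroup.disjoint_of_ne 2 r (Ne.symm hr2) _ _
        (isPGroup_pCore (G := M) 2) (W.2.map E.subtype))) ▸ Subgroup.mem_inf.mpr ⟨hz2, hzr⟩))
  rwa [Group.isPerfect_def.mp ‹Group.IsPerfect ↥E›, top_inf_eq] at hb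

theorem card_inter (hE : IsComponent E) : Nat.card ↥((T : Subgroup M) ⊓ E) = 4 := by
  obtain ⟨P, hP⟩ := CfsgLib.CharPLocal.exists_sylow_subnormal T hE.1
  let eE : ↥E ≃* ↥E ⧸ Subgroup.center ↥E :=
    (QuotientGroup.quotientBot (G := ↥E)).symm.trans (QuotientGroup.quotientMulEquivOfEq (R.center_eq_bot hE).symm)
  rw [← hP, Subgroup.card_map_of_injective E.subtype_injective,
    ← (R.quot_four hE).2 (P.mapSurjective (f := eE.toMonoidHom) eE.surjective)]
  exact (Subgroup.card_map_of_injective (f := eE.toMonoidHom) eE.injective).symm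

theorem unique (hE : IsComponent E) {E' : Subgroup M} (hE' : IsComponent E') : E' = E := by
  refine (components_eq_or_commute hE' hE).resolve_right fun hbot => ?_
  have hdisj : E' ⊓ E = ⊥ := by
    refine (Subgroup.eq_bot_iff_forall _).mpr fun x ⟨hx', hx⟩ => ?_
    have hz : (⟨x, hx⟩ : ↥E) ∈ Subgroup.center ↥E := Subgroup.mem_center_iff.mpr fun e =>
      Subtype.ext (comm_of_commutator_eq_bot hbot hx' e.2).symm
    rw [R.center_eq_bot hE, Subgroup.mem_bot] at hz
    exact congrArg Subtype.val hz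
  let f : ↥((T : Subgroup M) ⊓ E') × ↥((T : Subgroup M) ⊓ E) → (T : Subgroup M) := fun p =>
    ⟨(p.1 : M) * p.2, (T : Subgroup M).mul_mem p.1.2.1 p.2.2.1⟩
  have hf : Function.Injective f := by
    intro p q h
    have h' : (p.1 : M) * p.2 = q.1 * q.2 := congrArg Subtype.val h
    have hm : (q.1 : M)⁻¹ * p.1 ∈ E' ⊓ E := by
      refine ⟨E'.mul_mem (E'.inv_mem q.1.2.2) p.1.2.2, ?_⟩
      rw [show (q.1 : M)⁻¹ * p.1 = q.2 * (p.2 : M)⁻¹ by
        rw [eq_mul_inv_iff_mul_eq, mul_assoc, h', inv_mul_cancel_left]]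
      exact E.mul_mem q.2.2.2 (E.inv_mem p.2.2.2)
    rw [hdisj, Subgroup.mem_bot] at hm
    have e1 : (q.1 : M) = p.1 := inv_mul_eq_one.mp hm
    rw [e1] at h'
    exact Prod.ext (Subtype.ext e1.symm) (Subtype.ext (mul_left_cancel h'))
  have := Nat.card_le_card_of_injective f hf
  rw [Nat.card_prod, R.card_inter hE, R.card_inter hE', R.card] at this
  omega

theorem normal (hE : IsComponent E) : E.Normal := ⟨fun x hx g => by
  have h : E.map (MulAut.conj g).toMonoidHom = E := R.unique hE (isComponent_map_equiv (MulAut.conj g) hE)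
  rw [← h]
  exact ⟨x, hx, rfl⟩⟩

theorem not_le_centralizer (hE : IsComponent E) :
    ¬ (T : Subgroup M) ≤ Subgroup.centralizer (E : Set M) := by
  intro hle
  have h4 := R.card_inter hE
  suffices h : (T : Subgroup M) ⊓ E = ⊥ by
    rw [h, Subgroup.card_bot] at h4
    omega
  refine (Subgroup.eq_bot_iff_forall _).mpr fun x ⟨hxT, hxE⟩ => ?_
  have hz : (⟨x, hxE⟩ : ↥E) ∈ Subgroup.center ↥E :=
    Subgroup.mem_center_iff.mpr fun e => Subtype.ext (hle hxT e e.2)
  rw [R.center_eq_bot hE, Subgroup.mem_bot] at hz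
  exact congrArg Subtype.val hz

theorem card_cent (hE : IsComponent E) : Nat.card (Subgroup.centralizer (E : Set M)) = 2 := by
  haveI : Fact (Nat.Prime 2) := ⟨Nat.prime_two⟩
  haveI := R.normal hE
  obtain ⟨V, k, hb⟩ := R.ctx.exists_compBlock R.closed hE (R.not_le_centralizer hE)
  set C := Subgroup.centralizer (E : Set M) with hC
  haveI : C.Normal := Subgroup.normal_centralizer
  -- the part of the Sylow subgroup has order two
  have hTC : Nat.card ↥((T : Subgroup M) ⊓ C) = 2 := by
    let f : ↥((T : Subgroup M) ⊓ C) × V → (T : Subgroup M) := fun p =>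
      ⟨(p.1 : M) * p.2, (T : Subgroup M).mul_mem p.1.2.1 (hb.V_le p.2.2).1⟩
    have hf : Function.Bijective f := by
      refine ⟨fun p q h => ?_, fun x => ?_⟩
      · have h' : (p.1 : M) * p.2 = q.1 * q.2 := congrArg Subtype.val h
        have hm : (q.1 : M)⁻¹ * p.1 ∈ (T : Subgroup M) ⊓ C ⊓ V := by
          refine ⟨Subgroup.mul_mem _ (Subgroup.inv_mem _ q.1.2) p.1.2, ?_⟩
          rw [show (q.1 : M)⁻¹ * p.1 = q.2 * (p.2 : M)⁻¹ by
            rw [eq_mul_inv_iff_mul_eq, mul_assoc, h', inv_mul_cancel_left]]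
          exact V.mul_mem q.2.2 (V.inv_mem p.2.2)
        have e1 : (q.1 : M) = p.1 := inv_mul_eq_one.mp (Subgroup.mem_bot.mp (hb.disjoint.le hm))
        rw [e1] at h'
        exact Prod.ext (Subtype.ext e1.symm) (Subtype.ext (mul_left_cancel h'))
      · obtain ⟨d, hd, v, hv, he⟩ := hb.split (fun a ha b hb => R.comm ha hb) x.2
        exact ⟨(⟨d, hd⟩, ⟨v, hv⟩), Subtype.ext he⟩
    have h8 := Nat.card_eq_of_bijective f hf
    rw [Nat.card_prod, R.card] at h8
    have h4 : Nat.card V ≤ 4 := R.card_inter hE ▸ Subgroup.card_le_of_le hb.V_le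
    rw [le_antisymm h4 hb.four_le] at h8
    omega
  obtain ⟨P, hP⟩ := CfsgLib.CharPLocal.exists_sylow_subnormal T (inferInstance : C.Normal).isSubnormal
  have hP2 : Nat.card (P : Subgroup ↥C) = 2 := by
    exact (Subgroup.card_map_of_injective C.subtype_injective).symm.trans
      ((congrArg (fun K : Subgroup M => Nat.card K) hP).trans hTC)
  have hN : Subgroup.normalizer ((P : Subgroup ↥C) : Set ↥C) ≤ Subgroup.centralizer ((P : Subgroup ↥C) : Set ↥C) := by
    intro g hg p hp
    obtain ⟨u, hu, huniq⟩ := (Nat.card_eq_two_iff' (1 : (P : Subgroup ↥C))).mp hP2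
    rcases eq_or_ne p 1 with rfl | hp1
    · rw [one_mul, mul_one]
    have hq := (Subgroup.mem_normalizer_iff.mp hg p).mp hp
    have e1 := huniq ⟨p, hp⟩ fun e => hp1 (congrArg Subtype.val e)
    have e2 := huniq ⟨_, hq⟩ fun e => hp1 (conj_eq_one_iff.mp (congrArg Subtype.val e))
    exact (mul_inv_eq_iff_eq_mul.mp (congrArg Subtype.val (e2.trans e1.symm))).symm
  set K := (MonoidHom.transferSylow P hN).ker with hK
  have hcompl := MonoidHom.ker_transferSylow_isComplement' P hN
  have hKbot : K = ⊥ := by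
    have hodd : Nat.Coprime (Nat.card K) 2 :=
      Nat.coprime_comm.mp (Nat.prime_two.coprime_iff_not_dvd.mpr
        (hcompl.index_eq_card ▸ P.not_dvd_index))
    have h1 : K ≤ pPrimeCore 2 ↥C := le_pPrimeCore hodd
    rw [pPrimeCore_subgroupOf (p := 2) C, R.ctx.core] at h1
    exact eq_bot_iff.mpr (h1.trans (by simp [Subgroup.bot_subgroupOf]))
  have := hcompl.card_mul_card
  rw [← hK, hKbot, Subgroup.card_bot, one_mul, hP2] at this
  exact this.symm

/-- The properties of a component. -/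
theorem redComp (hE : IsComponent E) : RedComp T E := by
  refine ⟨hE, R.normal hE, R.center_eq_bot hE, fun E' => R.unique hE, R.card_inter hE, R.card_cent hE, ?_⟩
  haveI := component_isSimple hE
  let eE : ↥E ≃* ↥E ⧸ Subgroup.center ↥E :=
    (QuotientGroup.quotientBot (G := ↥E)).symm.trans (QuotientGroup.quotientMulEquivOfEq (R.center_eq_bot hE).symm)
  rcases listed_model (R.ctx.comp_listed hE) with ⟨F, i1, i2, m, hm, hc, ⟨e⟩⟩ | ⟨F, i1, i2, m, D, ⟨e⟩⟩
  · obtain ⟨P⟩ : Nonempty (Sylow 2 (↥E ⧸ Subgroup.center ↥E)) := inferInstance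
    have h4 : Nat.card (P : Subgroup (↥E ⧸ Subgroup.center ↥E)) = 4 := (R.quot_four hE).2 P
    have h8 := suzuki_eight ⟨F, i1, i2, m, hm, hc, ⟨e.trans (Suzuki.lieEquiv hc hm)⟩⟩ P
    have := Nat.card_le_card_of_injective
      (fun z : {x // x ∈ (P : Subgroup (↥E ⧸ Subgroup.center ↥E)) ∧ x * x = 1} => (⟨z.1, z.2.1⟩ : (P : Subgroup (↥E ⧸ Subgroup.center ↥E))))
      fun z w h => Subtype.ext (congrArg Subtype.val h :)
    omega
  · exact ⟨F, i1, i2, m, D, ⟨eE.trans e⟩⟩

/-- An element normalising `T` and transitive on its involutions leaves no room for a component. -/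
theorem no_component {g : M}
    (htr : ∀ v ∈ (T : Subgroup M), v ≠ 1 → ∀ w ∈ (T : Subgroup M), w ≠ 1 → ∃ i : ℕ, g ^ i * v * (g ^ i)⁻¹ = w)
    (E : Subgroup M) : ¬ IsComponent E := by
  intro hE
  haveI := R.normal hE
  obtain ⟨v, ⟨hvT, hvE⟩, hv1⟩ := ((T : Subgroup M) ⊓ E).bot_or_exists_ne_one.resolve_left fun h => by
    have := R.card_inter hE
    rw [h, Subgroup.card_bot] at this
    omega
  have hle : (T : Subgroup M) ≤ E := fun w hw => by
    rcases eq_or_ne w 1 with rfl | hw1
    · exact one_mem _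
    obtain ⟨i, rfl⟩ := htr v hvT hv1 w hw hw1
    exact (R.normal hE).conj_mem v hvE _
  have := R.card_inter hE
  rw [inf_eq_left.mpr hle, R.card] at this
  omega

/-- Such a group is soluble with normal Sylow 2-subgroup. -/
theorem soluble_of_transitive {g : M}
    (htr : ∀ v ∈ (T : Subgroup M), v ≠ 1 → ∀ w ∈ (T : Subgroup M), w ≠ 1 → ∃ i : ℕ, g ^ i * v * (g ^ i)⁻¹ = w) :
    (T : Subgroup M).Normal ∧ Group.IsSolvable M := by
  haveI : Fact (Nat.Prime 2) := ⟨Nat.prime_two⟩
  have hlayer : layer M = ⊥ := eq_bot_iff.mpr (sSup_le fun E hE => absurd hE (R.no_component htr E))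
  have hT : (T : Subgroup M) ≤ pCore 2 M := by
    have h1 := R.ctx.closed_le_gfit R.closed
    have h2 : generalizedFittingSubgroup M ≤ pCore 2 M := by
      refine sup_le (hlayer.trans_le bot_le) ?_
      rw [fitting_eq_pCore Nat.prime_two R.ctx.core]
    exact h1.trans h2
  haveI hQ : (pCore 2 M).Normal := Subgroup.sSup_normal _ (fun _ h => h.1)
  have hTeq : (T : Subgroup M) = pCore 2 M :=
    le_antisymm hT (CfsgLib.AfterFT.CoreSep.pCore_two_le_sylow T)
  haveI hTn : (T : Subgroup M).Normal := hTeq ▸ hQ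
  refine ⟨hTn, ?_⟩
  haveI : Group.IsSolvable (T : Subgroup M) := by
    haveI := T.2.isNilpotent
    infer_instance
  haveI : Group.IsSolvable (M ⧸ (T : Subgroup M)) := oddSolv _ (by
    rw [← Subgroup.index_eq_card]
    exact Nat.not_even_iff_odd.mp fun h => T.not_dvd_index (even_iff_two_dvd.mp h))
  exact Group.isSolvable_of_ker_le_range (T : Subgroup M).subtype (QuotientGroup.mk' (T : Subgroup M))
    (by rw [QuotientGroup.ker_mk', Subgroup.range_subtype])

end Red

end CfsgLib.S3Simple
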