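import Cfsg.Agent.Lib.S3Simple.Eight.Reduced
import Cfsg.Agent.Lib.S3Simple.Main
import Cfsg.Agent.Lib.S3Simple.Four.Block
import Cfsg.Agent.Lib.Elementary

/-!
The configuration with `|A| = 8`: `S = A`, and the proper subgroups above `A`.

Blueprint: `blueprint/S3Free.md`, section 5.
-/

set_option autoImplicit false
set_option linter.unusedSectionVars false
set_option linter.style.haveILetI false

namespace CfsgLib.S3Simple

open Cfsg CfsgLib.Comp CfsgLib.AfterFT.CoreSep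

universe u

variable {L : Type u} [Group L] [Finite L]

/-- The hypotheses of section 5. -/
structure EightHyp (S : Sylow 2 L) (A : Subgroup L) : Prop where
  hyp : Hyp L
  closed : Closed S A
  card : Nat.card A = 8
  blocked : ∀ a ∈ A, a ≠ 1 → Blocked A (Subgroup.zpowers a)
  relIndex : (Subgroup.centralizer (A : Set L)).relIndex (Subgroup.normalizer (A : Set L)) = 21
  center : ∀ z ∈ (S : Subgroup L), z * z = 1 → (∀ s ∈ (S : Subgroup L), z * s = s * z) → z ∈ A

/-- Conjugation by `g` is transitive on the non-identity elements of `A`. -/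
def TransOn (g : L) (A : Subgroup L) : Prop :=
  ∀ v ∈ A, v ≠ 1 → ∀ w ∈ A, w ≠ 1 → ∃ i : ℕ, g ^ i * v * (g ^ i)⁻¹ = w

namespace EightHyp

variable {S : Sylow 2 L} {A : Subgroup L} (H : EightHyp S A)
include H

theorem S_le_centralizer : (S : Subgroup L) ≤ Subgroup.centralizer (A : Set L) := by
  intro s hs
  set N := Subgroup.normalizer (A : Set L) with hN
  set K := (Subgroup.centralizer (A : Set L)).subgroupOf N with hK
  haveI hKn : K.Normal := by
    rw [hK, hN, ← Subgroup.normalizerMonoidHom_ker]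
    infer_instance
  have hcard : Nat.card (↥N ⧸ K) = 21 := H.relIndex
  set q := QuotientGroup.mk' K ⟨s, H.closed.le_normalizer hs⟩ with hq
  obtain ⟨j, hj⟩ := S.2 ⟨s, hs⟩
  have h2 : orderOf q ∣ 2 ^ j := orderOf_dvd_of_pow_eq_one (by
    rw [hq, ← map_pow]
    exact (QuotientGroup.eq_one_iff _).mpr (by
      rw [hK, Subgroup.mem_subgroupOf, SubmonoidClass.coe_pow, show s ^ 2 ^ j = 1 from congrArg Subtype.val hj]
      exact one_mem _))
  have h21 : orderOf q ∣ 21 := hcard ▸ orderOf_dvd_natCard q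
  have h1 : orderOf q = 1 := Nat.dvd_one.mp
    ((Nat.Coprime.pow_left j (by norm_num : Nat.Coprime 2 21)).gcd_eq_one ▸ Nat.dvd_gcd h2 h21)
  exact (QuotientGroup.eq_one_iff (⟨s, H.closed.le_normalizer hs⟩ : ↥N)).mp (orderOf_eq_one_iff.mp h1)

/-- An element of the normaliser inducing an automorphism of order seven. -/
theorem exists_seven : ∃ g ∈ Subgroup.normalizer (A : Set L), TransOn g A := by
  classical
  haveI : Fact (Nat.Prime 7) := ⟨by norm_num⟩
  set N := Subgroup.normalizer (A : Set L) with hN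
  set φ := A.normalizerMonoidHom with hφ
  have hcard : Nat.card φ.range = 21 := by
    rw [← Subgroup.index_ker, Subgroup.normalizerMonoidHom_ker]
    exact H.relIndex
  obtain ⟨⟨_, n, rfl⟩, hord⟩ := exists_prime_orderOf_dvd_card' (G := φ.range) 7 (by rw [hcard]; norm_num)
  rw [← Subgroup.orderOf_coe] at hord
  set α : MulAut A := φ n with hα
  have hα7 : orderOf α = 7 := hord
  refine ⟨n, n.2, ?_⟩
  have hpow : ∀ (i : ℕ) (v : A), ((α ^ i) v : L) = (n : L) ^ i * v * ((n : L) ^ i)⁻¹ := fun i v => by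
    rw [hα, ← map_pow]
    rfl
  set Z := Subgroup.zpowers α with hZ
  have hZp : IsPGroup 7 Z := IsPGroup.of_card (n := 1) (by rw [hZ, Nat.card_zpowers, hα7, pow_one])
  have hfix : ∀ v : A, α v = v → v = 1 := by
    intro v hv
    by_contra hv1
    have hmod := hZp.card_modEq_card_fixedPoints (α := A)
    let F : Subgroup A :=
      { carrier := MulAction.fixedPoints Z A
        mul_mem' := fun {a b} ha hb z => by rw [smul_mul', ha z, hb z]
        one_mem' := fun z => smul_one z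
        inv_mem' := fun {a} ha z => by rw [smul_inv', ha z] }
    have hdvd : Nat.card F ∣ 8 := H.card ▸ Subgroup.card_subgroup_dvd_card F
    have hvF : v ∈ F := fun z =>
      (Subgroup.zpowers_le.mpr (show α ∈ MulAction.stabilizer (MulAut A) v from hv)) z.2
    have hne1 : Nat.card F ≠ 1 := fun e => hv1 (Subgroup.mem_bot.mp ((Subgroup.card_eq_one.mp e) ▸ hvF))
    have hne8 : Nat.card F ≠ 8 := by
      intro e
      have htop : F = ⊤ := Subgroup.eq_top_of_card_eq F (e.trans H.card.symm)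
      have hα1 : α = 1 := MulEquiv.ext fun w =>
        (htop ▸ Subgroup.mem_top w : w ∈ F) ⟨α, Subgroup.mem_zpowers α⟩
      rw [hα1, orderOf_one] at hα7
      norm_num at hα7
    rw [H.card] at hmod
    change 8 ≡ Nat.card F [MOD 7] at hmod
    have hle : Nat.card F ≤ 8 := Nat.le_of_dvd (by norm_num) hdvd
    have hpos : 0 < Nat.card F := Nat.card_pos
    rw [Nat.ModEq] at hmod
    omega
  intro v hv hv1 w hw hw1
  set v' : A := ⟨v, hv⟩
  set w' : A := ⟨w, hw⟩
  have hv' : v' ≠ 1 := fun e => hv1 (congrArg Subtype.val e)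
  let f : Fin 7 → {x : A // x ≠ 1} := fun i =>
    ⟨(α ^ (i : ℕ)) v', fun e => hv' ((α ^ (i : ℕ)).injective (e.trans (map_one _).symm))⟩
  have hf : Function.Injective f := by
    suffices h : ∀ i j : Fin 7, (i : ℕ) ≤ j → f i = f j → i = j by
      intro i j e
      rcases le_total (i : ℕ) j with h' | h'
      · exact h i j h' e
      · exact (h j i h' e.symm).symm
    intro i j hij e
    refine Fin.ext ?_
    by_contra hne
    obtain ⟨d, hd⟩ := Nat.exists_eq_add_of_le hij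
    have e' : (α ^ (i : ℕ)) ((α ^ d) v') = (α ^ (i : ℕ)) v' := by
      rw [← MulAut.mul_apply, ← pow_add, ← hd]
      exact (congrArg Subtype.val e).symm
    have h7 : Nat.Coprime d 7 := Nat.coprime_comm.mp ((Nat.Prime.coprime_iff_not_dvd (by norm_num)).mpr fun hdd =>
      hne (by
        have := Nat.le_of_dvd (by omega) hdd
        have := j.2
        omega))
    obtain ⟨m, hm⟩ := exists_pow_eq_self_of_coprime (x := α) (hα7.symm ▸ h7)
    refine hv' (hfix v' ?_)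
    have hfx : (α ^ d) v' = v' := (α ^ (i : ℕ)).injective e'
    have h2 : ∀ k : ℕ, ((α ^ d) ^ k) v' = v' := fun k => by
      induction k with
      | zero => rfl
      | succ k ih => rw [pow_succ, MulAut.mul_apply, hfx, ih]
    have h3 := h2 m
    rwa [hm] at h3
  have hc : Nat.card {x : A // x ≠ 1} = 7 := by
    haveI : Fintype A := Fintype.ofFinite _
    rw [Nat.card_eq_fintype_card, Fintype.card_subtype_compl, Fintype.card_subtype_eq,
      ← Nat.card_eq_fintype_card, H.card]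
  obtain ⟨i, hi⟩ := ((Nat.bijective_iff_injective_and_card f).mpr
    ⟨hf, by rw [Nat.card_fin, hc]⟩).2 ⟨w', fun e => hw1 (congrArg Subtype.val e)⟩
  refine ⟨i, ?_⟩
  rw [← hpow i v']
  exact congrArg (fun x : {x : A // x ≠ 1} => ((x : A) : L)) hi

theorem comm {a b : L} (ha : a ∈ A) (hb : b ∈ A) : a * b = b * a := H.closed.comm ha hb

theorem mem_cc_S {s t : L} (hs : s ∈ (S : Subgroup L)) (ht : t ∈ A) : s ∈ cc t :=
  AfterFT.CoreSep.mem_cc.mpr (H.S_le_centralizer hs t ht).symm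

/-- A component at `t` whose centraliser in `A` is `⟨t⟩`. -/
theorem exists_comp {t : L} (ht : t ∈ A) (ht1 : t ≠ 1) :
    ∃ E : Subgroup (qq t), IsComponent E ∧ blockD A t E = Subgroup.zpowers t :=
  H.hyp.blocked_at H.closed (H.blocked t ht ht1) (Subgroup.mem_zpowers t) ht1

theorem card_imA {t : L} (ht : t ∈ A) : Nat.card (imA A t) = 8 := by
  rw [← H.card]
  refine (Nat.card_eq_of_bijective
    (fun a : A => (⟨ff t ⟨a, H.closed.mem_cc ht a.2⟩, mem_imA a.2 _⟩ : imA A t)) ⟨fun a b e => ?_, ?_⟩).symm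
  · have h1 : ff t ⟨(a : L)⁻¹ * b, H.closed.mem_cc ht (A.mul_mem (A.inv_mem a.2) b.2)⟩ = 1 := by
      rw [show (⟨(a : L)⁻¹ * b, H.closed.mem_cc ht (A.mul_mem (A.inv_mem a.2) b.2)⟩ : ↥(cc t)) =
        (⟨a, H.closed.mem_cc ht a.2⟩ : ↥(cc t))⁻¹ * ⟨b, H.closed.mem_cc ht b.2⟩ from rfl, map_mul, map_inv,
        show ff t ⟨a, H.closed.mem_cc ht a.2⟩ = ff t ⟨b, H.closed.mem_cc ht b.2⟩ from congrArg Subtype.val e]
      exact inv_mul_cancel _
    exact Subtype.ext (inv_mul_eq_one.mp (H.closed.ff_inj (A.mul_mem (A.inv_mem a.2) b.2) _ h1))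
  · rintro ⟨_, a, ha, rfl⟩
    exact ⟨⟨a, ha⟩, rfl⟩

/-- Elements of `S` normalise the component, and their squares centralise it. -/
theorem sq_centralizes {t : L} (ht : t ∈ A) (ht1 : t ≠ 1) {E : Subgroup (qq t)} (hE : IsComponent E)
    (hb : blockD A t E = Subgroup.zpowers t) {s : L} (hs : s ∈ (S : Subgroup L)) :
    ff t ⟨s, H.mem_cc_S hs ht⟩ ∈ Subgroup.normalizer (E : Set (qq t)) ∧
      ff t ⟨s, H.mem_cc_S hs ht⟩ * ff t ⟨s, H.mem_cc_S hs ht⟩ ∈ Subgroup.centralizer (E : Set (qq t)) := by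
  haveI : Fact (Nat.Prime 2) := ⟨Nat.prime_two⟩
  haveI := component_isSimple hE
  have hM := H.hyp.ctx ht1
  obtain ⟨T, hT⟩ := H.closed.imA_closed ht
  have hne : ¬ imA A t ≤ Subgroup.centralizer (E : Set (qq t)) := by
    refine not_le_centralizer H.closed ht fun e => ?_
    have := H.card
    rw [← e, hb, Nat.card_zpowers, H.closed.orderOf_eq_two ht ht1] at this
    omega
  obtain ⟨V, k, hV⟩ := hM.exists_compBlock hT hE hne
  set τ := ff t ⟨t, H.closed.mem_cc ht ht⟩ with hτ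
  have hτC : τ ∈ imA A t ⊓ Subgroup.centralizer (E : Set (qq t)) :=
    ⟨mem_imA ht _, ((mem_blockD (H.closed.mem_cc ht ht)).mp (self_mem_blockD ht E)).2⟩
  have hV4 : Nat.card V ≤ 4 := by
    have h1 := card_mul_le_of_disjoint (inf_le_left : imA A t ⊓ Subgroup.centralizer (E : Set (qq t)) ≤ imA A t)
      (hV.V_le.trans inf_le_left) hV.disjoint
    rw [H.card_imA ht] at h1
    have h2 : 2 ≤ Nat.card ↥(imA A t ⊓ Subgroup.centralizer (E : Set (qq t))) := by
      have hτ2 : orderOf τ = 2 := by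
        refine orderOf_eq_prime ?_ fun e => ht1 (H.closed.ff_inj ht _ e)
        rw [hτ, ← map_pow, show (⟨t, H.closed.mem_cc ht ht⟩ : ↥(cc t)) ^ 2 = 1 from
          Subtype.ext (H.closed.elem.2 t ht), map_one]
      have := Subgroup.card_le_of_le (Subgroup.zpowers_le.mpr hτC)
      rwa [Nat.card_zpowers, hτ2] at this
    have := Nat.mul_le_mul_right (Nat.card V) h2
    omega
  have h3 : 3 ∣ Nat.card (↥E ⧸ Subgroup.center ↥E) := by
    rcases hV.size with ⟨-, h⟩ | ⟨h, -⟩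
    · exact h
    · omega
  set γ := ff t ⟨s, H.mem_cc_S hs ht⟩ with hγ
  obtain ⟨j, hj⟩ := S.2 ⟨s, hs⟩
  have hγp : γ ^ 2 ^ j = 1 := by
    rw [hγ, ← map_pow, show (⟨s, H.mem_cc_S hs ht⟩ : ↥(cc t)) ^ 2 ^ j = 1 from
      Subtype.ext (congrArg Subtype.val hj :), map_one]
  obtain ⟨i, -, hi⟩ := (Nat.dvd_prime_pow Nat.prime_two).mp (orderOf_dvd_of_pow_eq_one hγp)
  have hγN := hM.three_normalizes hE h3 hi
  refine ⟨hγN, ?_⟩
  set φ := actQ E ⟨γ, hγN⟩ with hφ
  have hφp : φ ^ 2 ^ j = 1 := by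
    rw [hφ, ← map_pow, show (⟨γ, hγN⟩ : Subgroup.normalizer (E : Set (qq t))) ^ 2 ^ j = 1 from Subtype.ext hγp,
      map_one]
  obtain ⟨i', -, hi'⟩ := (Nat.dvd_prime_pow Nat.prime_two).mp (orderOf_dvd_of_pow_eq_one hφp)
  obtain ⟨h1, h2⟩ := hM.actQ_range E
  have hl := hM.comp_listed hE
  obtain ⟨q, hq⟩ := inner_of_two hl _ h1 h2 (φ := φ) ⟨_, rfl⟩ hi'
  have hinj : Function.Injective (MulAut.conj : (↥E ⧸ Subgroup.center ↥E) →* _) := by
    rw [← MonoidHom.ker_eq_bot_iff]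
    refine ((inferInstance : (MulAut.conj (G := ↥E ⧸ Subgroup.center ↥E)).ker.Normal).eq_bot_or_eq_top).resolve_right
      fun h => component_not_comm hE ⟨⟨fun c d => ?_⟩⟩
    have := DFunLike.congr_fun (MonoidHom.mem_ker.mp (h ▸ Subgroup.mem_top c)) d
    rwa [MulAut.conj_apply, MulAut.one_apply, mul_inv_eq_iff_eq_mul] at this
  have hqp : q ^ 2 ^ j = 1 := hinj (by rw [map_pow, hq, hφp, map_one])
  obtain ⟨Q, hQ⟩ := (zpowers_isPGroup (p := 2) (n := j) hqp).exists_le_sylow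
  have hQ4 : Nat.card (Q : Subgroup (↥E ⧸ Subgroup.center ↥E)) = 4 :=
    ((suzuki_or_three hl).resolve_left fun hsz => suzuki_not_three hsz h3).2 Q
  have hq2 : q * q = 1 := by
    obtain ⟨k', hk'⟩ := exists_twoLocal hl Q
    let ι : {x // x ∈ (Q : Subgroup (↥E ⧸ Subgroup.center ↥E)) ∧ x * x = 1} →
      (Q : Subgroup (↥E ⧸ Subgroup.center ↥E)) := fun z => ⟨z.1, z.2.1⟩
    have hι : Function.Injective ι := fun z w h => Subtype.ext (congrArg Subtype.val h :)
    obtain ⟨⟨z, hz, hz2⟩, hze⟩ := ((Nat.bijective_iff_injective_and_card ι).mpr ⟨hι,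
      le_antisymm (Nat.card_le_card_of_injective ι hι) (hQ4.trans_le hk'.four)⟩).2 ⟨q, hQ (Subgroup.mem_zpowers q)⟩
    have : z = q := congrArg Subtype.val hze
    exact this ▸ hz2
  refine centralizes_of_actQ hE (mul_mem hγN hγN) ?_
  rw [show (⟨γ * γ, mul_mem hγN hγN⟩ : Subgroup.normalizer (E : Set (qq t))) = ⟨γ, hγN⟩ * ⟨γ, hγN⟩ from rfl,
    map_mul, ← hφ, ← hq, ← map_mul, hq2, map_one]

/-- The Sylow subgroup is `A`. -/
theorem S_eq : (S : Subgroup L) = A := by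
  classical
  haveI : Fact (Nat.Prime 2) := ⟨Nat.prime_two⟩
  choose! E hE hb using fun t (ht : t ∈ A) (ht1 : t ≠ 1) => H.exists_comp ht ht1
  let C : L → Subgroup L := fun t => ((Subgroup.centralizer (E t : Set (qq t))).comap (ff t)).map (cc t).subtype
  have hC : ∀ {t x : L} (h : x ∈ cc t), x ∈ C t ↔ ff t ⟨x, h⟩ ∈ Subgroup.centralizer (E t : Set (qq t)) := by
    intro t x h
    refine ⟨?_, fun hx => ⟨⟨x, h⟩, hx, rfl⟩⟩
    rintro ⟨y, hy, e⟩
    exact (show y = ⟨x, h⟩ from Subtype.ext e) ▸ hy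
  set K : Subgroup L := (S : Subgroup L) ⊓ ⨅ t : {t : L // t ∈ A ∧ t ≠ 1}, C t with hK
  have hmemK : ∀ {x : L}, x ∈ K ↔ x ∈ (S : Subgroup L) ∧ ∀ t ∈ A, t ≠ 1 → x ∈ C t := by
    intro x
    rw [hK, Subgroup.mem_inf, Subgroup.mem_iInf]
    exact ⟨fun h => ⟨h.1, fun t ht ht1 => h.2 ⟨t, ht, ht1⟩⟩, fun h => ⟨h.1, fun t => h.2 t t.2.1 t.2.2⟩⟩
  have hKA : ∀ x ∈ K, x ∈ A → x = 1 := by
    intro x hx hxA
    by_contra hx1
    obtain ⟨g, hg, htr⟩ := H.exists_seven
    obtain ⟨t, ht, ht1, htx⟩ : ∃ t ∈ A, t ≠ 1 ∧ t ≠ x := by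
      by_contra hcon
      push Not at hcon
      have h8 := H.card
      have : Nat.card A ≤ Nat.card Bool := by
        refine Nat.card_le_card_of_injective (fun z : A => decide ((z : L) = 1)) fun p r hpr => Subtype.ext ?_
        have h' := decide_eq_decide.mp hpr
        by_cases hp : (p : L) = 1
        · rw [hp, h'.mp hp]
        · rw [hcon p p.2 hp, hcon r r.2 fun hr => hp (h'.mpr hr)]
      rw [Nat.card_eq_fintype_card (α := Bool), Fintype.card_bool] at this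
      omega
    have h1 : x ∈ blockD A t (E t) := (mem_blockD (H.closed.mem_cc ht hxA)).mpr
      ⟨hxA, (hC _).mp ((hmemK.mp hx).2 t ht ht1)⟩
    rw [hb t ht ht1, ← mem_powers_iff_mem_zpowers, Submonoid.mem_powers_iff] at h1
    obtain ⟨i, hi⟩ := h1
    rw [← pow_mod_orderOf, H.closed.orderOf_eq_two ht ht1] at hi
    rcases Nat.mod_two_eq_zero_or_one i with e | e <;> rw [e] at hi
    · exact hx1 (by rw [← hi, pow_zero])
    · exact htx (by rw [← hi, pow_one])
  have hKbot : K = ⊥ := by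
    by_contra hne
    have hKS : K ≤ (S : Subgroup L) := inf_le_left
    haveI : (K.subgroupOf (S : Subgroup L)).Normal := ⟨fun x hx g => by
      refine hmemK.mpr ⟨((g * x * g⁻¹ : ↥(S : Subgroup L))).2, fun t ht ht1 => ?_⟩
      have hxc := H.mem_cc_S x.2 ht
      have hgc := H.mem_cc_S g.2 ht
      refine (hC (mul_mem (mul_mem hgc hxc) (inv_mem hgc))).mpr ?_
      have h1 := (hC hxc).mp ((hmemK.mp hx).2 t ht ht1)
      have h2 := (H.sq_centralizes ht ht1 (hE t ht ht1) (hb t ht ht1) g.2).1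
      rw [show (⟨(g : L) * x * (g : L)⁻¹, mul_mem (mul_mem hgc hxc) (inv_mem hgc)⟩ : ↥(cc t)) =
        ⟨g, hgc⟩ * ⟨x, hxc⟩ * (⟨g, hgc⟩)⁻¹ from rfl, map_mul, map_mul, map_inv]
      intro e he
      have h3 := h1 _ ((Subgroup.mem_normalizer_iff''.mp h2 e).mp he)
      calc e * (ff t ⟨g, hgc⟩ * ff t ⟨x, hxc⟩ * (ff t ⟨g, hgc⟩)⁻¹)
          = ff t ⟨g, hgc⟩ * (((ff t ⟨g, hgc⟩)⁻¹ * e * ff t ⟨g, hgc⟩) * ff t ⟨x, hxc⟩) * (ff t ⟨g, hgc⟩)⁻¹ := by group
        _ = ff t ⟨g, hgc⟩ * (ff t ⟨x, hxc⟩ * ((ff t ⟨g, hgc⟩)⁻¹ * e * ff t ⟨g, hgc⟩)) * (ff t ⟨g, hgc⟩)⁻¹ := by rw [h3]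
        _ = _ := by group⟩
    haveI := S.2.isNilpotent
    have h1 : K.subgroupOf (S : Subgroup L) ⊓ Subgroup.center ↥(S : Subgroup L) ≠ ⊥ :=
      inf_center_ne_bot_of_nilpotent fun e => hne ((Subgroup.subgroupOf_eq_bot.mp e).eq_bot_of_le hKS)
    obtain ⟨z, hz, hz1⟩ := (Subgroup.bot_or_exists_ne_one _).resolve_left h1
    obtain ⟨j, hj⟩ := S.2 z
    obtain ⟨j', -, hj'⟩ := (Nat.dvd_prime_pow Nat.prime_two).mp (orderOf_dvd_of_pow_eq_one hj)
    rcases j' with - | j'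
    · exact hz1 (orderOf_eq_one_iff.mp (by rw [hj', pow_zero]))
    set w := z ^ 2 ^ j' with hw
    have hw1 : w ≠ 1 := fun e => by
      have := orderOf_dvd_of_pow_eq_one e
      rw [hj', Nat.pow_dvd_pow_iff_le_right (by norm_num)] at this
      omega
    have hwm := pow_mem hz (2 ^ j')
    rw [← hw] at hwm
    have hw2 : (w : L) * w = 1 := by
      rw [← Subgroup.coe_mul, hw, ← pow_add, ← two_mul, ← pow_succ', ← hj', pow_orderOf_eq_one]
      rfl
    have hwA : (w : L) ∈ A := H.center w w.2 hw2 fun s hs =>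
      (congrArg Subtype.val (Subgroup.mem_center_iff.mp hwm.2 ⟨s, hs⟩)).symm
    exact hw1 (Subtype.ext (hKA w hwm.1 hwA))
  have hsq : ∀ s ∈ (S : Subgroup L), s * s = 1 := fun s hs => by
    refine Subgroup.mem_bot.mp (hKbot ▸ hmemK.mpr ⟨mul_mem hs hs, fun t ht ht1 => ?_⟩)
    refine (hC (mul_mem (H.mem_cc_S hs ht) (H.mem_cc_S hs ht))).mpr ?_
    exact (map_mul (ff t) ⟨s, H.mem_cc_S hs ht⟩ ⟨s, H.mem_cc_S hs ht⟩).symm ▸
      (H.sq_centralizes ht ht1 (hE t ht ht1) (hb t ht ht1) hs).2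
  refine le_antisymm (fun s hs => H.center s hs (hsq s hs) fun r hr => ?_) H.closed.le
  have h1 := hsq (s * r) (mul_mem hs hr)
  have h2 : s⁻¹ = s := inv_eq_of_mul_eq_one_right (hsq s hs)
  have h3 : r⁻¹ = r := inv_eq_of_mul_eq_one_right (hsq r hr)
  have h4 : (s * r)⁻¹ = s * r := inv_eq_of_mul_eq_one_right h1
  rw [_root_.mul_inv_rev, h2, h3] at h4
  exact h4.symm

/-- The image of `A` is an elementary abelian Sylow 2-subgroup of the reduced form of a proper subgroup above it. -/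
theorem bar_red {K : Subgroup L} (hAK : A ≤ K) (hK : K ≠ ⊤) :
    ∃ T : Sylow 2 (↥K ⧸ pPrimeCore 2 ↥K),
      (T : Subgroup (↥K ⧸ pPrimeCore 2 ↥K)) = (A.subgroupOf K).map (QuotientGroup.mk' (pPrimeCore 2 ↥K)) ∧
      Red T := by
  haveI : Fact (Nat.Prime 2) := ⟨Nat.prime_two⟩
  let P : Sylow 2 K := S.subtype (H.S_eq ▸ hAK)
  have hP : (P : Subgroup K) = A.subgroupOf K := by
    show (S : Subgroup L).subgroupOf K = _
    rw [H.S_eq]
  have hcl := H.closed.bar hAK P hP.ge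
  refine ⟨P.mapSurjective (QuotientGroup.mk'_surjective _), congrArg (Subgroup.map _) hP,
    H.hyp.ctxSub hK, ?_, ?_⟩
  · show IsElementaryAbelian 2 ((P : Subgroup K).map _)
    rw [hP]
    exact hcl.elem
  · show Nat.card ((P : Subgroup K).map (QuotientGroup.mk' (pPrimeCore 2 ↥K))) = 8
    rw [hP, ← H.card, ← Nat.card_congr (Subgroup.subgroupOfEquivOfLe hAK).toEquiv]
    refine (Nat.card_eq_of_bijective (fun z : A.subgroupOf K =>
      (⟨QuotientGroup.mk' (pPrimeCore 2 ↥K) z, Subgroup.mem_map_of_mem _ z.2⟩ :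
        (A.subgroupOf K).map (QuotientGroup.mk' (pPrimeCore 2 ↥K)))) ⟨?_, ?_⟩).symm
    swap
    · rintro ⟨_, z, hz, rfl⟩
      exact ⟨⟨z, hz⟩, rfl⟩
    rintro ⟨x, hx⟩ ⟨y, hy⟩ e0
    have e : QuotientGroup.mk' (pPrimeCore 2 ↥K) x = QuotientGroup.mk' (pPrimeCore 2 ↥K) y := congrArg Subtype.val e0
    refine Subtype.ext ?_
    have h1 := (QuotientGroup.eq (s := pPrimeCore 2 ↥K)).mp e
    have hxy : ((x⁻¹ * y : ↥K) : L) ∈ A := A.mul_mem (A.inv_mem hx) hy
    have hodd : Odd (orderOf (x⁻¹ * y : ↥K)) := Odd.of_dvd_nat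
      (Nat.coprime_two_right.mp (card_pPrimeCore_coprime 2)) (Subgroup.orderOf_dvd_natCard _ h1)
    by_contra hne
    rw [← Subgroup.orderOf_coe, H.closed.orderOf_eq_two hxy fun e' =>
      hne (inv_mul_eq_one.mp (Subtype.ext e'))] at hodd
    exact absurd hodd (by decide)

/-- A proper subgroup above `A` in which `N(A)` is transitive on `A` is soluble, and `A` times the core is normal. -/
theorem soluble_above {K : Subgroup L} (hAK : A ≤ K) (hK : K ≠ ⊤) {g : L} (hgK : g ∈ K) (htr : TransOn g A) :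
    Group.IsSolvable K ∧
      ∀ x : ↥K, ∃ o ∈ pPrimeCore 2 ↥K, ∃ n : ↥K, (n : L) ∈ Subgroup.normalizer (A : Set L) ∧ o * n = x := by
  haveI : Fact (Nat.Prime 2) := ⟨Nat.prime_two⟩
  obtain ⟨T, hT, R⟩ := H.bar_red hAK hK
  obtain ⟨hn, hsol⟩ := R.soluble_of_transitive (g := QuotientGroup.mk' _ ⟨g, hgK⟩) (by
    intro v hv hv1 w hw hw1
    rw [hT] at hv hw
    obtain ⟨a, ha, rfl⟩ := hv
    obtain ⟨b, hb, rfl⟩ := hw
    obtain ⟨i, hi⟩ := htr a ha (fun e => hv1 (by rw [show a = 1 from Subtype.ext e, map_one])) b hb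
      (fun e => hw1 (by rw [show b = 1 from Subtype.ext e, map_one]))
    refine ⟨i, ?_⟩
    rw [← map_pow, ← map_inv, ← map_mul, ← map_mul]
    exact congrArg _ (Subtype.ext hi))
  refine ⟨?_, fun x => ?_⟩
  · haveI := hsol
    haveI : Group.IsSolvable (pPrimeCore 2 ↥K) :=
      oddSolv _ (Nat.coprime_two_right.mp (card_pPrimeCore_coprime 2))
    exact Group.isSolvable_of_ker_le_range (pPrimeCore 2 ↥K).subtype (QuotientGroup.mk' (pPrimeCore 2 ↥K))
      (by rw [QuotientGroup.ker_mk', Subgroup.range_subtype])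
  have hp : IsPGroup 2 (A.subgroupOf K) := H.closed.isPGroup.comap_subtype
  obtain ⟨n, hn', hne⟩ := exists_centralizing_lift hp x (by
    rw [← hT]
    have : Subgroup.normalizer ((T : Subgroup (↥K ⧸ pPrimeCore 2 ↥K)) : Set (↥K ⧸ pPrimeCore 2 ↥K)) = ⊤ :=
      Subgroup.normalizer_eq_top_iff.mpr hn
    rw [this]
    exact Subgroup.mem_top _)
  refine ⟨x * n⁻¹, ?_, n, mem_normalizer_of_maps fun a ha => ?_, inv_mul_cancel_right x n⟩
  · rw [← QuotientGroup.eq_one_iff]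
    show QuotientGroup.mk' _ (x * n⁻¹) = 1
    rw [map_mul, map_inv]
    exact mul_inv_eq_one.mpr hne.symm
  · exact (Subgroup.mem_normalizer_iff.mp hn' ⟨a, hAK ha⟩).mp ha

end EightHyp

end CfsgLib.S3Simple
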