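import Cfsg.Agent.Lib.S3Simple.Eight.Field
import Cfsg.Agent.Lib.Elementary

/-!
5.3 for `r = 7`, first part: the Sylow seven-subgroup `R` of `C(x)` and the element of order three of `C(x)`
normalising it without centralising it.

Blueprint: `blueprint/S3Free.md`, 5.3.
-/

set_option autoImplicit false
set_option linter.unusedSectionVars false
set_option linter.style.haveILetI false

namespace CfsgLib.S3Simple

open Cfsg CfsgLib.Comp CfsgLib.AfterFT.CoreSep

universe u

variable {L : Type u} [Group L] [Finite L]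

theorem seven_prime : Fact (Nat.Prime 7) := ⟨by norm_num⟩

/-- The seven-local data at an element `x` of order seven. -/
structure SevenBase (x : L) (R : Subgroup L) (h : L) : Prop where
  pgroup : IsPGroup 7 R
  card : Nat.card R = 49
  mem : x ∈ R
  order : orderOf x = 7
  le : R ≤ Subgroup.centralizer ({x} : Set L)
  exp : ∀ r ∈ R, r ^ 7 = 1
  three : orderOf h = 3
  comm : h * x = x * h
  norm : h ∈ Subgroup.normalizer (R : Set L)
  moves : ∃ r ∈ R, h * r ≠ r * h
  cap : ∀ {W : Subgroup L}, IsPGroup 7 W → W ≤ Subgroup.centralizer ({x} : Set L) → Nat.card W ≤ 49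
  conj : ∀ {W : Subgroup L}, IsPGroup 7 W → W ≤ Subgroup.centralizer ({x} : Set L) → Nat.card W = 49 →
    ∃ c ∈ Subgroup.centralizer ({x} : Set L), ∀ w ∈ W, c * w * c⁻¹ ∈ R
  stab : ∀ g ∈ Subgroup.centralizer ({x} : Set L), g ∈ Subgroup.normalizer (R : Set L) →
    ∃ r ∈ R, ∃ i : ℕ, g = r * h ^ i

namespace EightHyp

variable {S : Sylow 2 L} {A : Subgroup L} (H : EightHyp S A)
include H

/-- The seven-subgroups of `C(t)` have order at most seven. -/
theorem seven_cc {x : L} (F : FieldHyp A x 7) {t : L} (ht : t ∈ A) (ht1 : t ≠ 1) {W : Subgroup L}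
    (hW : IsPGroup 7 W) (hle : W ≤ cc t) : Nat.card W ≤ 7 := by
  classical
  haveI := seven_prime
  set N := Subgroup.normalizer (A : Set L) with hN
  have htC : t ∈ Subgroup.centralizer ({x} : Set L) := F.centralizer ▸ Subgroup.le_normalizer ht
  have hxt : x ∈ cc t := mem_cc.mpr (Subgroup.mem_centralizer_singleton_iff.mp htC).symm
  obtain ⟨g, hgN, hgt⟩ := H.exists_seven
  -- the stabiliser of `t` in `N(A)`
  have hM : Nat.card ↥(cc t ⊓ N) = 168 := by
    have hcA : Nat.card {a : A // a ≠ 1} = 7 := by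
      haveI : Fintype A := Fintype.ofFinite _
      rw [Nat.card_eq_fintype_card, Fintype.card_subtype_compl, Fintype.card_subtype_eq,
        ← Nat.card_eq_fintype_card, H.card]
    let orb : ↥N ⧸ (cc t).subgroupOf N → {a : A // a ≠ 1} := Quotient.lift
      (fun n => ⟨⟨(n : L) * t * (n : L)⁻¹, (Subgroup.mem_normalizer_iff.mp n.2 t).mp ht⟩,
        fun e => ht1 (conj_eq_one_iff.mp (congrArg Subtype.val e))⟩) fun a b hab => by
        have h : (a : L)⁻¹ * b ∈ cc t := (QuotientGroup.leftRel_apply.mp hab : a⁻¹ * b ∈ (cc t).subgroupOf N)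
        refine Subtype.ext (Subtype.ext ?_)
        show (a : L) * t * (a : L)⁻¹ = b * t * (b : L)⁻¹
        have h' := mem_cc.mp h
        calc (a : L) * t * (a : L)⁻¹ = a * (t * ((a : L)⁻¹ * b)) * (b : L)⁻¹ := by group
          _ = a * (((a : L)⁻¹ * b) * t) * (b : L)⁻¹ := by rw [h']
          _ = b * t * (b : L)⁻¹ := by group
    have horb : Function.Bijective orb := by
      refine ⟨?_, ?_⟩
      · rintro ⟨a⟩ ⟨b⟩ h
        refine QuotientGroup.eq.mpr ?_
        rw [Subgroup.mem_subgroupOf, mem_cc]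
        have h' : (a : L) * t * (a : L)⁻¹ = b * t * (b : L)⁻¹ := congrArg Subtype.val (congrArg Subtype.val h)
        show (a : L)⁻¹ * b * t = t * ((a : L)⁻¹ * b)
        calc (a : L)⁻¹ * b * t = (a : L)⁻¹ * ((b : L) * t * (b : L)⁻¹) * b := by group
          _ = (a : L)⁻¹ * ((a : L) * t * (a : L)⁻¹) * b := by rw [h']
          _ = t * ((a : L)⁻¹ * b) := by group
      · rintro ⟨⟨w, hw⟩, hw1⟩
        obtain ⟨i, hi⟩ := hgt t ht ht1 w hw fun e => hw1 (Subtype.ext e)
        exact ⟨QuotientGroup.mk ⟨g ^ i, N.pow_mem hgN i⟩, Subtype.ext (Subtype.ext hi)⟩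
    have h := ((cc t).subgroupOf N).card_mul_index
    rw [Subgroup.index_eq_card, Nat.card_eq_of_bijective orb horb, hcA, ← Subgroup.inf_subgroupOf_right,
      Nat.card_congr (Subgroup.subgroupOfEquivOfLe inf_le_right).toEquiv, F.card] at h
    omega
  set Z := Subgroup.zpowers (⟨x, hxt⟩ : ↥(cc t)) with hZ
  have hZc : Nat.card Z = 7 := by rw [hZ, Nat.card_zpowers, Subgroup.orderOf_mk, F.order]
  obtain ⟨P, hP⟩ := (IsPGroup.of_card (p := 7) (G := Z) (n := 1) (by rw [hZc, pow_one])).exists_le_sylow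
  obtain ⟨P', hP'⟩ := (hW.comap_of_injective (cc t).subtype (cc t).subtype_injective).exists_le_sylow
  have hPP' : Nat.card P' = Nat.card P := by rw [P.card_eq_multiplicity, P'.card_eq_multiplicity]
  rw [← Nat.card_congr (Subgroup.subgroupOfEquivOfLe hle).toEquiv]
  refine (Subgroup.card_le_of_le hP').trans (hPP'.le.trans ?_)
  by_contra hlt
  push Not at hlt
  have hne : Z < (P : Subgroup ↥(cc t)) := lt_of_le_of_ne hP fun e => by
    have h' : Nat.card Z = Nat.card (P : Subgroup ↥(cc t)) := congrArg (fun W : Subgroup ↥(cc t) => Nat.card W) e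
    omega
  haveI : Group.IsNilpotent (P : Subgroup ↥(cc t)) := P.2.isNilpotent
  have hgrow := Group.normalizerCondition_of_isNilpotent (Z.subgroupOf (P : Subgroup ↥(cc t)))
    (lt_top_iff_ne_top.mpr fun e => hne.2 (Subgroup.subgroupOf_eq_top.mp e))
  have h1 := Set.Finite.card_lt_card (Set.toFinite _) hgrow
  set N' := Subgroup.normalizer ((Z.subgroupOf (P : Subgroup ↥(cc t)) : Subgroup _) : Set ↥(P : Subgroup ↥(cc t)))
  change Nat.card (Z.subgroupOf (P : Subgroup ↥(cc t))) < Nat.card N' at h1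
  rw [Nat.card_congr (Subgroup.subgroupOfEquivOfLe hP).toEquiv, hZc] at h1
  obtain ⟨j, hj⟩ := IsPGroup.iff_card.mp (P.2.to_subgroup N')
  have hdvd : Nat.card N' ∣ 168 := by
    rw [← hM, ← Subgroup.card_map_of_injective (K := N') (P : Subgroup ↥(cc t)).subtype_injective,
      ← Subgroup.card_map_of_injective (K := N'.map (P : Subgroup ↥(cc t)).subtype) (cc t).subtype_injective]
    refine Subgroup.card_dvd_of_le ?_
    rintro _ ⟨_, ⟨n, hn, rfl⟩, rfl⟩
    refine ⟨((n : ↥(P : Subgroup ↥(cc t))) : ↥(cc t)).2, ?_⟩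
    rw [hN, ← F.normalizer]
    refine mem_normalizer_of_maps fun y hy => ?_
    obtain ⟨i, rfl⟩ := Subgroup.mem_zpowers_iff.mp hy
    have h2 := (Subgroup.mem_normalizer_iff.mp hn ⟨(⟨x, hxt⟩ : ↥(cc t)) ^ i,
      hP (Subgroup.zpow_mem _ (Subgroup.mem_zpowers _) i)⟩).mp (Subgroup.zpow_mem _ (Subgroup.mem_zpowers _) i)
    obtain ⟨k, hk⟩ := Subgroup.mem_zpowers_iff.mp (show _ ∈ Z from h2)
    exact Subgroup.mem_zpowers_iff.mpr ⟨k, (congrArg Subtype.val hk).trans rfl⟩
  rw [hj] at h1 hdvd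
  have h2 : 2 ≤ j := by
    by_contra h
    have := Nat.pow_le_pow_right (show 0 < 7 by norm_num) (show j ≤ 1 by omega)
    omega
  have h49 : 49 ∣ 168 := (show 49 ∣ 7 ^ j from pow_dvd_pow 7 h2).trans hdvd
  norm_num at h49

theorem seven_base {x : L} (F : FieldHyp A x 7) : ∃ (R : Subgroup L) (h : L), SevenBase x R h := by
  classical
  haveI := seven_prime
  haveI : Fact (Nat.Prime 3) := ⟨Nat.prime_three⟩
  set C := Subgroup.centralizer ({x} : Set L) with hCdef
  set CA := Subgroup.centralizer (A : Set L) with hCA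
  have hC : Nat.card C = 1176 := by
    rw [hCdef, F.centralizer, F.card]
  have hAC : A ≤ C := fun a ha => by
    rw [hCdef, F.centralizer]; exact Subgroup.le_normalizer ha
  have hCN : ∀ c ∈ C, ∀ a ∈ A, c * a * c⁻¹ ∈ A := fun c hc a ha => by
    rw [hCdef, F.centralizer] at hc
    exact (Subgroup.mem_normalizer_iff.mp hc a).mp ha
  have hCAle : CA ≤ C := by
    rw [hCdef, F.centralizer]; exact Subgroup.centralizer_le_normalizer _
  have hCA56 : Nat.card CA = 56 := by
    have h := (CA.subgroupOf (Subgroup.normalizer (A : Set L))).card_mul_index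
    rw [Nat.card_congr (Subgroup.subgroupOfEquivOfLe (Subgroup.centralizer_le_normalizer _)).toEquiv,
      show (CA.subgroupOf (Subgroup.normalizer (A : Set L))).index = 21 from H.relIndex, F.card] at h
    rw [hCA]
    omega
  have hxC : x ∈ C := Subgroup.mem_centralizer_singleton_iff.mpr rfl
  obtain ⟨P, hP⟩ := (IsPGroup.of_card (p := 7) (G := Subgroup.zpowers (⟨x, hxC⟩ : ↥C)) (n := 1)
    (by rw [Nat.card_zpowers, Subgroup.orderOf_mk, F.order, pow_one])).exists_le_sylow
  have hfac : (Nat.card ↥C).factorization 7 = 2 := by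
    rw [hC, show (1176 : ℕ) = 7 ^ 2 * 24 by norm_num, Nat.factorization_mul (by norm_num) (by norm_num),
      Finsupp.add_apply, Nat.Prime.factorization_pow (by norm_num), Finsupp.single_eq_same,
      Nat.factorization_eq_zero_of_not_dvd (by norm_num)]
  have hP49 : Nat.card P = 49 := by
    rw [P.card_eq_multiplicity, hfac]; norm_num
  set R := (P : Subgroup ↥C).map C.subtype with hRdef
  have hRp : IsPGroup 7 R := P.2.map _
  have hRle : R ≤ C := Subgroup.map_subtype_le _
  have hR49 : Nat.card R = 49 := by rw [hRdef, Subgroup.card_map_of_injective C.subtype_injective, hP49]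
  have hxR : x ∈ R := ⟨⟨x, hxC⟩, hP (Subgroup.mem_zpowers _), rfl⟩
  have hRcomm : ∀ a ∈ R, ∀ b ∈ R, a * b = b * a := fun a ha b hb =>
    congrArg Subtype.val (IsPGroup.commutative_of_card_eq_prime_sq (p := 7) (G := R) (by rw [hR49]; norm_num) ⟨a, ha⟩ ⟨b, hb⟩)
  -- no element of `A` other than `1` is centralised by `R`
  have hfree : ∀ a ∈ A, (∀ r ∈ R, r * a = a * r) → a = 1 := by
    intro a ha hr
    by_contra ha1
    have := H.seven_cc F ha ha1 hRp fun r hr' => mem_cc.mpr (hr r hr')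
    omega
  -- the number of Sylow subgroups
  have hn7 : (Subgroup.normalizer ((P : Subgroup ↥C) : Set ↥C)).index = 8 := by
    have h1 := card_sylow_modEq_one 7 ↥C
    have h2 : Nat.card (Sylow 7 ↥C) ∣ 24 := by
      have h3 := P.card_dvd_index
      have h4 := (P : Subgroup ↥C).card_mul_index
      rw [show Nat.card (P : Subgroup ↥C) = 49 from hP49, hC] at h4
      rwa [show (P : Subgroup ↥C).index = 24 by omega] at h3
    have hne : Nat.card (Sylow 7 ↥C) ≠ 1 := by
      intro e
      haveI hsub : Subsingleton (Sylow 7 ↥C) := (Nat.card_eq_one_iff_unique.mp e).1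
      obtain ⟨a, ha, ha1⟩ : ∃ a ∈ A, a ≠ 1 := by
        haveI : Nontrivial A := Finite.one_lt_card_iff_nontrivial.mp (H.card.symm ▸ by norm_num)
        obtain ⟨⟨a, ha⟩, ha1⟩ := exists_ne (1 : A)
        exact ⟨a, ha, fun e => ha1 (Subtype.ext e)⟩
      refine ha1 (hfree a ha fun r hr => ?_)
      obtain ⟨⟨r, hrC⟩, hrP, rfl⟩ := hr
      haveI : (P : Subgroup ↥C).Normal := P.normal_of_subsingleton
      have h5 : r * a * r⁻¹ * a⁻¹ ∈ A := A.mul_mem (hCN r hrC a ha) (A.inv_mem ha)
      have h6 : (⟨r, hrC⟩ : ↥C) * (⟨a, hAC ha⟩ * ⟨r, hrC⟩⁻¹ * ⟨a, hAC ha⟩⁻¹) ∈ (P : Subgroup ↥C) :=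
        mul_mem hrP ((inferInstance : (P : Subgroup ↥C).Normal).conj_mem _ (inv_mem hrP) _)
      have h7 : r * a * r⁻¹ * a⁻¹ ∈ R := by
        refine ⟨_, h6, ?_⟩
        show r * (a * r⁻¹ * a⁻¹) = _
        group
      have h8 := Nat.dvd_gcd (Subgroup.orderOf_dvd_natCard A h5) (Subgroup.orderOf_dvd_natCard R h7)
      rw [H.card, hR49] at h8
      norm_num at h8
      rw [mul_inv_eq_one, mul_inv_eq_iff_eq_mul] at h8
      exact h8
    show (Subgroup.normalizer (P : Set ↥C)).index = 8
    rw [← Sylow.card_eq_index_normalizer P]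
    have hmem : Nat.card (Sylow 7 ↥C) ∈ Nat.divisors 24 := Nat.mem_divisors.mpr ⟨h2, by norm_num⟩
    rw [show Nat.divisors 24 = ({1, 2, 3, 4, 6, 8, 12, 24} : Finset ℕ) by decide] at hmem
    simp only [Finset.mem_insert, Finset.mem_singleton] at hmem
    unfold Nat.ModEq at h1
    omega
  set NR := Subgroup.normalizer ((P : Subgroup ↥C) : Set ↥C) with hNR
  have hNR147 : Nat.card NR = 147 := by
    have h := NR.card_mul_index
    rw [hn7, hC] at h
    omega
  obtain ⟨⟨⟨h, hhC⟩, hhN⟩, hh3⟩ := exists_prime_orderOf_dvd_card' (G := NR) 3 (by rw [hNR147]; norm_num)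
  rw [Subgroup.orderOf_mk, Subgroup.orderOf_mk] at hh3
  have hhnorm : h ∈ Subgroup.normalizer (R : Set L) := mem_normalizer_of_maps fun y hy => by
    obtain ⟨y, hy, rfl⟩ := hy
    exact ⟨_, (Subgroup.mem_normalizer_iff.mp hhN y).mp hy, rfl⟩
  -- `h` does not centralise `R`
  have hmoves : ∃ r ∈ R, h * r ≠ r * h := by
    by_contra hcon
    push Not at hcon
    have hh : h ∉ CA := fun hm => by
      have := Subgroup.orderOf_dvd_natCard CA hm
      rw [hh3, hCA56] at this
      norm_num at this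
    letI : MulAction R {a : A // h * (a : L) = a * h} :=
      { smul := fun r a => ⟨⟨(r : L) * a.1 * (r : L)⁻¹, hCN r (hRle r.2) _ a.1.2⟩, by
          show h * ((r : L) * a.1 * (r : L)⁻¹) = (r : L) * a.1 * (r : L)⁻¹ * h
          have e1 := hcon r r.2
          have e2 : h * (r : L)⁻¹ = (r : L)⁻¹ * h := hcon _ (R.inv_mem r.2)
          rw [← mul_assoc, ← mul_assoc, e1, mul_assoc (r : L) h, a.2, ← mul_assoc, mul_assoc _ h, e2, ← mul_assoc]⟩
        one_smul := fun a => Subtype.ext (Subtype.ext (by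
          show ((1 : R) : L) * a.1 * ((1 : R) : L)⁻¹ = a.1
          simp))
        mul_smul := fun r s a => Subtype.ext (Subtype.ext (by
          show ((r * s : R) : L) * a.1 * ((r * s : R) : L)⁻¹ = r * (s * a.1 * (s : L)⁻¹) * (r : L)⁻¹
          rw [Subgroup.coe_mul]; group)) }
    let K : Subgroup A :=
      { carrier := {a | h * (a : L) = a * h}
        mul_mem' := fun {a b} ha hb => by
          show h * ((a : L) * b) = (a : L) * b * h
          rw [← mul_assoc, show h * (a : L) = a * h from ha, mul_assoc, show h * (b : L) = b * h from hb, mul_assoc]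
        one_mem' := by show h * ((1 : A) : L) = ((1 : A) : L) * h; simp
        inv_mem' := fun {a} ha => ((show Commute h (a : L) from ha).inv_right).eq }
    have hK8 : Nat.card K ∣ 8 := H.card ▸ Subgroup.card_subgroup_dvd_card K
    have hKne : Nat.card K ≠ 8 := fun e => hh fun a ha =>
      ((show (⟨a, ha⟩ : A) ∈ K from
        Subgroup.eq_top_of_card_eq K (e.trans H.card.symm) ▸ Subgroup.mem_top _) : h * a = a * h).symm
    have hmod := hRp.card_modEq_card_fixedPoints {a : A // h * (a : L) = a * h}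
    have hfix : Nat.card (MulAction.fixedPoints R {a : A // h * (a : L) = a * h}) ≤ 1 := by
      refine Finite.card_le_one_iff_subsingleton.mpr ⟨fun a b => ?_⟩
      have key : ∀ c : MulAction.fixedPoints R {a : A // h * (a : L) = a * h}, ((c.1.1 : A) : L) = 1 := fun c =>
        hfree _ c.1.1.2 fun r hr => mul_inv_eq_iff_eq_mul.mp (congrArg Subtype.val (congrArg Subtype.val (c.2 ⟨r, hr⟩)))
      exact Subtype.ext (Subtype.ext (Subtype.ext ((key a).trans (key b).symm)))
    -- orbits of `h` on the seven non-identity elements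
    haveI : Fact (Nat.Prime 3) := ⟨Nat.prime_three⟩
    have hhA : h ∈ Subgroup.normalizer (A : Set L) := mem_normalizer_of_maps fun a ha => hCN h hhC a ha
    letI : MulAction (Subgroup.zpowers h) A := MulAction.compHom A
      (A.normalizerMonoidHom.comp (Subgroup.inclusion (Subgroup.zpowers_le.mpr hhA)))
    have hmod3 := (IsPGroup.of_card (p := 3) (G := Subgroup.zpowers h) (n := 1)
      (by rw [Nat.card_zpowers, hh3, pow_one])).card_modEq_card_fixedPoints A
    have hfixK : Nat.card (MulAction.fixedPoints (Subgroup.zpowers h) A) = Nat.card K := by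
      refine Nat.card_congr (Equiv.subtypeEquivRight fun a => ⟨fun ha => ?_, fun ha z => Subtype.ext ?_⟩)
      · exact mul_inv_eq_iff_eq_mul.mp (congrArg Subtype.val (ha ⟨h, Subgroup.mem_zpowers h⟩))
      · show (z : L) * a * (z : L)⁻¹ = a
        obtain ⟨i, hi⟩ := z.2
        rw [← hi]
        exact mul_inv_eq_iff_eq_mul.mpr ((show Commute h (a : L) from ha).zpow_left i).eq
    rw [hfixK, H.card] at hmod3
    have hKK : Nat.card {a : A // h * (a : L) = a * h} = Nat.card K := rfl
    rw [hKK] at hmod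
    have hKpos : 0 < Nat.card K := Nat.card_pos
    have hfpos : 0 < Nat.card (MulAction.fixedPoints R {a : A // h * (a : L) = a * h}) := by
      haveI : Nonempty (MulAction.fixedPoints R {a : A // h * (a : L) = a * h}) :=
        ⟨⟨⟨1, by simp⟩, fun r => Subtype.ext (Subtype.ext (by
          show (r : L) * ((1 : A) : L) * (r : L)⁻¹ = _
          simp))⟩⟩
      exact Nat.card_pos
    unfold Nat.ModEq at hmod hmod3
    have := Nat.le_of_dvd (by norm_num) hK8
    omega
  have hcomm : h * x = x * h := Subgroup.mem_centralizer_singleton_iff.mp hhC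
  have hexp : ∀ r ∈ R, r ^ 7 = 1 := by
    obtain ⟨r0, hr0, hr0m⟩ := hmoves
    have hsev : ∀ {r : L}, r ∈ R → orderOf r ∣ 7 ^ 2 := fun {r} hr => by
      have := Subgroup.orderOf_dvd_natCard R hr
      rwa [hR49] at this
    -- otherwise `R` is cyclic and centralised by `h`
    by_contra hcon
    push Not at hcon
    obtain ⟨r, hr, hr7⟩ := hcon
    have ho : orderOf r = 49 := by
      obtain ⟨k, hk, hk'⟩ := (Nat.dvd_prime_pow (by norm_num : Nat.Prime 7)).mp (hsev hr)
      interval_cases k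
      · exact absurd (by rw [← orderOf_dvd_iff_pow_eq_one, hk']; norm_num) hr7
      · exact absurd (by rw [← orderOf_dvd_iff_pow_eq_one, hk']; norm_num) hr7
      · rw [hk']; norm_num
    have hRz : R = Subgroup.zpowers r := (Subgroup.eq_of_le_of_card_ge (Subgroup.zpowers_le.mpr hr)
      (by rw [Nat.card_zpowers, ho, hR49])).symm
    rw [hRz, mem_zpowers_iff_mem_range_orderOf, ho, Finset.mem_image] at hxR
    obtain ⟨i, hi, hix⟩ := hxR
    rw [Finset.mem_range] at hi
    have hrh : h * r * h⁻¹ ∈ R := (Subgroup.mem_normalizer_iff.mp hhnorm r).mp hr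
    rw [hRz, mem_zpowers_iff_mem_range_orderOf, ho, Finset.mem_image] at hrh
    obtain ⟨j, hj, hjr⟩ := hrh
    have hpow : ∀ k : ℕ, h * r ^ k * h⁻¹ = r ^ (j * k) := fun k => by
      rw [← conj_pow, ← hjr, ← pow_mul]
    have h1 : j * i ≡ i [MOD 49] := by
      rw [← ho, ← pow_eq_pow_iff_modEq, ← hpow, hix, hcomm, mul_inv_cancel_right]
    have h2 : j * (j * j) ≡ 1 [MOD 49] := by
      rw [← ho, ← pow_eq_pow_iff_modEq, ← hpow, ← hpow]
      have : h ^ 3 = 1 := hh3 ▸ pow_orderOf_eq_one h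
      calc h * (h * r ^ j * h⁻¹) * h⁻¹ = h * (h * (h * r * h⁻¹) * h⁻¹) * h⁻¹ := by rw [hjr]
        _ = h ^ 3 * r * (h ^ 3)⁻¹ := by simp only [pow_succ, pow_zero]; group
        _ = r ^ 1 := by rw [this]; simp
    have hi7 : i % 7 = 0 ∧ i ≠ 0 := by
      have hx7 : x ^ 7 = 1 := F.order ▸ pow_orderOf_eq_one x
      rw [← hix, ← pow_mul] at hx7
      have h3 := orderOf_dvd_of_pow_eq_one hx7
      rw [ho] at h3
      refine ⟨?_, fun e => ?_⟩
      · have h4 : 7 * 7 ∣ i * 7 := h3
        exact Nat.mod_eq_zero_of_dvd (Nat.dvd_of_mul_dvd_mul_right (by norm_num) h4)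
      · rw [e, pow_zero] at hix
        have := F.order
        rw [← hix, orderOf_one] at this
        norm_num at this
    have hj1 : j = 1 := by
      have hj7 : j % 7 = 1 := by
        obtain ⟨i', rfl⟩ : 7 ∣ i := Nat.dvd_of_mod_eq_zero hi7.1
        have h1' : 7 * (j * i') ≡ 7 * i' [MOD 7 * 7] := by
          rw [show 7 * (j * i') = j * (7 * i') by ring]; exact h1
        have h1'' : j * i' ≡ i' [MOD 7] := Nat.ModEq.mul_left_cancel' (by norm_num) h1'
        unfold Nat.ModEq at h1''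
        rw [Nat.mul_mod, Nat.mod_eq_of_lt (show i' < 7 by omega)] at h1''
        have := (by decide : ∀ a < 7, ∀ b < 7, b ≠ 0 → a * b % 7 = b → a = 1) (j % 7) (Nat.mod_lt _ (by norm_num))
          i' (by omega) (by omega) h1''
        exact this
      unfold Nat.ModEq at h2
      exact (by decide : ∀ a < 49, a % 7 = 1 → a * (a * a) % 49 = 1 % 49 → a = 1) j (Finset.mem_range.mp hj) hj7 h2
    refine hr0m ?_
    rw [hRz] at hr0
    obtain ⟨k, rfl⟩ := hr0
    rw [hj1, pow_one] at hjr
    have : Commute h r := mul_inv_eq_iff_eq_mul.mp hjr.symm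
    exact (this.zpow_right k).eq
  refine ⟨R, h, hRp, hR49, hxR, F.order, hRle, hexp, hh3, hcomm, hhnorm, hmoves, ?_, ?_, ?_⟩
  · intro W hW hle
    rw [← Nat.card_congr (Subgroup.subgroupOfEquivOfLe hle).toEquiv]
    obtain ⟨P', hP'⟩ := (hW.comap_of_injective C.subtype C.subtype_injective).exists_le_sylow
    refine (Subgroup.card_le_of_le hP').trans ?_
    rw [P'.card_eq_multiplicity, hfac]
    norm_num
  · intro W hW hle hW49
    obtain ⟨P', hP'⟩ := (hW.comap_of_injective C.subtype C.subtype_injective).exists_le_sylow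
    obtain ⟨c, hc⟩ := MulAction.exists_smul_eq ↥C P' P
    refine ⟨c, c.2, fun w hw => ⟨c * ⟨w, hle hw⟩ * c⁻¹, ?_, rfl⟩⟩
    rw [← hc, Sylow.coe_subgroup_smul]
    exact Subgroup.smul_mem_pointwise_smul _ _ _ (hP' hw)
  · intro g hgC hgR
    have hgN : (⟨g, hgC⟩ : ↥C) ∈ NR := mem_normalizer_of_maps fun y hy => by
      obtain ⟨y', hy', hy'e⟩ := (Subgroup.mem_normalizer_iff.mp hgR (y : L)).mp ⟨y, hy, rfl⟩
      exact (show y' = ⟨g, hgC⟩ * y * ⟨g, hgC⟩⁻¹ from Subtype.ext hy'e) ▸ hy'
    set P0 := (P : Subgroup ↥C).subgroupOf NR with hP0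
    haveI hP0n : P0.Normal := Subgroup.normal_in_normalizer
    have hq3 : Nat.card (↥NR ⧸ P0) = 3 := by
      have h := P0.card_mul_index
      rw [hP0, Nat.card_congr (Subgroup.subgroupOfEquivOfLe Subgroup.le_normalizer).toEquiv,
        show Nat.card (P : Subgroup ↥C) = 49 from hP49, hNR147] at h
      rw [← Subgroup.index_eq_card]
      rw [hP0]
      omega
    set h0 : ↥NR := ⟨⟨h, hhC⟩, hhN⟩
    have hh0 : QuotientGroup.mk' P0 h0 ≠ 1 := fun e => by
      have h4 := Subgroup.orderOf_dvd_natCard R ⟨⟨h, hhC⟩, (QuotientGroup.eq_one_iff h0).mp e, rfl⟩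
      rw [Subgroup.subtype_apply, hh3, hR49] at h4
      norm_num at h4
    have htop := zpowers_eq_top_of_prime_card hq3 hh0
    have hg' : QuotientGroup.mk' P0 ⟨⟨g, hgC⟩, hgN⟩ ∈ Subgroup.zpowers (QuotientGroup.mk' P0 h0) :=
      htop ▸ Subgroup.mem_top _
    rw [← mem_powers_iff_mem_zpowers] at hg'
    obtain ⟨i, hi⟩ := hg'
    have hi' : (QuotientGroup.mk' P0 h0) ^ i = QuotientGroup.mk' P0 ⟨⟨g, hgC⟩, hgN⟩ := hi
    rw [← map_pow, QuotientGroup.mk'_eq_mk'] at hi'
    obtain ⟨z, hz, hze⟩ := hi'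
    have hze' : h ^ i * ((z : ↥C) : L) = g := congrArg Subtype.val (congrArg Subtype.val hze)
    refine ⟨h ^ i * ((z : ↥C) : L) * (h ^ i)⁻¹, ?_, i, by rw [← hze']; group⟩
    exact (Subgroup.mem_normalizer_iff.mp (pow_mem hhnorm i) _).mp ⟨z, hz, rfl⟩

end EightHyp

end CfsgLib.S3Simple
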