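import Cfsg.Agent.Lib.S3Simple.Eight.SevenBase
import Cfsg.Agent.Lib.S3Simple.Eight.Plane
import Cfsg.Agent.Lib.Coprime

/-!
5.3 for `r = 7`, second part: a seven-subgroup above `R` normalised by `h` has a plane as its quotient by the
derived subgroup, and the normaliser fixes a line of it and centralises `x` modulo this line.

Blueprint: `blueprint/S3Free.md`, 5.3.
-/

set_option autoImplicit false
set_option linter.unusedSectionVars false
set_option linter.style.haveILetI false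

namespace CfsgLib.S3Simple

open Cfsg CfsgLib.Comp CfsgLib.AfterFT.CoreSep commutatorElement

universe u

variable {L : Type u} [Group L] [Finite L]

/-- The normaliser acts on the commutative quotient. -/
noncomputable def abAct (Q : Subgroup L) : ↥(Subgroup.normalizer (Q : Set L)) →* MulAut (Abelianization ↥Q) where
  toFun n := MulEquiv.abelianizationCongr (Q.normalizerMonoidHom n)
  map_one' := by
    rw [map_one]
    exact abelianizationCongr_refl
  map_mul' a b := by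
    rw [map_mul]
    exact (abelianizationCongr_trans (Q.normalizerMonoidHom b) (Q.normalizerMonoidHom a)).symm

theorem abAct_of (Q : Subgroup L) (n : ↥(Subgroup.normalizer (Q : Set L))) (q : ↥Q) :
    abAct Q n (Abelianization.of q) = Abelianization.of (Q.normalizerMonoidHom n q) :=
  abelianizationCongr_of _ _

theorem ab_of_mem (Q : Subgroup L) (q r : ↥Q) (n : ↥(Subgroup.normalizer (Q : Set L))) (hn : (n : L) = q) :
    abAct Q n (Abelianization.of r) = Abelianization.of r := by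
  rw [abAct_of, show Q.normalizerMonoidHom n r = q * r * q⁻¹ from Subtype.ext (by
    show (n : L) * r * (n : L)⁻¹ = _
    rw [hn]; rfl), map_mul, map_mul, map_inv, mul_inv_cancel_comm]

/-- The output at a seven-subgroup. -/
structure SevenPlane (x h : L) (Q W : Subgroup L) : Prop where
  le : W ≤ Q
  not_mem : x ∉ W
  index : Nat.card W * 7 = Nat.card Q
  comm : (commutator ↥Q).map Q.subtype ≤ W
  norm : Subgroup.normalizer (Q : Set L) ≤ Subgroup.normalizer (W : Set L)
  move : ∀ g ∈ Subgroup.normalizer (Q : Set L), g * x * g⁻¹ * x⁻¹ ∈ W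
  cover : ∀ q ∈ Q, ∃ i : ℕ, (x ^ i)⁻¹ * q ∈ W
  max : ∀ K : Subgroup L, (commutator ↥Q).map Q.subtype ≤ K → K ≤ Q → (∀ k ∈ K, h * k * h⁻¹ ∈ K) → x ∉ K → K ≤ W
  unique : ∀ P₁ P₂ : Sylow 7 ↥(Subgroup.normalizer (Q : Set L)), P₁ = P₂

namespace SevenBase

variable {x h : L} {R : Subgroup L} (B : SevenBase x R h)
include B

theorem pow_mem_iff {i : ℕ} {W : Subgroup L} (hW : x ∉ W) : x ^ i ∈ W ↔ 7 ∣ i := by
  refine ⟨fun hi => ?_, fun ⟨c, hc⟩ => ?_⟩
  · by_contra h7
    obtain ⟨l, hl⟩ := exists_pow_eq_self_of_coprime (x := x) (n := i)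
      (by rw [B.order]; exact Nat.coprime_comm.mp ((Nat.Prime.coprime_iff_not_dvd (by norm_num)).mpr h7))
    exact hW (hl ▸ W.pow_mem hi l)
  · rw [hc, pow_mul, ← B.order, pow_orderOf_eq_one, one_pow]
    exact one_mem _

theorem cent_eq {W : Subgroup L} (hW : IsPGroup 7 W) (hRW : R ≤ W) (hWx : W ≤ Subgroup.centralizer ({x} : Set L)) :
    W = R :=
  (Subgroup.eq_of_le_of_card_ge hRW (by rw [B.card]; exact B.cap hW hWx)).symm

theorem cent_mem {Q : Subgroup L} (hQ : IsPGroup 7 Q) (hRQ : R ≤ Q) {q : L} (hq : q ∈ Q) (hqx : q * x = x * q) :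
    q ∈ R :=
  B.cent_eq (W := Q ⊓ Subgroup.centralizer ({x} : Set L)) (hQ.to_le inf_le_left) (le_inf hRQ B.le) inf_le_right ▸
    ⟨hq, Subgroup.mem_centralizer_singleton_iff.mpr hqx⟩

theorem not_cyclic : ¬ IsCyclic R := by
  intro hc
  obtain ⟨g, hg⟩ := IsCyclic.exists_generator (α := R)
  have h1 := orderOf_eq_card_of_forall_mem_zpowers hg
  have h2 : orderOf g ∣ 7 := orderOf_dvd_of_pow_eq_one (Subtype.ext (B.exp _ g.2))
  rw [h1, B.card] at h2
  norm_num at h2

end SevenBase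

namespace EightHyp

variable {S : Sylow 2 L} {A : Subgroup L} (H : EightHyp S A)
include H

set_option maxHeartbeats 1000000 in
theorem seven_plane {x h : L} {R : Subgroup L} (F : FieldHyp A x 7) (B : SevenBase x R h) {Q : Subgroup L}
    (hQ : IsPGroup 7 Q) (hRQ : R ≤ Q) (hhQ : h ∈ Subgroup.normalizer (Q : Set L)) :
    ∃ W : Subgroup L, SevenPlane x h Q W := by
  classical
  haveI := seven_prime
  set N := Subgroup.normalizer (Q : Set L) with hN
  set V := Abelianization ↥Q with hV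
  set π : ↥Q →* V := Abelianization.of with hπ
  have hsurj : Function.Surjective π := QuotientGroup.mk_surjective
  have hker : ∀ q : ↥Q, π q = 1 ↔ q ∈ commutator ↥Q := fun q => QuotientGroup.eq_one_iff q
  set Kc := (commutator ↥Q).map Q.subtype with hKc
  have hxQ : x ∈ Q := hRQ B.mem
  -- conjugation covers the cosets
  have horbit : ∀ z : L, z ∈ Q → (∀ q ∈ Q, q * z = z * q → q ∈ R) → (∀ r ∈ R, r * z = z * r) →
      Nat.card (↥Q ⧸ R.subgroupOf Q) ≤ Nat.card (commutator ↥Q) ∧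
      (Nat.card (↥Q ⧸ R.subgroupOf Q) = Nat.card (commutator ↥Q) →
        ∀ c ∈ commutator ↥Q, ∃ q ∈ Q, q * z * q⁻¹ * z⁻¹ = (c : L)) := by
    intro z hz hcent hRz
    let f : ↥Q ⧸ R.subgroupOf Q → ↥(commutator ↥Q) := Quotient.lift
      (fun q => ⟨⁅q, (⟨z, hz⟩ : ↥Q)⁆, Subgroup.commutator_mem_commutator (Subgroup.mem_top _) (Subgroup.mem_top _)⟩)
      fun a b hab => by
        have h' : (a : L)⁻¹ * b ∈ R := (QuotientGroup.leftRel_apply.mp hab : a⁻¹ * b ∈ R.subgroupOf Q)
        refine Subtype.ext (Subtype.ext ?_)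
        show (a : L) * z * (a : L)⁻¹ * z⁻¹ = b * z * (b : L)⁻¹ * z⁻¹
        congr 1
        have e := hRz _ h'
        calc (a : L) * z * (a : L)⁻¹ = a * (z * ((a : L)⁻¹ * b)) * (b : L)⁻¹ := by group
          _ = a * (((a : L)⁻¹ * b) * z) * (b : L)⁻¹ := by rw [e]
          _ = b * z * (b : L)⁻¹ := by group
    have hf : Function.Injective f := by
      rintro ⟨a⟩ ⟨b⟩ e
      refine QuotientGroup.eq.mpr ?_
      have e' : (a : L) * z * (a : L)⁻¹ * z⁻¹ = b * z * (b : L)⁻¹ * z⁻¹ :=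
        congrArg Subtype.val (congrArg Subtype.val e)
      have e2 := mul_right_cancel e'
      refine hcent _ (mul_mem (inv_mem a.2) b.2) ?_
      calc (a : L)⁻¹ * b * z = (a : L)⁻¹ * ((b : L) * z * (b : L)⁻¹) * b := by group
        _ = (a : L)⁻¹ * ((a : L) * z * (a : L)⁻¹) * b := by rw [e2]
        _ = z * ((a : L)⁻¹ * b) := by group
    refine ⟨Nat.card_le_card_of_injective f hf, fun he c hc => ?_⟩
    obtain ⟨⟨q⟩, hq⟩ := ((Nat.bijective_iff_injective_and_card f).mpr ⟨hf, he⟩).2 ⟨c, hc⟩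
    exact ⟨q, q.2, congrArg Subtype.val (congrArg Subtype.val hq)⟩
  have hRx : ∀ r ∈ R, r * x = x * r := fun r hr => Subgroup.mem_centralizer_singleton_iff.mp (B.le hr)
  obtain ⟨hle, -⟩ := horbit x hxQ (fun q hq => B.cent_mem hQ hRQ hq) hRx
  -- the order of the quotient
  have hmul : Nat.card V * Nat.card (commutator ↥Q) = Nat.card ↥Q :=
    (Subgroup.card_eq_card_quotient_mul_card_subgroup _).symm
  have hRidx : 49 * Nat.card (↥Q ⧸ R.subgroupOf Q) = Nat.card ↥Q := by
    rw [← Subgroup.index_eq_card, ← B.card, ← Nat.card_congr (Subgroup.subgroupOfEquivOfLe hRQ).toEquiv,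
      Subgroup.card_mul_index]
  have hncyc : ¬ IsCyclic V := by
    intro hc
    obtain ⟨g, hg⟩ := IsCyclic.exists_generator (α := V)
    obtain ⟨a, rfl⟩ := hsurj g
    have hsup : Subgroup.zpowers a ⊔ frattini ↥Q = ⊤ := by
      refine top_le_iff.mp fun q _ => ?_
      obtain ⟨i, hi⟩ := Subgroup.mem_zpowers_iff.mp (hg (π q))
      rw [show q = a ^ i * ((a ^ i)⁻¹ * q) by group]
      refine Subgroup.mul_mem_sup (Subgroup.zpow_mem _ (Subgroup.mem_zpowers a) i) ?_
      refine commutator_le_frattini_pGroup hQ ((hker _).mp ?_)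
      rw [map_mul, map_inv, map_zpow, hi, inv_mul_cancel]
    have htop := frattini_nongenerating hsup
    haveI : IsCyclic ↥Q := ⟨⟨a, fun q => htop.ge (Subgroup.mem_top q)⟩⟩
    exact B.not_cyclic (isCyclic_of_injective (Subgroup.inclusion hRQ) (Subgroup.inclusion_injective hRQ))
  have hV49 : Nat.card V = 49 := by
    have hVle : Nat.card V ≤ 49 := by
      have hpos : 0 < Nat.card (commutator ↥Q) := Nat.card_pos
      refine Nat.le_of_mul_le_mul_right ?_ hpos
      rw [hmul, ← hRidx]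
      exact Nat.mul_le_mul_left 49 hle
    obtain ⟨k, hk⟩ := IsPGroup.iff_card.mp (hQ.of_surjective π hsurj)
    rcases k with - | - | k
    · haveI : Subsingleton V := (Nat.card_eq_one_iff_unique.mp (hk.trans (pow_zero 7))).1
      exact absurd isCyclic_of_subsingleton hncyc
    · exact absurd (isCyclic_of_prime_card (hk.trans (pow_one 7))) hncyc
    · refine le_antisymm hVle ?_
      rw [hk]
      calc (49 : ℕ) = 7 ^ 2 := by norm_num
        _ ≤ 7 ^ (k + 1 + 1) := Nat.pow_le_pow_right (by norm_num) (by omega)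
  have hexp : ∀ w : V, w ^ 7 = 1 := by
    intro w
    obtain ⟨k, hk, hk'⟩ := (Nat.dvd_prime_pow (by norm_num : Nat.Prime 7)).mp
      (show orderOf w ∣ 7 ^ 2 by have := orderOf_dvd_natCard w; rw [hV49] at this; exact this)
    interval_cases k
    · rw [← orderOf_dvd_iff_pow_eq_one, hk']; norm_num
    · rw [← orderOf_dvd_iff_pow_eq_one, hk']; norm_num
    · exact absurd (isCyclic_of_orderOf_eq_card w (hk'.trans (by rw [hV49]; norm_num))) hncyc
  have hKeq : Nat.card (↥Q ⧸ R.subgroupOf Q) = Nat.card (commutator ↥Q) := by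
    rw [hV49] at hmul
    omega
  have hsurj' : ∀ i : ℕ, ¬ 7 ∣ i → ∀ c ∈ commutator ↥Q, ∃ q ∈ Q, q * x ^ i * q⁻¹ * (x ^ i)⁻¹ = (c : L) := by
    intro i hi
    obtain ⟨l, hl⟩ := exists_pow_eq_self_of_coprime (x := x) (n := i)
      (by rw [B.order]; exact Nat.coprime_comm.mp ((Nat.Prime.coprime_iff_not_dvd (by norm_num)).mpr hi))
    refine (horbit (x ^ i) (Q.pow_mem hxQ i) (fun q hq e => B.cent_mem hQ hRQ hq ?_)
      fun r hr => ((show Commute r x from hRx r hr).pow_right i).eq).2 hKeq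
    have := ((show Commute q (x ^ i) from e).pow_right l).eq
    rwa [hl] at this
  set v : V := π ⟨x, hxQ⟩ with hv
  have hv1 : v ≠ 1 := by
    intro e
    obtain ⟨q, -, hq⟩ := hsurj' 1 (by norm_num) _ (inv_mem ((hker _).mp e))
    rw [pow_one] at hq
    push_cast at hq
    rw [mul_eq_right, conj_eq_one_iff] at hq
    have := B.order
    rw [hq, orderOf_one] at this
    norm_num at this
  -- the action
  set act := abAct Q with hact
  have hactπ : ∀ (n : ↥N) (q : ↥Q), act n (π q) = π (Q.normalizerMonoidHom n q) := abAct_of Q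
  set h0 : ↥N := ⟨h, hhQ⟩ with hh0
  have hh0v : act h0 v = v := by
    rw [hv, hactπ]
    refine congrArg π (Subtype.ext ?_)
    show h * x * h⁻¹ = x
    rw [B.comm, mul_inv_cancel_right]
  have hQact : ∀ n : ↥N, (n : L) ∈ Q → act n = 1 := fun n hn => MulEquiv.ext fun w => by
    obtain ⟨r, rfl⟩ := hsurj w
    exact ab_of_mem Q ⟨n, hn⟩ r n rfl
  have hstab : ∀ n : ↥N, act n v = v → ∃ q : ↥N, (q : L) ∈ Q ∧ ∃ i : ℕ, n = q * h0 ^ i := by
    intro n hn
    rw [hv, hactπ, ← mul_inv_eq_one, ← map_inv, ← map_mul] at hn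
    obtain ⟨q, hq, hqe⟩ := hsurj' 1 (by norm_num) _ ((hker _).mp hn)
    rw [pow_one] at hqe
    have hqe' : q * x * q⁻¹ * x⁻¹ = (n : L) * x * (n : L)⁻¹ * x⁻¹ := hqe
    have hcx : q⁻¹ * (n : L) ∈ Subgroup.centralizer ({x} : Set L) := by
      refine Subgroup.mem_centralizer_singleton_iff.mpr ?_
      have e := mul_right_cancel hqe'
      calc q⁻¹ * (n : L) * x = q⁻¹ * ((n : L) * x * (n : L)⁻¹) * n := by group
        _ = q⁻¹ * (q * x * q⁻¹) * n := by rw [e]
        _ = x * (q⁻¹ * n) := by group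
    have hqN : q⁻¹ * (n : L) ∈ N := N.mul_mem (Subgroup.le_normalizer (Q.inv_mem hq)) n.2
    have hnR : q⁻¹ * (n : L) ∈ Subgroup.normalizer (R : Set L) := mem_normalizer_of_maps fun r hr => by
      refine B.cent_mem hQ hRQ ((Subgroup.mem_normalizer_iff.mp hqN r).mp (hRQ hr)) ?_
      refine Subgroup.mem_centralizer_singleton_iff.mp ?_
      exact mul_mem (mul_mem hcx (B.le hr)) (inv_mem hcx)
    obtain ⟨r, hr, i, hi⟩ := B.stab _ hcx hnR
    refine ⟨⟨q * r, Subgroup.le_normalizer (Q.mul_mem hq (hRQ hr))⟩, Q.mul_mem hq (hRQ hr), i, Subtype.ext ?_⟩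
    show (n : L) = q * r * ((h0 ^ i : ↥N) : L)
    rw [SubmonoidClass.coe_pow]
    show (n : L) = q * r * h ^ i
    rw [mul_assoc, ← hi, mul_inv_cancel_left]
  have hh0ne : act h0 ≠ 1 := by
    intro e
    have hfixQ : ∀ k ∈ Q, h * k = k * h := by
      have hcop : (Nat.card (Subgroup.zpowers h)).Coprime (Nat.card Q) := by
        obtain ⟨j, hj⟩ := IsPGroup.iff_card.mp hQ
        rw [Nat.card_zpowers, B.three, hj]
        exact Nat.Coprime.pow_right j (by norm_num)
      have hAQ : Subgroup.zpowers h ≤ Subgroup.normalizer (Q : Set L) := Subgroup.zpowers_le.mpr hhQ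
      have hKn : ∀ g ∈ N, g ∈ Subgroup.normalizer (Kc : Set L) := fun g hg => mem_normalizer_of_maps fun y hy => by
        obtain ⟨y, hy, rfl⟩ := hy
        exact ⟨Q.normalizerMonoidHom ⟨g, hg⟩ y, (Subgroup.characteristic_iff_comap_eq.mp inferInstance
          (Q.normalizerMonoidHom ⟨g, hg⟩)).ge hy, rfl⟩
      have hmem : ∀ k : ↥Q, ∀ a ∈ Subgroup.zpowers h, a * (k : L) * a⁻¹ * (k : L)⁻¹ ∈ Kc := by
        intro k a ha
        obtain ⟨i, rfl⟩ := Subgroup.mem_zpowers_iff.mp ha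
        refine ⟨Q.normalizerMonoidHom (h0 ^ i) k * k⁻¹, (hker _).mp ?_, ?_⟩
        · rw [map_mul, map_inv, ← hactπ, map_zpow, e, one_zpow, MulAut.one_apply, mul_inv_cancel]
        · show ((h0 ^ i : ↥N) : L) * k * ((h0 ^ i : ↥N) : L)⁻¹ * (k : L)⁻¹ = _
          rw [SubgroupClass.coe_zpow]
      set Cq : Subgroup ↥Q := (Subgroup.centralizer ({h} : Set L)).subgroupOf Q with hCq
      have hsup : Cq ⊔ frattini ↥Q = ⊤ := by
        refine top_le_iff.mp fun k _ => ?_
        obtain ⟨c, hc, hkc⟩ := coprime_fixed_quotient hAQ hcop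
          (Or.inr (by haveI : Group.IsNilpotent ↥Q := hQ.isNilpotent; infer_instance))
          (Subgroup.map_subtype_le _) (fun g hg => hKn g (Subgroup.le_normalizer hg))
          (fun g hg => hKn g (hAQ hg)) k.2 (hmem k)
        obtain ⟨y, hy, hye⟩ := hkc
        rw [show k = (⟨c, hc.1⟩ : ↥Q) * y⁻¹ from Subtype.ext (by
          show (k : L) = c * (y : L)⁻¹
          rw [show (y : L) = (k : L)⁻¹ * c from hye]; group)]
        exact Subgroup.mul_mem_sup (Subgroup.mem_centralizer_singleton_iff.mpr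
          (hc.2 h (Subgroup.mem_zpowers h)).symm) (commutator_le_frattini_pGroup hQ (inv_mem hy))
      have htop := frattini_nongenerating hsup
      intro k hk
      exact (Subgroup.mem_centralizer_singleton_iff.mp
        ((htop ▸ Subgroup.mem_top (⟨k, hk⟩ : ↥Q) : (⟨k, hk⟩ : ↥Q) ∈ Cq))).symm
    obtain ⟨r, hr, hne⟩ := B.moves
    exact hne (hfixQ r (hRQ hr))
  have hh3 : orderOf (act h0) = 3 := by
    haveI : Fact (Nat.Prime 3) := ⟨Nat.prime_three⟩
    refine orderOf_eq_prime ?_ hh0ne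
    rw [← map_pow, show h0 ^ 3 = 1 from Subtype.ext (by
      rw [SubmonoidClass.coe_pow]; exact B.three ▸ pow_orderOf_eq_one h), map_one]
  set Γ := act.range with hΓ
  have hfree : ¬ Involves (Equiv.Perm (Fin 3)) ↥Γ := fun hi =>
    free_quotient (free_subgroup H.hyp.free N) act.ker
      (GoldschmidtS3.involves_congr (QuotientGroup.quotientKerEquivRange act).symm hi)
  have hline : ∀ (g : ↥Γ) (i : ℕ), Γ.subtype g v = v ^ i → Γ.subtype g v = v := by
    rintro ⟨_, n, rfl⟩ i hi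
    change act n v = v ^ i at hi
    show act n v = v
    by_cases h7 : 7 ∣ i
    · obtain ⟨c, rfl⟩ := h7
      rw [pow_mul, hexp, one_pow] at hi
      exact absurd ((act n).injective (hi.trans (map_one _).symm)) hv1
    rw [hv, hactπ, ← map_pow, ← mul_inv_eq_one, ← map_inv, ← map_mul] at hi
    obtain ⟨q, hq, hqe⟩ := hsurj' i h7 _ ((hker _).mp hi)
    have hqe' : q * x ^ i * q⁻¹ * (x ^ i)⁻¹ = (n : L) * x * (n : L)⁻¹ * (x ^ i)⁻¹ := by
      rw [hqe]; rfl
    have e := mul_right_cancel hqe'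
    have e2 : q⁻¹ * (n : L) * x * (q⁻¹ * (n : L))⁻¹ = x ^ i := by
      calc q⁻¹ * (n : L) * x * (q⁻¹ * (n : L))⁻¹ = q⁻¹ * ((n : L) * x * (n : L)⁻¹) * q := by group
        _ = q⁻¹ * (q * x ^ i * q⁻¹) * q := by rw [e]
        _ = x ^ i := by group
    have hmem : q⁻¹ * (n : L) ∈ Subgroup.normalizer (Subgroup.zpowers x : Set L) :=
      mem_normalizer_of_maps fun y hy => by
        obtain ⟨j, rfl⟩ := Subgroup.mem_zpowers_iff.mp hy
        rw [← conj_zpow, e2]
        exact Subgroup.zpow_mem _ (Subgroup.npow_mem_zpowers x i) j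
    rw [F.normalizer, ← F.centralizer, Subgroup.mem_centralizer_singleton_iff] at hmem
    rw [hmem, mul_inv_cancel_right] at e2
    have : x ^ i = x := e2.symm
    rw [hv, hactπ]
    refine mul_inv_eq_one.mp ?_
    rw [← map_inv, ← map_mul]
    refine (hker _).mpr ?_
    have hc := (hker _).mp hi
    convert hc using 2
    exact congrArg (fun z => z⁻¹) (Subtype.ext (by simpa using this.symm))
  obtain ⟨huniq, Wb, hW7, hvW, hWinv, hWmove⟩ := plane (v := v) hfree Γ.subtype Subtype.coe_injective hV49 hexp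
    hv1 hline (h := ⟨act h0, h0, rfl⟩) (by rw [← Subgroup.orderOf_coe]; exact hh3) hh0v (by
      rintro ⟨_, n, rfl⟩ hn
      obtain ⟨q, hq, i, hni⟩ := hstab n hn
      refine Subgroup.mem_zpowers_iff.mpr ⟨(i : ℤ), Subtype.ext ?_⟩
      rw [zpow_natCast, SubmonoidClass.coe_pow]
      show act h0 ^ i = act n
      rw [hni, map_mul, hQact q hq, one_mul, map_pow])
  set W := (Wb.comap π).map Q.subtype with hW
  have hWmem : ∀ {z : L} (hz : z ∈ Q), z ∈ W ↔ π ⟨z, hz⟩ ∈ Wb := fun {z} hz =>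
    ⟨fun ⟨y, hy, e⟩ => (show y = ⟨z, hz⟩ from Subtype.ext e) ▸ hy, fun hm => ⟨_, hm, rfl⟩⟩
  have hinv' : ∀ (n : ↥N) (w : V), w ∈ Wb → act n w ∈ Wb := fun n w hw => by
    have h1 : Wb.map (act n).toMonoidHom = Wb := hWinv ⟨act n, n, rfl⟩
    exact h1 ▸ Subgroup.mem_map_of_mem _ hw
  obtain ⟨w, hw, hw1⟩ : ∃ w ∈ Wb, w ≠ 1 := Wb.ne_bot_iff_exists_ne_one.mp (fun e => by
    rw [e, Subgroup.card_bot] at hW7; norm_num at hW7) |>.elim fun a ha => ⟨a, a.2, fun e => ha (Subtype.ext e)⟩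
  have hWz : Wb = Subgroup.zpowers w := (Subgroup.eq_of_le_of_card_ge (Subgroup.zpowers_le.mpr hw)
    (by rw [Nat.card_zpowers, PlaneSeven.orderOf_seven hexp hw1, hW7])).symm
  have hwv : w ∉ Subgroup.zpowers v := fun hm => by
    refine hvW ?_
    have e : Subgroup.zpowers w = Subgroup.zpowers v := Subgroup.eq_of_le_of_card_ge (Subgroup.zpowers_le.mpr hm)
      (by rw [Nat.card_zpowers, Nat.card_zpowers, PlaneSeven.orderOf_seven hexp hw1, PlaneSeven.orderOf_seven hexp hv1])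
    exact hWz ▸ e ▸ Subgroup.mem_zpowers v
  refine ⟨W, Subgroup.map_subtype_le _, fun hm => hvW ((hWmem hxQ).mp hm), ?_, ?_, fun g hg => ?_, fun g hg => ?_,
    fun q hq => ?_, fun K hKc' hKQ hKh hxK => ?_, fun P₁ P₂ => ?_⟩
  · rw [hW, Subgroup.card_map_of_injective Q.subtype_injective, ← (Wb.comap π).card_mul_index,
      Subgroup.index_comap_of_surjective _ hsurj]
    have := Wb.card_mul_index
    rw [hV49, hW7] at this
    rw [show Wb.index = 7 by omega]
  · rintro _ ⟨y, hy, rfl⟩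
    refine (hWmem y.2).mpr ?_
    rw [show (⟨((y : ↥Q) : L), y.2⟩ : ↥Q) = y from rfl, (hker y).mpr hy]
    exact one_mem _
  · refine mem_normalizer_of_maps fun y hy => ?_
    have hyQ : y ∈ Q := Subgroup.map_subtype_le _ hy
    refine (hWmem ((Subgroup.mem_normalizer_iff.mp hg y).mp hyQ)).mpr ?_
    have := hinv' ⟨g, hg⟩ _ ((hWmem hyQ).mp hy)
    rwa [hactπ] at this
  · have hgx : g * x * g⁻¹ * x⁻¹ ∈ Q := Q.mul_mem ((Subgroup.mem_normalizer_iff.mp hg x).mp hxQ) (Q.inv_mem hxQ)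
    refine (hWmem hgx).mpr ?_
    have := hWmove ⟨act ⟨g, hg⟩, _, rfl⟩
    change act ⟨g, hg⟩ v * v⁻¹ ∈ Wb at this
    rwa [hv, hactπ, ← map_inv, ← map_mul] at this
  · obtain ⟨a, b, hab⟩ := PlaneSeven.span hV49 hexp hv1 hwv (π ⟨q, hq⟩)
    refine ⟨a, (hWmem (Q.mul_mem (Q.inv_mem (Q.pow_mem hxQ a)) hq)).mpr ?_⟩
    rw [show (⟨(x ^ a)⁻¹ * q, Q.mul_mem (Q.inv_mem (Q.pow_mem hxQ a)) hq⟩ : ↥Q) = (⟨x, hxQ⟩ ^ a)⁻¹ * ⟨q, hq⟩ from rfl,
      map_mul, map_inv, map_pow, hab, ← hv, inv_mul_cancel_left]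
    exact pow_mem hw b
  · intro k hk
    set Kb := (K.subgroupOf Q).map π with hKb
    have hvK : v ∉ Kb := by
      rintro ⟨y, hy, hye⟩
      refine hxK ?_
      have : y⁻¹ * ⟨x, hxQ⟩ ∈ commutator ↥Q := (hker _).mp (by rw [map_mul, map_inv, hye, ← hv, inv_mul_cancel])
      have h1 : (y : L) * ((y : L)⁻¹ * x) ∈ K := K.mul_mem hy (hKc' ⟨_, this, rfl⟩)
      rwa [mul_inv_cancel_left] at h1
    have hva : ∀ a : ℕ, v ^ a ∈ Kb → v ^ a = 1 := by
      intro a ha
      by_contra hne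
      refine hvK ?_
      have h7 : ¬ 7 ∣ a := fun ⟨c, hc⟩ => hne (by rw [hc, pow_mul, hexp, one_pow])
      obtain ⟨l, hl⟩ := exists_pow_eq_self_of_coprime (x := v) (n := a) (by
        rw [PlaneSeven.orderOf_seven hexp hv1]
        exact Nat.coprime_comm.mp ((Nat.Prime.coprime_iff_not_dvd (by norm_num)).mpr h7))
      exact hl ▸ Kb.pow_mem ha l
    set u := π ⟨k, hKQ hk⟩ with hu
    have huK : u ∈ Kb := Subgroup.mem_map_of_mem π hk
    obtain ⟨a, b, hab⟩ := PlaneSeven.span hV49 hexp hv1 hwv u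
    refine (hWmem (hKQ hk)).mpr ?_
    rw [← hu, hab]
    suffices hva1 : v ^ a = 1 by rw [hva1, one_mul]; exact pow_mem hw b
    refine hva a ?_
    by_cases hwb : w ^ b = 1
    · rw [hab, hwb, mul_one] at huK; exact huK
    suffices hwK : w ^ b ∈ Kb by
      have := Kb.mul_mem huK (Kb.inv_mem hwK)
      rwa [hab, mul_inv_cancel_right] at this
    have hd : act h0 (w ^ b) * (w ^ b)⁻¹ ∈ Kb := by
      have h1 : act h0 u * u⁻¹ ∈ Kb := by
        refine Kb.mul_mem ?_ (Kb.inv_mem huK)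
        rw [hu, hactπ]
        exact Subgroup.mem_map_of_mem π (hKh k hk)
      rwa [hab, map_mul, map_pow (act h0) v, hh0v, mul_inv_rev, mul_comm (w ^ b)⁻¹, mul_assoc,
        ← mul_assoc (act h0 (w ^ b)), mul_comm (act h0 (w ^ b)) (v ^ a)⁻¹, mul_assoc, mul_inv_cancel_left] at h1
    by_cases hfix : act h0 (w ^ b) = w ^ b
    · refine absurd ?_ hh0ne
      refine MulEquiv.ext fun z => ?_
      obtain ⟨l, hl⟩ := exists_pow_eq_self_of_coprime (x := w) (n := b) (by
        rw [PlaneSeven.orderOf_seven hexp hw1]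
        exact Nat.coprime_comm.mp ((Nat.Prime.coprime_iff_not_dvd (by norm_num)).mpr
          fun ⟨c, hc⟩ => hwb (by rw [hc, pow_mul, hexp, one_pow])))
      obtain ⟨i, j, rfl⟩ := PlaneSeven.span hV49 hexp hv1 hwv z
      rw [MulAut.one_apply, map_mul, map_pow, map_pow, hh0v]
      congr 2
      rw [← hl, map_pow, hfix]
    · have hdW : act h0 (w ^ b) * (w ^ b)⁻¹ ∈ Wb :=
        Wb.mul_mem (hinv' h0 _ (pow_mem hw b)) (Wb.inv_mem (pow_mem hw b))
      have hd1 : act h0 (w ^ b) * (w ^ b)⁻¹ ≠ 1 := fun e => hfix (mul_inv_eq_one.mp e)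
      have e : Subgroup.zpowers (act h0 (w ^ b) * (w ^ b)⁻¹) = Wb := Subgroup.eq_of_le_of_card_ge
        (Subgroup.zpowers_le.mpr hdW) (by rw [Nat.card_zpowers, PlaneSeven.orderOf_seven hexp hd1, hW7])
      exact (e.ge.trans (Subgroup.zpowers_le.mpr hd)) (pow_mem hw b)
  · -- the Sylow subgroup of the normaliser
    have hQn : (Q.subgroupOf N).Normal := Subgroup.normal_in_normalizer
    have hQp : IsPGroup 7 (Q.subgroupOf N) := hQ.comap_of_injective N.subtype N.subtype_injective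
    have hQall : ∀ P : Sylow 7 ↥N, Q.subgroupOf N ≤ (P : Subgroup ↥N) := by
      intro P
      obtain ⟨P0, hP0⟩ := hQp.exists_le_sylow
      obtain ⟨g, hg⟩ := MulAction.exists_smul_eq ↥N P0 P
      intro y hy
      rw [← hg, Sylow.coe_subgroup_smul, Subgroup.mem_pointwise_smul_iff_inv_smul_mem]
      refine hP0 ?_
      have := hQn.conj_mem y hy g⁻¹
      simpa [MulAut.smul_def, MulAut.inv_apply] using this
    have hrs : Function.Surjective act.rangeRestrict := act.rangeRestrict_surjective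
    have key : ∀ P P' : Sylow 7 ↥N, (P : Subgroup ↥N) ≤ P' := by
      intro P P' y hy
      have h1 : act.rangeRestrict y ∈ ((P'.mapSurjective hrs : Sylow 7 ↥Γ) : Subgroup ↥Γ) :=
        huniq (P.mapSurjective hrs) (P'.mapSurjective hrs) ▸ Subgroup.mem_map_of_mem act.rangeRestrict hy
      obtain ⟨y', hy', hye⟩ := h1
      have he : act (y'⁻¹ * y) = 1 := by
        rw [map_mul, map_inv, show act y' = act y from congrArg Subtype.val hye, inv_mul_cancel]
      obtain ⟨q, hq, i, hqi⟩ := hstab (y'⁻¹ * y) (by rw [he]; rfl)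
      rw [hqi, map_mul, hQact q hq, one_mul, map_pow] at he
      have h3 := orderOf_dvd_of_pow_eq_one he
      rw [hh3] at h3
      obtain ⟨c, rfl⟩ := h3
      rw [pow_mul, show h0 ^ 3 = 1 from Subtype.ext (by
        rw [SubmonoidClass.coe_pow]; exact B.three ▸ pow_orderOf_eq_one h), one_pow, mul_one, inv_mul_eq_iff_eq_mul] at hqi
      rw [hqi]
      exact mul_mem hy' (hQall P' hq)
    exact Sylow.ext (le_antisymm (key P₁ P₂) (key P₂ P₁))

end EightHyp

end CfsgLib.S3Simple
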