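import Cfsg.Agent.Lib.S3Simple.Eight.Cover
import Cfsg.Agent.Lib.S3Simple.Eight.Qd
import Cfsg.Agent.Lib.Fusion.ZJCriterion

/-!
The first half of 5.1: for each prime `p` the core of `C(t)` has a Sylow `p`-subgroup centralised by `A`, provided
`p` divides the order of the odd core of `C(A)`.

Blueprint: `blueprint/S3Free.md`, 5.1.
-/

set_option autoImplicit false
set_option linter.unusedSectionVars false
set_option linter.style.haveILetI false

namespace CfsgLib.S3Simple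

open Cfsg CfsgLib.Comp CfsgLib.AfterFT.CoreSep

universe u

variable {L : Type u} [Group L] [Finite L] {A : Subgroup L}

/-- Transitivity depends only on the action on `A`. -/
theorem TransOn.congr {g n : L} (hg : g ∈ Subgroup.normalizer (A : Set L))
    (e : ∀ a ∈ A, n * a * n⁻¹ = g * a * g⁻¹) (h : TransOn g A) : TransOn n A := by
  have key : ∀ (i : ℕ), ∀ a ∈ A, n ^ i * a * (n ^ i)⁻¹ = g ^ i * a * (g ^ i)⁻¹ := by
    intro i
    induction i with
    | zero => intro a _; simp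
    | succ i ih =>
      intro a ha
      have hga : g * a * g⁻¹ ∈ A := (Subgroup.mem_normalizer_iff.mp hg a).mp ha
      calc n ^ (i + 1) * a * (n ^ (i + 1))⁻¹ = n ^ i * (n * a * n⁻¹) * (n ^ i)⁻¹ := by rw [pow_succ]; group
        _ = g ^ i * (g * a * g⁻¹) * (g ^ i)⁻¹ := by rw [e a ha, ih _ hga]
        _ = g ^ (i + 1) * a * (g ^ (i + 1))⁻¹ := by rw [pow_succ]; group
  intro v hv hv1 w hw hw1
  obtain ⟨i, hi⟩ := h v hv hv1 w hw hw1
  exact ⟨i, (key i v hv).trans hi⟩

theorem TransOn.conj {g : L} (h : TransOn g A) (x : L) :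
    TransOn (x * g * x⁻¹) (A.map (MulAut.conj x).toMonoidHom) := by
  rintro _ ⟨v, hv, rfl⟩ hv1 _ ⟨w, hw, rfl⟩ hw1
  obtain ⟨i, hi⟩ := h v hv (fun e => hv1 (by rw [e, map_one])) w hw (fun e => hw1 (by rw [e, map_one]))
  refine ⟨i, ?_⟩
  show (x * g * x⁻¹) ^ i * (x * v * x⁻¹) * ((x * g * x⁻¹) ^ i)⁻¹ = x * w * x⁻¹
  rw [conj_pow, ← hi]
  group

namespace EightHyp

variable {S : Sylow 2 L} (H : EightHyp S A) {p : ℕ} [Fact p.Prime]
include H

theorem card_two_le {W : Subgroup L} (hW : IsPGroup 2 W) : Nat.card W ≤ 8 := by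
  haveI : Fact (Nat.Prime 2) := ⟨Nat.prime_two⟩
  obtain ⟨Q, hQ⟩ := hW.exists_le_sylow
  obtain ⟨x, hx⟩ := MulAction.exists_smul_eq L S Q
  rw [← H.card, ← H.S_eq, ← Sylow.card_eq_multiplicity S |>.trans (Sylow.card_eq_multiplicity Q).symm |>.symm]
  exact Subgroup.card_le_of_le hQ

theorem zs_ne_top {Z : Subgroup L} (hZ : Odd (Nat.card Z)) : Z ≠ ⊤ := H.closed.ne_top_of_odd hZ

/-- An element of `N(A)` transitive on `A` can be chosen normalising a Sylow subgroup of the odd core of `C(A)`. -/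
theorem exists_trans_normalizing (Z : Sylow p ↥(oddC A)) :
    ∃ n ∈ Subgroup.normalizer (A : Set L),
      n ∈ Subgroup.normalizer ((Z : Subgroup ↥(oddC A)).map (oddC A).subtype : Set L) ∧ TransOn n A := by
  obtain ⟨g, hg, htr⟩ := H.exists_seven
  have hgR := H.normalizer_le hg
  let e : ↥(oddC A) ≃* ↥(oddC A) := MulDistribMulAction.toMulEquiv ↥(oddC A)
    (⟨g, hgR⟩ : Subgroup.normalizer (oddC A : Set L))
  obtain ⟨r, hr⟩ := MulAction.exists_smul_eq ↥(oddC A) (Z.mapSurjective (f := e.toMonoidHom) e.surjective) Z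
  refine ⟨(r : L) * g, ?_, ?_, htr.congr hg fun a ha => ?_⟩
  · exact mul_mem (Subgroup.centralizer_le_normalizer _ (oddC_le A r.2)) hg
  · refine mem_normalizer_of_maps ?_
    rintro _ ⟨z, hz, rfl⟩
    have h1 : MulAut.conj r (e z) ∈ (r • Z.mapSurjective (f := e.toMonoidHom) e.surjective : Sylow p _).toSubgroup :=
      Subgroup.smul_mem_pointwise_smul _ _ _ (Subgroup.mem_map_of_mem _ hz)
    rw [hr] at h1
    refine ⟨_, h1, ?_⟩
    show (r : L) * (g * z * g⁻¹) * (r : L)⁻¹ = r * g * z * ((r : L) * g)⁻¹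
    group
  · have h2 : g * a * g⁻¹ ∈ A := (Subgroup.mem_normalizer_iff.mp hg a).mp ha
    calc (r : L) * g * a * ((r : L) * g)⁻¹ = r * (g * a * g⁻¹) * (r : L)⁻¹ := by group
      _ = g * a * g⁻¹ := by rw [← oddC_le A r.2 _ h2, mul_inv_cancel_right]

/-- If `A` acts non-trivially on a `p`-subgroup normalised by a transitive element, the normaliser of some `ZJ` is
soluble. -/
theorem exists_zj_soluble (hp2 : p ≠ 2) {D : Subgroup L} (hD : IsPGroup p D) {n : L}
    (hnA : n ∈ Subgroup.normalizer (A : Set L)) (hnD : n ∈ Subgroup.normalizer (D : Set L)) (htr : TransOn n A)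
    (hAD : A ≤ Subgroup.normalizer (D : Set L)) (hne : ¬ A ≤ Subgroup.centralizer (D : Set L)) :
    ∃ R : Sylow p L, Group.IsSolvable ↥(Subgroup.normalizer (centerThompsonAOf (R : Subgroup L) : Set L)) := by
  classical
  haveI : Fact (Nat.Prime 2) := ⟨Nat.prime_two⟩
  have hfaith : ∀ a ∈ A, a ∈ Subgroup.centralizer (D : Set L) → a = 1 := by
    intro a ha hac
    by_contra ha1
    refine hne fun b hb => ?_
    rcases eq_or_ne b 1 with rfl | hb1
    · exact one_mem _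
    obtain ⟨i, rfl⟩ := htr a ha ha1 b hb hb1
    exact AfterFT.CoreSep.conj_mem_centralizer (pow_mem hnD i) hac
  obtain ⟨R, hR⟩ := hD.exists_le_sylow
  refine ⟨R, ?_⟩
  set NJ := Subgroup.normalizer (centerThompsonAOf (R : Subgroup L) : Set L) with hNJ
  have hctrl := zj_controls H.hyp.free hp2 R (D : Set L) hR
  have hget : ∀ x ∈ Subgroup.normalizer (D : Set L), ∃ y ∈ NJ, ∀ d ∈ D, x * d * x⁻¹ = y * d * y⁻¹ := by
    intro x hx
    refine hctrl.2 x ?_
    rintro _ ⟨d, hd, rfl⟩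
    exact hR ((Subgroup.mem_normalizer_iff.mp hx d).mp hd)
  have hmemN : ∀ {x y : L}, x ∈ Subgroup.normalizer (D : Set L) → (∀ d ∈ D, x * d * x⁻¹ = y * d * y⁻¹) →
      y ∈ Subgroup.normalizer (D : Set L) := fun hx he => mem_normalizer_of_maps fun d hd => by
    rw [← he d hd]; exact (Subgroup.mem_normalizer_iff.mp hx d).mp hd
  let φ : Subgroup.normalizer (D : Set L) →* MulAut D := D.normalizerMonoidHom
  have hφ : ∀ (x y : L) (hx : x ∈ Subgroup.normalizer (D : Set L)) (hy : y ∈ Subgroup.normalizer (D : Set L)),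
      (∀ d ∈ D, x * d * x⁻¹ = y * d * y⁻¹) → φ ⟨x, hx⟩ = φ ⟨y, hy⟩ :=
    fun x y hx hy he => MulEquiv.ext fun d => Subtype.ext (he d d.2)
  -- the elements of `N(ZJ)` acting on `D` as elements of `A`
  set B : Subgroup (MulAut D) := (A.subgroupOf (Subgroup.normalizer (D : Set L))).map φ with hB
  set Q : Subgroup ↥(Subgroup.normalizer (D : Set L)) :=
    NJ.subgroupOf (Subgroup.normalizer (D : Set L)) ⊓ B.comap φ with hQ
  have hQsurj : ∀ b ∈ B, ∃ q : ↥Q, φ q = b := by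
    rintro _ ⟨a, ha, rfl⟩
    obtain ⟨y, hy, he⟩ := hget a a.2
    refine ⟨⟨⟨y, hmemN a.2 he⟩, hy, ?_⟩, (hφ a y a.2 _ he).symm⟩
    exact ⟨a, ha, hφ a y a.2 _ he⟩
  let f : ↥Q →* ↥B := (φ.comp Q.subtype).codRestrict B fun q => q.2.2
  have hf : Function.Surjective f := fun b => by
    obtain ⟨q, hq⟩ := hQsurj b b.2
    exact ⟨q, Subtype.ext hq⟩
  have hBcard : Nat.card B = 8 := by
    rw [← H.card]
    refine (Nat.card_eq_of_bijective (fun a : A => (⟨φ ⟨a, hAD a.2⟩, ⟨⟨a, hAD a.2⟩, a.2, rfl⟩⟩ : B))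
      ⟨fun a b e => ?_, ?_⟩).symm
    · have e' : φ ⟨a, hAD a.2⟩ = φ ⟨b, hAD b.2⟩ := congrArg Subtype.val e
      refine Subtype.ext (inv_mul_eq_one.mp (hfaith _ (A.mul_mem (A.inv_mem a.2) b.2) fun d hd => ?_))
      have h1 : (a : L) * d * (a : L)⁻¹ = b * d * (b : L)⁻¹ :=
        congrArg Subtype.val (DFunLike.congr_fun e' (⟨d, hd⟩ : D))
      calc d * ((a : L)⁻¹ * b) = (a : L)⁻¹ * ((a : L) * d * (a : L)⁻¹) * b := by group
        _ = (a : L)⁻¹ * ((b : L) * d * (b : L)⁻¹) * b := by rw [h1]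
        _ = (a : L)⁻¹ * b * d := by group
    · rintro ⟨_, a, ha, rfl⟩
      exact ⟨⟨a, ha⟩, rfl⟩
  obtain ⟨P⟩ : Nonempty (Sylow 2 ↥Q) := inferInstance
  have hBp : IsPGroup 2 B := IsPGroup.of_card (n := 3) hBcard
  have hPB : (P.mapSurjective hf : Subgroup ↥B) = ⊤ :=
    ((P.mapSurjective hf).3 (hBp.to_subgroup ⊤) le_top).symm
  -- `P` as a subgroup of `L`
  let ι : ↥Q →* L := (Subgroup.normalizer (D : Set L)).subtype.comp Q.subtype
  have hι : Function.Injective ι := fun x y e => Subtype.ext (Subtype.ext e)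
  set P2 : Subgroup L := (P : Subgroup ↥Q).map ι with hP2
  have hP2card : Nat.card P2 = Nat.card (P : Subgroup ↥Q) := Subgroup.card_map_of_injective hι
  have hPinj : ∀ x ∈ (P : Subgroup ↥Q), ∀ y ∈ (P : Subgroup ↥Q), f x = f y → x = y := by
    have hle : Nat.card (P : Subgroup ↥Q) ≤ 8 := hP2card ▸ H.card_two_le (P.2.map ι)
    have hsurj : Function.Surjective (f.comp (P : Subgroup ↥Q).subtype) := fun b => by
      obtain ⟨x, hx, hxb⟩ : b ∈ (P.mapSurjective hf : Subgroup ↥B) := hPB ▸ Subgroup.mem_top b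
      exact ⟨⟨x, hx⟩, hxb⟩
    have hbij : Function.Bijective (f.comp (P : Subgroup ↥Q).subtype) :=
      (Nat.bijective_iff_surjective_and_card _).mpr
        ⟨hsurj, le_antisymm (hle.trans_eq hBcard.symm) (Nat.card_le_card_of_surjective _ hsurj)⟩
    intro x hx y hy e
    exact congrArg Subtype.val (hbij.1 (a₁ := ⟨x, hx⟩) (a₂ := ⟨y, hy⟩) e)
  -- an element of `N(ZJ)` acting as `n` and normalising `P2`
  obtain ⟨y, hy, hye⟩ := hget n hnD
  have hyD := hmemN hnD hye
  have hyφ : φ ⟨y, hyD⟩ = φ ⟨n, hnD⟩ := (hφ n y hnD hyD hye).symm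
  have hBn : ∀ b ∈ B, φ ⟨n, hnD⟩ * b * (φ ⟨n, hnD⟩)⁻¹ ∈ B := by
    rintro _ ⟨a, ha, rfl⟩
    exact ⟨⟨n, hnD⟩ * a * ⟨n, hnD⟩⁻¹, (Subgroup.mem_normalizer_iff.mp hnA (a : L)).mp ha,
      by rw [map_mul, map_mul, map_inv]⟩
  have hyQ : ∀ x ∈ Q, (⟨y, hyD⟩ : ↥(Subgroup.normalizer (D : Set L))) * x * ⟨y, hyD⟩⁻¹ ∈ Q := fun x hx =>
    ⟨NJ.mul_mem (NJ.mul_mem hy hx.1) (NJ.inv_mem hy), by
      show φ _ ∈ B
      rw [map_mul, map_mul, map_inv, hyφ]
      exact hBn _ hx.2⟩
  have hyN : (⟨y, hyD⟩ : ↥(Subgroup.normalizer (D : Set L))) ∈ Subgroup.normalizer (Q : Set _) :=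
    mem_normalizer_of_maps hyQ
  let e : ↥Q ≃* ↥Q := MulDistribMulAction.toMulEquiv ↥Q (⟨⟨y, hyD⟩, hyN⟩ :
    Subgroup.normalizer (Q : Set ↥(Subgroup.normalizer (D : Set L))))
  obtain ⟨q, hq⟩ := MulAction.exists_smul_eq ↥Q (P.mapSurjective (f := e.toMonoidHom) e.surjective) P
  set m : L := ι q * y with hm
  have hmJ : m ∈ NJ := NJ.mul_mem q.2.1 hy
  have hmP : ∀ x ∈ (P : Subgroup ↥Q), MulAut.conj q (e x) ∈ (P : Subgroup ↥Q) := fun x hx => by
    have h1 : MulAut.conj q (e x) ∈ (q • P.mapSurjective (f := e.toMonoidHom) e.surjective : Sylow 2 _).toSubgroup :=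
      Subgroup.smul_mem_pointwise_smul _ _ _ (Subgroup.mem_map_of_mem _ hx)
    rwa [hq] at h1
  have hιm : ∀ x : ↥Q, ι (MulAut.conj q (e x)) = m * ι x * m⁻¹ := fun x => by
    show ι q * (y * ι x * y⁻¹) * (ι q)⁻¹ = _
    rw [hm]
    group
  -- the action of `m` on `P2` is that of `n` on `A`
  have hψ : ∀ x ∈ (P : Subgroup ↥Q), ∃ a, ∃ ha : a ∈ A, φ x = φ ⟨a, hAD ha⟩ := fun x _ => by
    obtain ⟨a, ha, hae⟩ := (x.2.2 : φ x ∈ B)
    exact ⟨a, ha, hae.symm⟩
  have hmA : ∀ x ∈ (P : Subgroup ↥Q), ∀ a (ha : a ∈ A), φ x = φ ⟨a, hAD ha⟩ →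
      φ (MulAut.conj q (e x) : ↥Q) = φ ⟨n * a * n⁻¹, hAD ((Subgroup.mem_normalizer_iff.mp hnA a).mp ha)⟩ := by
    intro x _ a ha hxa
    have h1 : φ ((MulAut.conj q (e x) : ↥Q) : ↥(Subgroup.normalizer (D : Set L))) =
        φ q * (φ ⟨n, hnD⟩ * φ x * (φ ⟨n, hnD⟩)⁻¹) * (φ q)⁻¹ := by
      rw [← hyφ, ← map_inv, ← map_inv, ← map_mul, ← map_mul, ← map_mul, ← map_mul]
      rfl
    obtain ⟨b, hb, hbq⟩ := (q.2.2 : φ q ∈ B)
    rw [h1, hxa, ← hbq, ← map_inv, ← map_inv, ← map_mul, ← map_mul, ← map_mul, ← map_mul]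
    refine congrArg φ (Subtype.ext ?_)
    show (b : L) * (n * a * n⁻¹) * (b : L)⁻¹ = n * a * n⁻¹
    rw [H.comm (show (b : L) ∈ A from hb) ((Subgroup.mem_normalizer_iff.mp hnA a).mp ha), mul_inv_cancel_right]
  have hmtr : TransOn m P2 := by
    have key : ∀ (i : ℕ), ∀ x ∈ (P : Subgroup ↥Q), ∀ a (ha : a ∈ A), φ x = φ ⟨a, hAD ha⟩ →
        ∃ x' ∈ (P : Subgroup ↥Q), ι x' = m ^ i * ι x * (m ^ i)⁻¹ ∧
          ∀ hm' : n ^ i * a * (n ^ i)⁻¹ ∈ A, φ x' = φ ⟨n ^ i * a * (n ^ i)⁻¹, hAD hm'⟩ := by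
      intro i x hx a ha hxa
      induction i with
      | zero => exact ⟨x, hx, by simp, fun _ => by rw [hxa]; congr 1; exact Subtype.ext (by simp)⟩
      | succ i ih =>
        obtain ⟨x', hx', hx'ι, hx'φ⟩ := ih
        have hai : n ^ i * a * (n ^ i)⁻¹ ∈ A := (Subgroup.mem_normalizer_iff.mp (pow_mem hnA i) a).mp ha
        refine ⟨_, hmP x' hx', ?_, fun _ => ?_⟩
        · rw [hιm, hx'ι, pow_succ']
          group
        · rw [hmA x' hx' _ hai (hx'φ hai)]
          congr 1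
          exact Subtype.ext (by
            show n * (n ^ i * a * (n ^ i)⁻¹) * n⁻¹ = n ^ (i + 1) * a * (n ^ (i + 1))⁻¹
            rw [pow_succ']
            group)
    rintro _ ⟨x, hx, rfl⟩ hx1 _ ⟨w, hw, rfl⟩ hw1
    obtain ⟨a, ha, hxa⟩ := hψ x hx
    obtain ⟨b, hb, hwb⟩ := hψ w hw
    have hne' : ∀ (z : ↥Q) (hz : z ∈ (P : Subgroup ↥Q)) (c : L) (hc : c ∈ A),
        φ z = φ ⟨c, hAD hc⟩ → ι z ≠ 1 → c ≠ 1 := fun z hz c hc hzc hz1 hc1 => hz1 (by
      have : z = 1 := hPinj z hz 1 (one_mem _) (Subtype.ext (by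
        show φ z = φ ((1 : ↥Q) : ↥(Subgroup.normalizer (D : Set L)))
        rw [hzc]
        congr 1
        exact Subtype.ext hc1))
      rw [this, map_one])
    obtain ⟨i, hi⟩ := htr a ha (hne' x hx a ha hxa hx1) b hb (hne' w hw b hb hwb hw1)
    refine ⟨i, ?_⟩
    obtain ⟨x', hx', hx'ι, hx'φ⟩ := key i x hx a ha hxa
    rw [← hx'ι, hPinj x' hx' w hw (Subtype.ext ?_)]
    show φ x' = φ w
    rw [hx'φ (hi ▸ hb), hwb]
    congr 1
    exact Subtype.ext hi
  -- a conjugate of `P2` is `A`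
  obtain ⟨P', hP'⟩ := (P.2.map ι).exists_le_sylow
  obtain ⟨x, hx⟩ := MulAction.exists_smul_eq L P' S
  have hP2A : P2.map (MulAut.conj x).toMonoidHom = A := by
    refine Subgroup.eq_of_le_of_card_ge ?_ ?_
    · rintro _ ⟨z, hz, rfl⟩
      rw [← H.S_eq, ← hx]
      exact Subgroup.smul_mem_pointwise_smul z (MulAut.conj x) _ (hP' hz)
    · rw [Subgroup.card_map_of_injective (MulAut.conj x).injective, H.card, hP2card, ← hBcard]
      exact Nat.card_le_card_of_surjective (f.comp (P : Subgroup ↥Q).subtype) fun b => by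
        obtain ⟨z, hz, hzb⟩ : b ∈ (P.mapSurjective hf : Subgroup ↥B) := hPB ▸ Subgroup.mem_top b
        exact ⟨⟨z, hz⟩, hzb⟩
  set M := NJ.map (MulAut.conj x).toMonoidHom with hM
  have hJne : centerThompsonAOf (R : Subgroup L) ≠ ⊥ := by
    refine CfsgLib.ZJ.centerThompsonAOf_ne_bot R.2 fun e => hne ?_
    have hD1 : D = ⊥ := eq_bot_iff.mpr (e ▸ hR)
    exact fun a _ d hd => by rw [hD1, SetLike.mem_coe, Subgroup.mem_bot] at hd; rw [hd, one_mul, mul_one]
  have hJodd : Odd (Nat.card (centerThompsonAOf (R : Subgroup L))) := by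
    obtain ⟨k, hk⟩ := IsPGroup.iff_card.mp R.2
    exact ((Fact.out : p.Prime).odd_of_ne_two hp2).pow.of_dvd_nat
      (hk ▸ Subgroup.card_dvd_of_le (CfsgLib.ZJ.centerThompsonAOf_le _))
  have hMne : M ≠ ⊤ := fun e => by
    refine H.hyp.normalizer_ne_top hJne (H.zs_ne_top hJodd) ?_
    rw [← Subgroup.map_top_of_surjective (MulAut.conj x).toMonoidHom (MulAut.conj x).surjective, hM] at e
    exact Subgroup.map_injective (MulAut.conj x).injective e
  have hAM : A ≤ M := by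
    rw [← hP2A]
    refine Subgroup.map_mono ?_
    rintro _ ⟨z, -, rfl⟩
    exact z.2.1
  have htr' : TransOn (x * m * x⁻¹) A := by
    rw [← hP2A]
    exact hmtr.conj x
  haveI := (H.soluble_above hAM hMne (g := x * m * x⁻¹) ⟨m, hmJ, rfl⟩ htr').1
  exact Group.isSolvable_of_surjective
    (f := (NJ.equivMapOfInjective (MulAut.conj x).toMonoidHom (MulAut.conj x).injective).symm.toMonoidHom) (MulEquiv.surjective _)

/-- With a soluble `N(ZJ)`, perfect groups centralise the `p`-subgroups they normalise. -/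
theorem perfect_centralizes_pgroup (hp2 : p ≠ 2) {R : Sylow p L}
    (hR : Group.IsSolvable ↥(Subgroup.normalizer (centerThompsonAOf (R : Subgroup L) : Set L))) {P K : Subgroup L}
    (hP : IsPGroup p P) (hK : ⁅K, K⁆ = K) (hKP : K ≤ Subgroup.normalizer (P : Set L)) :
    K ≤ Subgroup.centralizer (P : Set L) := by
  obtain ⟨R', hR'⟩ := hP.exists_le_sylow
  obtain ⟨x, hx⟩ := MulAction.exists_smul_eq L R' R
  set c := MulAut.conj x
  set P' := P.map c.toMonoidHom with hP'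
  have hP'R : P' ≤ (R : Subgroup L) := by
    rintro _ ⟨z, hz, rfl⟩
    rw [← hx]
    exact Subgroup.smul_mem_pointwise_smul z c _ (hR' hz)
  set NJ := Subgroup.normalizer (centerThompsonAOf (R : Subgroup L) : Set L)
  have hctrl := zj_controls H.hyp.free hp2 R (P' : Set L) hP'R
  let φ : Subgroup.normalizer (P' : Set L) →* MulAut P' := P'.normalizerMonoidHom
  set Sol := (NJ.subgroupOf (Subgroup.normalizer (P' : Set L))).map φ with hSol
  haveI : Group.IsSolvable (NJ.subgroupOf (Subgroup.normalizer (P' : Set L))) := by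
    haveI := hR
    exact Group.isSolvable_of_isSolvable_injective
      (f := (Subgroup.normalizer (P' : Set L)).subtype.subgroupComap NJ)
      fun a b e => Subtype.ext (Subtype.ext (congrArg (fun z : NJ => (z : L)) e :))
  haveI : Group.IsSolvable Sol := Group.isSolvable_of_surjective (φ.subgroupMap_surjective _)
  intro k hk
  -- the image of `K` is perfect, in a soluble group
  set K' := K.map c.toMonoidHom with hK'
  have hK'N : K' ≤ Subgroup.normalizer (P' : Set L) := by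
    rintro _ ⟨z, hz, rfl⟩
    refine mem_normalizer_of_maps ?_
    rintro _ ⟨d, hd, rfl⟩
    exact ⟨z * d * z⁻¹, (Subgroup.mem_normalizer_iff.mp (hKP hz) d).mp hd, by rw [map_mul, map_mul, map_inv]⟩
  set W := (K'.subgroupOf (Subgroup.normalizer (P' : Set L))).map φ with hW
  have hWp : ⁅W, W⁆ = W := by
    rw [hW, ← Subgroup.map_commutator]
    congr 1
    refine Subgroup.map_injective (Subgroup.normalizer (P' : Set L)).subtype_injective ?_
    rw [Subgroup.map_commutator, Subgroup.map_subgroupOf_eq_of_le hK'N, hK', ← Subgroup.map_commutator, hK]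
  have hWS : W ≤ ⊥ ⊔ Sol := by
    rw [bot_sup_eq]
    rintro _ ⟨z, hz, rfl⟩
    obtain ⟨y, hy, hye⟩ := hctrl.2 z (by
      rintro _ ⟨d, hd, rfl⟩
      exact hP'R ((Subgroup.mem_normalizer_iff.mp z.2 d).mp hd))
    have hyN : y ∈ Subgroup.normalizer (P' : Set L) := mem_normalizer_of_maps fun d hd => by
      rw [← hye d hd]; exact (Subgroup.mem_normalizer_iff.mp z.2 d).mp hd
    exact ⟨⟨y, hyN⟩, hy, MulEquiv.ext fun d => Subtype.ext (hye d d.2).symm⟩
  have hbot := perfect_le_of_sup hWp hWS (by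
    rw [Subgroup.normalizer_eq_top_iff.mpr (inferInstance : (⊥ : Subgroup (MulAut P')).Normal)]
    exact le_top)
  have h1 : φ ⟨c k, hK'N ⟨k, hk, rfl⟩⟩ = 1 :=
    Subgroup.mem_bot.mp (hbot ⟨⟨c k, hK'N ⟨k, hk, rfl⟩⟩, ⟨k, hk, rfl⟩, rfl⟩)
  intro d hd
  have h2 : c k * c d * (c k)⁻¹ = c d :=
    congrArg Subtype.val (DFunLike.congr_fun h1 (⟨c d, d, hd, rfl⟩ : P'))
  rw [← map_inv, ← map_mul, ← map_mul] at h2
  exact (mul_inv_eq_iff_eq_mul.mp (c.injective h2)).symm

/-- For each `t` the core of `C(t)` has a Sylow `p`-subgroup centralised by `A`. -/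
theorem exists_centralized_sylow (Z : Sylow p ↥(oddC A))
    (hne : (Z : Subgroup ↥(oddC A)).map (oddC A).subtype ≠ ⊥) {t : L} (ht : t ∈ A) (ht1 : t ≠ 1) :
    ∃ P : Sylow p ↥(centralizerPPrimeCore 2 t),
      (P : Subgroup ↥(centralizerPPrimeCore 2 t)).map (centralizerPPrimeCore 2 t).subtype ≤
        Subgroup.centralizer (A : Set L) := by
  classical
  haveI : Fact (Nat.Prime 2) := ⟨Nat.prime_two⟩
  set Zs := (Z : Subgroup ↥(oddC A)).map (oddC A).subtype with hZs
  have hZR : Zs ≤ oddC A := Subgroup.map_subtype_le _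
  have hZodd : Odd (Nat.card Zs) := (oddC_odd A).of_dvd_nat (Subgroup.card_dvd_of_le hZR)
  have hZp : IsPGroup p Zs := Z.2.map _
  have hp2 : p ≠ 2 := by
    rintro rfl
    obtain ⟨k, hk⟩ := IsPGroup.iff_card.mp hZp
    rcases k with - | k
    · exact hne (Subgroup.card_eq_one.mp (by rw [hk, pow_zero]))
    · rw [hk, Nat.odd_pow_iff k.succ_ne_zero] at hZodd
      exact absurd hZodd (by decide)
  set H0 := Subgroup.normalizer (Zs : Set L) with hH0
  have hH0ne : H0 ≠ ⊤ := H.hyp.normalizer_ne_top hne (H.zs_ne_top hZodd)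
  have hAH0 : A ≤ H0 := fun a ha => Subgroup.centralizer_le_normalizer _ fun z hz =>
    (oddC_le A (hZR hz) a ha).symm
  obtain ⟨n, hnA, hnZ, htr⟩ := H.exists_trans_normalizing Z
  have hA8 : Nat.card A = 2 ^ 3 := by rw [H.card]; norm_num
  have hAsolv : Group.IsSolvable A := Group.isSolvable_of_comm fun a b => Subtype.ext (H.comm a.2 b.2)
  -- the core of `H0`
  set O0 := (pPrimeCore 2 ↥H0).map H0.subtype with hO0
  have hO0le : O0 ≤ H0 := Subgroup.map_subtype_le _
  have hO0odd : Odd (Nat.card O0) := by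
    rw [hO0, Subgroup.card_map_of_injective H0.subtype_injective]
    exact Nat.coprime_two_right.mp (card_pPrimeCore_coprime 2)
  have hO0n : H0 ≤ Subgroup.normalizer (O0 : Set L) := fun h hh => mem_normalizer_of_maps (by
    rintro _ ⟨o, ho, rfl⟩
    exact ⟨⟨h, hh⟩ * o * ⟨h, hh⟩⁻¹, (inferInstance : (pPrimeCore 2 ↥H0).Normal).conj_mem o ho _, rfl⟩)
  have hcop : (Nat.card A).Coprime (Nat.card O0) := hA8 ▸ (Nat.coprime_two_left.mpr hO0odd).pow_left 3
  obtain ⟨D0, hD0⟩ := coprime_exists_invariant_sylow (hAH0.trans hO0n) hcop (Or.inl hAsolv) p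
  set D := (D0 : Subgroup ↥O0).map O0.subtype with hD
  by_cases hcase : A ≤ Subgroup.centralizer (D : Set L)
  · -- `Zs` is a Sylow subgroup of the core
    have hZO : Zs ≤ O0 := by
      haveI : (Zs.subgroupOf H0).Normal :=
        (Subgroup.normal_subgroupOf_iff_le_normalizer Subgroup.le_normalizer).mpr le_rfl
      intro z hz
      refine ⟨⟨z, Subgroup.le_normalizer hz⟩, le_pPrimeCore (N := Zs.subgroupOf H0) ?_ hz, rfl⟩
      rw [Nat.card_congr (Subgroup.subgroupOfEquivOfLe Subgroup.le_normalizer).toEquiv]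
      exact Nat.coprime_two_right.mpr hZodd
    have hZD : Zs ≤ D := by
      haveI : (Zs.subgroupOf O0).Normal :=
        (Subgroup.normal_subgroupOf_iff_le_normalizer hZO).mpr hO0le
      intro z hz
      have h1 := sup_eq_right.mp (D0.3 ((hZp.of_equiv (Subgroup.subgroupOfEquivOfLe hZO).symm).to_sup_of_normal_left
        D0.2) le_sup_right)
      exact ⟨⟨z, hZO hz⟩, h1 hz, rfl⟩
    have hDR : D ≤ oddC A := fun d hd => H.mem_oddC (fun a ha => (hcase ha d hd).symm)
      (hO0odd.of_dvd_nat (Subgroup.orderOf_dvd_natCard _ (Subgroup.map_subtype_le _ hd)))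
    have hDZ : D = Zs := by
      have h1 : (D.subgroupOf (oddC A)) = (Z : Subgroup ↥(oddC A)) := Z.3
        ((D0.2.map O0.subtype).of_equiv (Subgroup.subgroupOfEquivOfLe hDR).symm) fun z hz => hZD ⟨z, hz, rfl⟩
      rw [hZs, ← h1, Subgroup.map_subgroupOf_eq_of_le hDR]
    -- every `A`-invariant `p`-subgroup above `Zs` is `Zs`
    have hmax : ∀ Q : Subgroup L, IsPGroup p Q → Zs ≤ Q → A ≤ Subgroup.normalizer (Q : Set L) → Q = Zs := by
      intro Q hQ hle hAQ
      by_contra hne'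
      haveI := hQ.isNilpotent
      have hlt : Zs.subgroupOf Q < ⊤ := lt_top_iff_ne_top.mpr fun e =>
        hne' (le_antisymm (Subgroup.subgroupOf_eq_top.mp e) hle)
      obtain ⟨⟨w, hwQ⟩, hwN, hwZ⟩ := SetLike.exists_of_lt (Group.normalizerCondition_of_isNilpotent _ hlt)
      have hwH : w ∈ H0 := mem_normalizer_of_maps fun z hz =>
        (Subgroup.mem_normalizer_iff.mp hwN ⟨z, hle hz⟩).mp hz
      obtain ⟨T, hT, R⟩ := H.bar_red hAH0 hH0ne
      let π := QuotientGroup.mk' (pPrimeCore 2 ↥H0)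
      obtain ⟨hTn, -⟩ := R.soluble_of_transitive (g := π ⟨n, hnZ⟩) (by
        intro v hv hv1 u hu hu1
        rw [hT] at hv hu
        obtain ⟨a, ha, rfl⟩ := hv
        obtain ⟨b, hb, rfl⟩ := hu
        obtain ⟨i, hi⟩ := htr a ha (fun e => hv1 (by rw [show a = 1 from Subtype.ext e, map_one])) b hb
          (fun e => hu1 (by rw [show b = 1 from Subtype.ext e, map_one]))
        refine ⟨i, ?_⟩
        rw [← map_pow, ← map_inv, ← map_mul, ← map_mul]
        exact congrArg _ (Subtype.ext hi))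
      set q := π ⟨w, hwH⟩ with hq
      obtain ⟨j, hj⟩ := hQ ⟨w, hwQ⟩
      have hwpow : w ^ p ^ j = 1 := congrArg Subtype.val hj
      have hqp : q ^ p ^ j = 1 := by
        rw [hq, ← map_pow, show (⟨w, hwH⟩ : ↥H0) ^ p ^ j = 1 from Subtype.ext hwpow, map_one]
      have hqodd : Odd (orderOf q) := ((Fact.out : p.Prime).odd_of_ne_two hp2).pow.of_dvd_nat
        (orderOf_dvd_of_pow_eq_one hqp)
      -- it centralises the normal four-generated 2-subgroup
      have hqc : ∀ v ∈ (T : Subgroup (↥H0 ⧸ pPrimeCore 2 ↥H0)), q * v = v * q := by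
        intro v hv
        obtain ⟨a, ha, rfl⟩ := hT.le hv
        set c := q * π a * q⁻¹ * (π a)⁻¹ with hc
        have hcT : c ∈ (T : Subgroup (↥H0 ⧸ pPrimeCore 2 ↥H0)) := mul_mem (hTn.conj_mem _ hv q) (inv_mem hv)
        have haQ : w * ((a : L) * w⁻¹ * (a : L)⁻¹) ∈ Q :=
          Q.mul_mem hwQ ((Subgroup.mem_normalizer_iff.mp (hAQ ha) _).mp (Q.inv_mem hwQ))
        have hcp : ∃ i, c ^ p ^ i = 1 := by
          obtain ⟨i, hi⟩ := hQ ⟨_, haQ⟩
          refine ⟨i, ?_⟩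
          rw [hc, hq, ← map_inv, ← map_inv, ← map_mul, ← map_mul, ← map_mul, ← map_pow]
          refine (congrArg π (Subtype.ext ?_)).trans (map_one π)
          rw [SubmonoidClass.coe_pow]
          refine Eq.trans ?_ (congrArg Subtype.val hi : (w * ((a : L) * w⁻¹ * (a : L)⁻¹)) ^ p ^ i = 1)
          congr 1
          show w * (a : L) * w⁻¹ * (a : L)⁻¹ = _
          group
        obtain ⟨i, hi⟩ := hcp
        obtain ⟨k, hk⟩ := T.2 ⟨c, hcT⟩
        have hc1 : c = 1 := eq_one_of_odd_of_two_pow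
          (((Fact.out : p.Prime).odd_of_ne_two hp2).pow.of_dvd_nat (orderOf_dvd_of_pow_eq_one hi)) (k := k)
          (congrArg Subtype.val hk :)
        rw [hc, mul_inv_eq_one, mul_inv_eq_iff_eq_mul] at hc1
        exact hc1
      have hq1 : q = 1 := by
        refine eq_one_of_centralizes R.ctx.core hqodd (fun E' hE' => absurd hE' ?_) fun v hv =>
          (hqc v (pCore_two_le_sylow T hv)).symm
        exact R.no_component (g := π ⟨n, hnZ⟩) (by
          intro v hv hv1 u hu hu1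
          rw [hT] at hv hu
          obtain ⟨a, ha, rfl⟩ := hv
          obtain ⟨b, hb, rfl⟩ := hu
          obtain ⟨i, hi⟩ := htr a ha (fun e => hv1 (by rw [show a = 1 from Subtype.ext e, map_one])) b hb
            (fun e => hu1 (by rw [show b = 1 from Subtype.ext e, map_one]))
          refine ⟨i, ?_⟩
          rw [← map_pow, ← map_inv, ← map_mul, ← map_mul]
          exact congrArg _ (Subtype.ext hi)) E'
      -- so it lies in the core, and in the `p`-group `D Q₁`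
      have hwO : w ∈ O0 := ⟨⟨w, hwH⟩, (QuotientGroup.eq_one_iff _).mp hq1, rfl⟩
      have hW : IsPGroup p (Subgroup.zpowers (⟨w, hwO⟩ : ↥O0)) :=
        zpowers_isPGroup (n := j) (Subtype.ext hwpow)
      haveI hZn : (Zs.subgroupOf O0).Normal := (Subgroup.normal_subgroupOf_iff_le_normalizer hZO).mpr hO0le
      have hsup := hW.to_sup_of_normal_right (hZp.of_equiv (Subgroup.subgroupOfEquivOfLe hZO).symm)
      have hD0eq : (D0 : Subgroup ↥O0) = Zs.subgroupOf O0 := by
        refine Subgroup.map_injective O0.subtype_injective ?_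
        rw [Subgroup.map_subgroupOf_eq_of_le hZO, ← hD, hDZ]
      have h2 := D0.3 hsup (hD0eq ▸ le_sup_right)
      have h3 : (⟨w, hwO⟩ : ↥O0) ∈ Zs.subgroupOf O0 :=
        hD0eq ▸ (h2 ▸ Subgroup.mem_sup_left (Subgroup.mem_zpowers _) : (⟨w, hwO⟩ : ↥O0) ∈ (D0 : Subgroup ↥O0))
      exact hwZ h3
    -- so `Zs` contains a Sylow subgroup of `O_t`
    set O := centralizerPPrimeCore 2 t with hO
    have hOn : cc t ≤ Subgroup.normalizer (O : Set L) := cc_le_normalizer_core t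
    set G1 := O ⊔ Zs with hG1
    have hZc : Zs ≤ cc t := hZR.trans (H.oddC_le_cc ht)
    have hAG : A ≤ Subgroup.normalizer (G1 : Set L) := fun a ha => mem_normalizer_of_map_eq (by
      rw [hG1, Subgroup.map_sup, CfsgLib.Local.map_conj_eq_of_mem_normalizer (hOn (H.closed.mem_cc ht ha)),
        CfsgLib.Local.map_conj_eq_of_mem_normalizer (hAH0 ha)])
    haveI hOsub : (O.subgroupOf G1).Normal := (Subgroup.normal_subgroupOf_iff_le_normalizer le_sup_left).mpr
      (sup_le Subgroup.le_normalizer (hZc.trans hOn))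
    have hG1odd : Odd (Nat.card G1) := by
      have h1 : Nat.card G1 = Nat.card (O.subgroupOf G1) * (O.subgroupOf G1).index :=
        (Subgroup.card_mul_index _).symm
      rw [h1, Nat.card_congr (Subgroup.subgroupOfEquivOfLe le_sup_left).toEquiv]
      refine (odd_card_core t).mul (hZodd.of_dvd_nat ?_)
      rw [Subgroup.index_eq_card]
      refine Subgroup.card_dvd_of_surjective ((QuotientGroup.mk' (O.subgroupOf G1)).comp
        (Subgroup.inclusion (le_sup_right : Zs ≤ G1))) fun y => ?_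
      obtain ⟨⟨g, hg⟩, rfl⟩ := QuotientGroup.mk'_surjective _ y
      have hg' : g ∈ ((O ⊔ Zs : Subgroup L) : Set L) := hg
      rw [Subgroup.coe_mul_of_right_le_normalizer_left _ _ (hZc.trans hOn)] at hg'
      obtain ⟨o, ho, z, hz, hoz⟩ := hg'
      refine ⟨⟨z, hz⟩, QuotientGroup.eq.mpr ?_⟩
      show z⁻¹ * g ∈ O
      rw [← (hoz : o * z = g), show z⁻¹ * (o * z) = z⁻¹ * o * z by group]
      exact (Subgroup.mem_normalizer_iff''.mp (hOn (hZc hz)) o).mp ho
    obtain ⟨U, hZU, hAU⟩ := coprime_le_invariant_sylow hAG (hA8 ▸ (Nat.coprime_two_left.mpr hG1odd).pow_left 3)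
      (Or.inl hAsolv) (le_sup_right : Zs ≤ G1) hZp
      (hAH0.trans le_rfl)
    have hUZ := hmax _ (U.2.map G1.subtype) hZU hAU
    obtain ⟨P, hP⟩ := CfsgLib.CharPLocal.exists_sylow_subnormal U hOsub.isSubnormal
    let e : ↥(O.subgroupOf G1) ≃* ↥O := Subgroup.subgroupOfEquivOfLe le_sup_left
    refine ⟨P.mapSurjective (f := e.toMonoidHom) e.surjective, ?_⟩
    rintro _ ⟨_, ⟨z, hz, rfl⟩, rfl⟩
    have h1 : ((z : ↥G1) : L) ∈ Zs := hUZ ▸ ⟨z, (hP.le ⟨z, hz, rfl⟩).1, rfl⟩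
    exact oddC_le A (hZR h1)
  · -- every `Aut(P)` is soluble
    have hDn : n ∈ Subgroup.normalizer (A : Set L) := hnA
    -- move `n` into the normaliser of `D`
    have hnO : n ∈ Subgroup.normalizer (O0 : Set L) := hO0n hnZ
    let e : ↥O0 ≃* ↥O0 := MulDistribMulAction.toMulEquiv ↥O0 (⟨n, hnO⟩ : Subgroup.normalizer (O0 : Set L))
    obtain ⟨c, hc, hcD⟩ := coprime_invariant_sylow_conj (hAH0.trans hO0n) hcop (Or.inl hAsolv)
      (D0.mapSurjective (f := e.toMonoidHom) e.surjective) D0 (by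
        intro a ha
        refine mem_normalizer_of_maps ?_
        rintro _ ⟨_, ⟨d, hd, rfl⟩, rfl⟩
        have hb : n⁻¹ * a * n ∈ A := (Subgroup.mem_normalizer_iff''.mp hnA a).mp ha
        obtain ⟨d', hd', he'⟩ := (Subgroup.mem_normalizer_iff.mp (hD0 hb) (d : L)).mp ⟨d, hd, rfl⟩
        refine ⟨e d', ⟨d', hd', rfl⟩, ?_⟩
        show n * (d' : L) * n⁻¹ = a * (n * (d : L) * n⁻¹) * a⁻¹
        rw [show ((d' : ↥O0) : L) = n⁻¹ * a * n * (d : L) * (n⁻¹ * a * n)⁻¹ from he']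
        group) hD0
    have hn'D : (c : L) * n ∈ Subgroup.normalizer (D : Set L) := by
      refine mem_normalizer_of_maps ?_
      rintro _ ⟨d, hd, rfl⟩
      have h1 : MulAut.conj c (e d) ∈ (MulAut.conj c • D0.mapSurjective (f := e.toMonoidHom) e.surjective :
          Sylow p _).toSubgroup :=
        Subgroup.smul_mem_pointwise_smul _ _ _ (Subgroup.mem_map_of_mem _ hd)
      rw [hcD] at h1
      refine ⟨_, h1, ?_⟩
      show (c : L) * (n * d * n⁻¹) * (c : L)⁻¹ = (c : L) * n * d * ((c : L) * n)⁻¹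
      group
    have hn'A : (c : L) * n ∈ Subgroup.normalizer (A : Set L) :=
      mul_mem (Subgroup.centralizer_le_normalizer _ hc) hDn
    obtain ⟨R, hR⟩ := H.exists_zj_soluble hp2 (D0.2.map O0.subtype) hn'A hn'D
      (htr.congr hnA fun a ha => by
        have h2 : n * a * n⁻¹ ∈ A := (Subgroup.mem_normalizer_iff.mp hnA a).mp ha
        calc (c : L) * n * a * ((c : L) * n)⁻¹ = c * (n * a * n⁻¹) * (c : L)⁻¹ := by group
          _ = n * a * n⁻¹ := by rw [← hc _ h2, mul_inv_cancel_right]) hD0 hcase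
    obtain ⟨E, hE⟩ := H.exists_atT ht ht1
    obtain ⟨P, hP⟩ := coprime_exists_invariant_sylow
      ((H.closed.le_cc ht).trans (cc_le_normalizer_core t))
      (hA8 ▸ (Nat.coprime_two_left.mpr (odd_card_core t)).pow_left 3) (Or.inl hAsolv) p
    obtain ⟨K, C, hKP⟩ := H.exists_cover hE P
    have hKc := H.perfect_centralizes_pgroup hp2 hR (P.2.map _) C.perfect hKP
    refine ⟨P, fun x hx a ha => ?_⟩
    exact (H.centralizes_of_cover ht ht1 hE C ((Subgroup.map_subtype_le _).trans (core_le_cc t)) hP hKc ha x hx).symm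

end EightHyp

end CfsgLib.S3Simple
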