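import Cfsg.Agent.Lib.S3Simple.Eight.Field

/-!
The 3-subgroups of the components: the centraliser and the normaliser of one in `L` have their 3-parts inside
`C(t)`.

Blueprint: `blueprint/S3Free.md`, 5.3 and 5.4.
-/

set_option autoImplicit false
set_option linter.unusedSectionVars false
set_option linter.style.haveILetI false

namespace CfsgLib.S3Simple

open Cfsg CfsgLib.Comp CfsgLib.AfterFT.CoreSep

universe u

variable {L : Type u} [Group L] [Finite L]

namespace EightHyp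

variable {S : Sylow 2 L} {A : Subgroup L} (H : EightHyp S A)
include H

theorem A_le_cc {t : L} (ht : t ∈ A) : A ≤ cc t := fun _ ha => mem_cc.mpr (H.comm ha ht)

theorem sq_eq {a : L} (ha : a ∈ A) : a * a = 1 := by
  rw [← pow_two]
  exact H.closed.elem.2 a ha

/-- The 2-elements of `C(t)` lie in `⟨t⟩ × E`. -/
theorem two_mem {t : L} {E : Subgroup L} (hE : AtL A t E) (ht : t ∈ A) (ht1 : t ≠ 1) {W : Subgroup L}
    (hW : IsPGroup 2 W) (hle : W ≤ cc t) : ∀ w ∈ W, w ∈ E ∨ t * w ∈ E := by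
  haveI : Fact (Nat.Prime 2) := ⟨Nat.prime_two⟩
  intro w hw
  let A' : Sylow 2 ↥(cc t) := S.subtype (H.S_eq.trans_le (H.A_le_cc ht))
  obtain ⟨Q, hQ⟩ := (hW.comap_of_injective (cc t).subtype (cc t).subtype_injective).exists_le_sylow
  obtain ⟨g, hg⟩ := MulAction.exists_smul_eq ↥(cc t) A' Q
  have hwQ : (⟨w, hle hw⟩ : ↥(cc t)) ∈ (Q : Subgroup ↥(cc t)) := hQ hw
  rw [← hg, Sylow.coe_subgroup_smul, Subgroup.mem_pointwise_smul_iff_inv_smul_mem] at hwQ
  have ha : (g : L)⁻¹ * w * g ∈ A := by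
    have h : ((MulAut.conj g)⁻¹ • (⟨w, hle hw⟩ : ↥(cc t)) : ↥(cc t)).1 ∈ (S : Subgroup L) := hwQ
    rw [← H.S_eq]
    simpa using h
  have hgN : (g : L) ∈ Subgroup.normalizer (E : Set L) := hE.norm g.2
  rcases H.mem_zpowers_of_two hE ht ht1 ha with h | h
  · left
    have := (Subgroup.mem_normalizer_iff.mp hgN _).mp h
    rwa [show (g : L) * ((g : L)⁻¹ * w * g) * (g : L)⁻¹ = w by group] at this
  · right
    have := (Subgroup.mem_normalizer_iff.mp hgN _).mp h
    rwa [show (g : L) * (t * ((g : L)⁻¹ * w * g)) * (g : L)⁻¹ = t * w by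
      rw [← mul_assoc, mem_cc.mp g.2, mul_assoc t, mul_assoc t]
      group] at this

/-- Frattini: `C(t) = E · N(A)`. -/
theorem frattini_cc {t : L} {E : Subgroup L} (hE : AtL A t E) (ht : t ∈ A) (ht1 : t ≠ 1) {c : L} (hc : c ∈ cc t) :
    ∃ e ∈ E, e * c ∈ Subgroup.normalizer (A : Set L) := by
  classical
  haveI : Fact (Nat.Prime 2) := ⟨Nat.prime_two⟩
  obtain ⟨k, hkN, hkE, htr, -⟩ := hE.kappa
  -- the Sylow subgroup of the component
  let V : Subgroup ↥E := (A ⊓ E).subgroupOf E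
  have hV4 : Nat.card V = 4 := (Nat.card_congr (Subgroup.subgroupOfEquivOfLe inf_le_right).toEquiv).trans hE.inter
  obtain ⟨P, hP⟩ := (IsPGroup.of_card (n := 2) hV4 : IsPGroup 2 V).exists_le_sylow
  have hPV : (P : Subgroup ↥E) = V := by
    refine (Subgroup.eq_of_le_of_card_ge hP ?_).symm
    have hPp : IsPGroup 2 ((P : Subgroup ↥E).map E.subtype) := P.2.map _
    have hn : (P : Subgroup ↥E).map E.subtype ≤ Subgroup.centralizer ({t} : Set L) := by
      rintro _ ⟨p, -, rfl⟩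
      exact Subgroup.mem_centralizer_singleton_iff.mpr (mem_cc.mp (hE.le p.2))
    have htn : Subgroup.zpowers t ≤ Subgroup.normalizer (((P : Subgroup ↥E).map E.subtype : Subgroup L) : Set L) := by
      rw [Subgroup.zpowers_le]
      refine mem_normalizer_of_maps fun y hy => ?_
      rwa [← Subgroup.mem_centralizer_singleton_iff.mp (hn hy), mul_inv_cancel_right]
    have h2 : IsPGroup 2 ↥(Subgroup.zpowers t ⊔ (P : Subgroup ↥E).map E.subtype) :=
      (IsPGroup.of_card (n := 1) (by rw [Nat.card_zpowers,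
        orderOf_eq_prime (H.closed.elem.2 t ht) ht1, pow_one])).to_sup_of_normal_right' hPp htn
    have h8 := H.card_two_le h2
    by_contra hlt
    push Not at hlt
    have htnot : t ∉ (P : Subgroup ↥E).map E.subtype := by
      rintro ⟨p, -, hp⟩
      obtain ⟨v, hv, hv1⟩ : ∃ v ∈ A ⊓ E, v ≠ 1 := by
        haveI : Nontrivial ↥(A ⊓ E) := Finite.one_lt_card_iff_nontrivial.mp (hE.inter.symm ▸ by norm_num)
        obtain ⟨⟨v, hv⟩, hv1⟩ := exists_ne (1 : ↥(A ⊓ E))
        exact ⟨v, hv, fun e => hv1 (Subtype.ext e)⟩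
      obtain ⟨i, hi⟩ := htr t ⟨ht, hp ▸ p.2⟩ ht1 v hv hv1
      rw [mem_cc.mp ((cc t).pow_mem (hE.le hkE) i), mul_inv_cancel_right] at hi
      subst hi
      have hall : ∀ w ∈ A ⊓ E, w ≠ 1 → w = t := fun w hw hw1 => by
        obtain ⟨j, hj⟩ := htr t hv ht1 w hw hw1
        rwa [mem_cc.mp ((cc t).pow_mem (hE.le hkE) j), mul_inv_cancel_right, eq_comm] at hj
      let f : Fin 2 → ↥(A ⊓ E) := ![1, ⟨t, hv⟩]
      have hs : Function.Surjective f := fun w => by
        by_cases hw : w = 1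
        · exact ⟨0, hw.symm⟩
        · exact ⟨1, Subtype.ext (hall w w.2 fun e => hw (Subtype.ext e)).symm⟩
      have := Nat.card_le_card_of_surjective f hs
      rw [Nat.card_fin, hE.inter] at this
      omega
    have hgt8 : Nat.card ((P : Subgroup ↥E).map E.subtype) < 8 := by
      refine lt_of_lt_of_le (lt_of_le_of_ne (Subgroup.card_le_of_le le_sup_right) fun e => htnot ?_) h8
      rw [Subgroup.eq_of_le_of_card_ge le_sup_right e.ge]
      exact Subgroup.mem_sup_left (Subgroup.mem_zpowers t)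
    rw [Subgroup.card_map_of_injective E.subtype_injective] at hgt8
    obtain ⟨j, hj⟩ := IsPGroup.iff_card.mp P.2
    rw [hj] at hgt8 hlt
    rw [hV4] at hlt
    have h1 : 2 ^ j < 2 ^ 3 := hgt8
    have h1' : 2 ^ 2 < 2 ^ j := hlt
    rw [Nat.pow_lt_pow_iff_right (by norm_num)] at h1 h1'
    omega
  have hcE : c ∈ Subgroup.normalizer (E : Set L) := hE.norm hc
  let φ : MulAut ↥E := E.normalizerMonoidHom ⟨c, hcE⟩
  let P' : Sylow 2 ↥E := (P.2.map φ.toMonoidHom).toSylow (by
    rw [show ((P : Subgroup ↥E).map φ.toMonoidHom).index = (P : Subgroup ↥E).index from Subgroup.index_map_equiv _ φ]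
    exact P.not_dvd_index)
  obtain ⟨e, he⟩ := MulAction.exists_smul_eq ↥E P' P
  have hec : (e : L) * c ∈ Subgroup.normalizer (A : Set L) := by
    have hV : ∀ v ∈ A ⊓ E, (e : L) * c * v * ((e : L) * c)⁻¹ ∈ A := by
      intro v hv
      have h1 : φ ⟨v, hv.2⟩ ∈ (P' : Subgroup ↥E) := ⟨⟨v, hv.2⟩, hPV ▸ hv, rfl⟩
      have h2 : MulAut.conj e (φ ⟨v, hv.2⟩) ∈ (P : Subgroup ↥E) := by
        rw [← he, Sylow.coe_subgroup_smul]
        exact Subgroup.smul_mem_pointwise_smul _ _ _ h1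
      rw [hPV] at h2
      have h3 : (e : L) * (c * v * c⁻¹) * (e : L)⁻¹ ∈ A := h2.1
      rwa [show (e : L) * c * v * ((e : L) * c)⁻¹ = (e : L) * (c * v * c⁻¹) * (e : L)⁻¹ by group]
    refine mem_normalizer_of_maps fun a ha => ?_
    have hec' : (e : L) * c ∈ cc t := (cc t).mul_mem (hE.le e.2) hc
    rcases H.mem_zpowers_of_two hE ht ht1 ha with h | h
    · exact hV a ⟨ha, h⟩
    · have h1 := A.mul_mem ht (hV _ ⟨A.mul_mem ht ha, h⟩)
      rwa [show t * ((e : L) * c * (t * a) * ((e : L) * c)⁻¹) = (e : L) * c * a * ((e : L) * c)⁻¹ by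
        rw [← mul_assoc ((e : L) * c) t a, mem_cc.mp hec', mul_assoc t, mul_assoc t, ← mul_assoc t t,
          H.sq_eq ht, one_mul]] at h1
  exact ⟨e, e.2, hec⟩

variable {t : L} {E U : Subgroup L} (hE : AtL A t E) (ht : t ∈ A) (ht1 : t ≠ 1) (hUE : U ≤ E) (hU : IsPGroup 3 U)
  (hU1 : U ≠ ⊥)
include hE ht ht1 hUE hU hU1

/-- The 2-elements centralising `U` are the powers of `t`. -/
theorem two_cent {W : Subgroup L} (hW : IsPGroup 2 W) (hWU : W ≤ Subgroup.centralizer (U : Set L))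
    (htW : t ∈ W) : W = Subgroup.zpowers t := by
  classical
  haveI : Fact (Nat.Prime 3) := ⟨Nat.prime_three⟩
  haveI : Fact (Nat.Prime 2) := ⟨Nat.prime_two⟩
  refine le_antisymm (fun w hw => ?_) (Subgroup.zpowers_le.mpr htW)
  obtain ⟨Q, hQ⟩ := hW.exists_le_sylow
  obtain ⟨x, hx⟩ := MulAction.exists_smul_eq L S Q
  have hab : ∀ a ∈ W, ∀ b ∈ W, a * b = b * a ∧ a * a = 1 := by
    intro a ha b hb
    have ha' := hQ ha
    have hb' := hQ hb
    rw [← hx, Sylow.coe_subgroup_smul, Subgroup.mem_pointwise_smul_iff_inv_smul_mem, H.S_eq] at ha' hb'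
    refine ⟨(MulAut.conj x).symm.injective ?_, (MulAut.conj x).symm.injective ?_⟩
    · rw [map_mul, map_mul]
      exact H.comm ha' hb'
    · rw [map_mul, map_one]
      exact H.sq_eq ha'
  have hWc : W ≤ cc t := fun a ha => mem_cc.mpr (hab a ha t htW).1
  have ht2 : t⁻¹ = t := inv_eq_of_mul_eq_one_left (H.sq_eq ht)
  have key : ∀ e ∈ E, e ∈ W → e = 1 := by
    intro e he heW
    by_contra he1
    obtain ⟨F, i1, i2, m, D, ⟨f⟩⟩ := hE.model
    haveI := D.charP
    obtain ⟨u, hu⟩ := exists_prime_orderOf_dvd_card' (G := U) 3 (by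
      obtain ⟨n, hn⟩ := IsPGroup.iff_card.mp hU
      rcases n with - | n
      · exact absurd (Subgroup.card_eq_one.mp (hn.trans (pow_zero 3))) hU1
      · exact ⟨3 ^ n, by rw [hn, pow_succ]; ring⟩)
    set b := f ⟨e, he⟩ with hb
    have hb1 : b ≠ 1 := fun h => he1 (congrArg Subtype.val (f.injective (h.trans (map_one f).symm)))
    have hb2 : b * b = 1 := by
      rw [hb, ← map_mul, show (⟨e, he⟩ : E) * ⟨e, he⟩ = 1 from Subtype.ext (hab e heW e heW).2, map_one]
    have hc : f ⟨(u : L), hUE u.2⟩ ∈ Subgroup.centralizer {b} := by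
      rw [Subgroup.mem_centralizer_singleton_iff, hb, ← map_mul, ← map_mul]
      exact congrArg f (Subtype.ext (hWU heW u u.2))
    have h3 := Subgroup.orderOf_dvd_natCard _ hc
    rw [ReeTori.card_cent_invol D hb1 hb2, MulEquiv.orderOf_eq, Subgroup.orderOf_mk,
      Subgroup.orderOf_coe, hu, D.hq] at h3
    have : 3 ∣ 3 ^ (2 * m + 1) := dvd_pow_self 3 (by omega)
    omega
  rcases H.two_mem hE ht ht1 hW hWc w hw with h | h
  · rw [key w h hw]
    exact one_mem _
  · have h1 := key _ h (W.mul_mem htW hw)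
    rw [← inv_eq_of_mul_eq_one_right h1, ht2]
    exact Subgroup.mem_zpowers t

/-- The 3-part of the centraliser and of the normaliser of `U` lies in `C(t)`. -/
theorem three_local : ¬ 3 ∣ (cc t).relIndex (Subgroup.centralizer (U : Set L)) ∧
    (¬ 3 ∣ (cc t).relIndex (Subgroup.normalizer (U : Set L))) ∧
    ∀ g ∈ Subgroup.normalizer (U : Set L), ∃ c ∈ Subgroup.centralizer (U : Set L), c * g ∈ cc t := by
  classical
  haveI : Fact (Nat.Prime 2) := ⟨Nat.prime_two⟩
  haveI : Fact (Nat.Prime 3) := ⟨Nat.prime_three⟩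
  set C := Subgroup.centralizer (U : Set L) with hC
  have htC : t ∈ C := fun u hu => (mem_cc.mp (hE.le (hUE hu)))
  have ht2 : orderOf t = 2 := orderOf_eq_prime (H.closed.elem.2 t ht) ht1
  -- the Sylow 2-subgroup of the centraliser
  have hTp : IsPGroup 2 ↥((Subgroup.zpowers t).subgroupOf C) :=
    (IsPGroup.of_card (n := 1) (by rw [Nat.card_zpowers, ht2, pow_one])).comap_of_injective C.subtype
      C.subtype_injective
  obtain ⟨T, hT⟩ := hTp.exists_le_sylow
  have hTeq : (T : Subgroup ↥C) = (Subgroup.zpowers t).subgroupOf C := by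
    refine le_antisymm ?_ hT
    have h := H.two_cent hE ht ht1 hUE hU hU1 (T.2.map C.subtype) (Subgroup.map_subtype_le _)
      ⟨⟨t, htC⟩, hT (Subgroup.mem_zpowers t), rfl⟩
    intro z hz
    rw [Subgroup.mem_subgroupOf, ← h]
    exact ⟨z, hz, rfl⟩
  have hNT : Subgroup.normalizer ((T : Subgroup ↥C) : Set ↥C) ≤ Subgroup.centralizer ((T : Subgroup ↥C) : Set ↥C) := by
    intro g hg z hz
    have hfix : g * ⟨t, htC⟩ * g⁻¹ = ⟨t, htC⟩ := by
      have h1 : g * ⟨t, htC⟩ * g⁻¹ ∈ (T : Subgroup ↥C) :=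
        (Subgroup.mem_normalizer_iff.mp hg _).mp (hTeq ▸ Subgroup.mem_zpowers t)
      rw [hTeq, Subgroup.mem_subgroupOf, ← mem_powers_iff_mem_zpowers] at h1
      obtain ⟨i, hi⟩ := h1
      have hi' : t ^ i = (g : L) * t * (g : L)⁻¹ := hi
      rcases Nat.even_or_odd' i with ⟨j, rfl | rfl⟩
      · exfalso
        rw [pow_mul, H.closed.elem.2 t ht, one_pow, eq_comm, conj_eq_one_iff] at hi'
        exact ht1 hi'
      · rw [pow_succ, pow_mul, H.closed.elem.2 t ht, one_pow, one_mul] at hi'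
        exact Subtype.ext hi'.symm
    rw [hTeq] at hz
    obtain ⟨i, hi⟩ : (z : L) ∈ Subgroup.zpowers t := hz
    refine Subtype.ext ?_
    show (z : L) * g = g * z
    rw [← hi]
    have h2 : (g : L) * t = t * g := mul_inv_eq_iff_eq_mul.mp (congrArg Subtype.val hfix)
    exact ((show Commute (g : L) t from h2).zpow_right i).eq.symm
  have hcompl := MonoidHom.ker_transferSylow_isComplement' T hNT
  set O := (MonoidHom.transferSylow T hNT).ker with hO
  have hTcard : Nat.card (T : Subgroup ↥C) = 2 := by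
    rw [hTeq, Nat.card_congr (Subgroup.subgroupOfEquivOfLe (Subgroup.zpowers_le.mpr htC)).toEquiv,
      Nat.card_zpowers, ht2]
  -- a Sylow 3-subgroup of the complement normalised by a conjugate of `t`
  let P : Sylow 3 O := default
  have hPC : ∀ Q : Sylow 3 ↥C, ∀ z : ↥C, orderOf z = 2 → z ∈ Subgroup.normalizer ((Q : Subgroup ↥C) : Set ↥C) →
      ∀ y ∈ (Q : Subgroup ↥C), y * z = z * y := fun Q z hz hzN y hy =>
    two_centralizes_three (j := 1) (free_subgroup H.hyp.free C)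
      (by rw [pow_one]; exact hz) Q.2 hzN y hy
  have hOidx : O.index = 2 := by rw [hcompl.symm.index_eq_card, hTcard]
  -- Frattini
  have hQ3 : ¬ 3 ∣ ((P : Subgroup O).map O.subtype).index := by
    rw [← Subgroup.relIndex_mul_index (Subgroup.map_subtype_le (P : Subgroup O)), hOidx, Subgroup.relIndex,
      Subgroup.subgroupOf, Subgroup.comap_map_eq_self_of_injective O.subtype_injective]
    intro h
    exact P.not_dvd_index ((Nat.Coprime.dvd_of_dvd_mul_right (by norm_num) h))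
  let Q : Sylow 3 ↥C := (P.2.map O.subtype).toSylow hQ3
  haveI : O.Normal := MonoidHom.normal_ker _
  have hfrat := Sylow.normalizer_sup_eq_top P
  set N := Subgroup.normalizer ((Q : Subgroup ↥C) : Set ↥C) with hN
  have heven : 2 ∣ Nat.card N := by
    have h1 : O.relIndex N = 2 := by
      rw [← hOidx, ← Subgroup.relIndex_top_right, ← hfrat]
      exact (Subgroup.relIndex_sup_right (H := N) (K := O)).symm
    exact (h1 ▸ Subgroup.relIndex_dvd_card O N : 2 ∣ Nat.card N)
  obtain ⟨z, hz⟩ := exists_prime_orderOf_dvd_card' (G := N) 2 heven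
  rw [← Subgroup.orderOf_coe] at hz
  obtain ⟨T', hT'⟩ := (IsPGroup.of_card (G := ↥(Subgroup.zpowers (z : ↥C))) (n := 1) (p := 2)
    (by rw [Nat.card_zpowers, hz, pow_one])).exists_le_sylow
  obtain ⟨c, hc⟩ := MulAction.exists_smul_eq ↥C T' T
  have hzT : MulAut.conj c (z : ↥C) ∈ (T : Subgroup ↥C) := by
    rw [← hc, Sylow.coe_subgroup_smul]
    exact Subgroup.smul_mem_pointwise_smul _ _ _ (hT' (Subgroup.mem_zpowers _))
  have hzt : ((MulAut.conj c (z : ↥C) : ↥C) : L) = t := by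
    rw [hTeq, Subgroup.mem_subgroupOf, ← mem_powers_iff_mem_zpowers] at hzT
    obtain ⟨i, hi⟩ := hzT
    have hi' : t ^ i = ((MulAut.conj c (z : ↥C) : ↥C) : L) := hi
    rcases Nat.even_or_odd' i with ⟨j, rfl | rfl⟩
    · exfalso
      rw [pow_mul, H.closed.elem.2 t ht, one_pow] at hi'
      have h1 : (z : ↥C) = 1 := (MulAut.conj c).injective ((Subtype.ext hi'.symm).trans (map_one _).symm)
      rw [h1, orderOf_one] at hz
      norm_num at hz
    · rw [pow_succ, pow_mul, H.closed.elem.2 t ht, one_pow, one_mul] at hi'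
      exact hi'.symm
  -- the conjugate of `Q` lies in `C(t)`
  have hle : ((c • Q : Sylow 3 ↥C) : Subgroup ↥C) ≤ (cc t).subgroupOf C := by
    intro y hy
    rw [Sylow.coe_subgroup_smul, Subgroup.mem_pointwise_smul_iff_inv_smul_mem] at hy
    have h1 := hPC Q z hz z.2 _ hy
    have h2 := congrArg (MulAut.conj c) h1
    rw [map_mul, map_mul, MulAut.smul_def, MulAut.apply_inv_self] at h2
    rw [Subgroup.mem_subgroupOf, mem_cc, ← hzt]
    exact congrArg Subtype.val h2
  have hC3 : ¬ 3 ∣ (cc t).relIndex C := fun h =>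
    (c • Q).not_dvd_index (h.trans (Subgroup.index_dvd_of_le hle))
  refine ⟨hC3, ?_⟩
  set NU := Subgroup.normalizer (U : Set L) with hNU
  have hCN : C ≤ NU := Subgroup.centralizer_le_normalizer _
  suffices hfac : ∀ g : ↥NU, ∃ d : ↥C, (d : L) * g ∈ cc t by
    refine ⟨fun h => hC3 (h.trans (dvd_of_eq ?_)), fun g hg => ?_⟩
    · refine (Nat.card_eq_of_bijective _
        ⟨(Subgroup.quotientSubgroupOfEmbeddingOfLE (cc t) hCN).injective, ?_⟩).symm
      rintro ⟨g⟩
      obtain ⟨d, hdg⟩ := hfac g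
      refine ⟨QuotientGroup.mk d⁻¹, ?_⟩
      rw [Subgroup.quotientSubgroupOfEmbeddingOfLE_apply_mk]
      refine QuotientGroup.eq.mpr ?_
      rw [Subgroup.mem_subgroupOf]
      simpa using hdg
    · obtain ⟨d, hd⟩ := hfac ⟨g, hg⟩
      exact ⟨d, d.2, hd⟩
  intro g
  -- `g t g⁻¹` is a conjugate of `t` in the centraliser
  have hgt : (g : L) * t * (g : L)⁻¹ ∈ C := fun u hu => by
    have h := htC ((g : L)⁻¹ * u * g) ((Subgroup.mem_normalizer_iff''.mp g.2 u).mp hu)
    calc u * ((g : L) * t * (g : L)⁻¹) = g * (((g : L)⁻¹ * u * g) * t) * (g : L)⁻¹ := by group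
      _ = g * (t * ((g : L)⁻¹ * u * g)) * (g : L)⁻¹ := by rw [h]
      _ = (g : L) * t * (g : L)⁻¹ * u := by group
  have hgo : orderOf (⟨_, hgt⟩ : ↥C) = 2 := by
    rw [Subgroup.orderOf_mk, show (g : L) * t * (g : L)⁻¹ = MulAut.conj (g : L) t from rfl,
      MulEquiv.orderOf_eq, ht2]
  obtain ⟨T'', hT''⟩ := (IsPGroup.of_card (G := ↥(Subgroup.zpowers (⟨_, hgt⟩ : ↥C))) (n := 1) (p := 2)
    (by rw [Nat.card_zpowers, hgo, pow_one])).exists_le_sylow
  obtain ⟨d, hd⟩ := MulAction.exists_smul_eq ↥C T'' T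
  have hdT : MulAut.conj d (⟨_, hgt⟩ : ↥C) ∈ (T : Subgroup ↥C) := by
    rw [← hd, Sylow.coe_subgroup_smul]
    exact Subgroup.smul_mem_pointwise_smul _ _ _ (hT'' (Subgroup.mem_zpowers _))
  rw [hTeq, Subgroup.mem_subgroupOf, ← mem_powers_iff_mem_zpowers] at hdT
  obtain ⟨i, hi⟩ := hdT
  have hi' : t ^ i = (d : L) * ((g : L) * t * (g : L)⁻¹) * (d : L)⁻¹ := hi
  have hdg : (d : L) * g ∈ cc t := by
    rcases Nat.even_or_odd' i with ⟨j, rfl | rfl⟩
    · exfalso
      rw [pow_mul, H.closed.elem.2 t ht, one_pow, eq_comm, conj_eq_one_iff, conj_eq_one_iff] at hi'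
      exact ht1 hi'
    · rw [pow_succ, pow_mul, H.closed.elem.2 t ht, one_pow, one_mul] at hi'
      rw [mem_cc]
      conv_rhs => arg 1; rw [hi']
      group
  exact ⟨d, hdg⟩

end EightHyp

end CfsgLib.S3Simple
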